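import Cfsg.Agent.Blocks.Star.AbelianLocal
import Cfsg.Agent.BrauerPairs.FirstMain
import Cfsg.Agent.Blocks.SecondMain
import Mathlib.GroupTheory.FiniteAbelian.Duality
import Mathlib.RingTheory.RootsOfUnity.AlgebraicallyClosed

/-!
# Watanabe's theorem

If `u` in the abelian defect group is fixed by the inertial quotient then the block and its
correspondent in the centraliser of `u` have the same numbers of ordinary and modular characters.
-/

namespace Cfsg.Agent.Blocks.Star

open Cfsg.Agent Cfsg.Agent.Blocks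

universe u

variable {G : Type u} [Group G] [Fintype G] {p : ℕ} {M : Ideal Cfsg.AlgInt}
  {B : Set (Cfsg.IrrCharacter G)} {P : Subgroup G}
  {c : Set (Cfsg.IrrCharacter (Subgroup.centralizer (P : Set G)))}

local notation "CG[" Q "]" => Subgroup.centralizer ((Q : Subgroup G) : Set G)
local notation "sbc" => Cfsg.subgroupBlockCoeff

section

variable (hM : Cfsg.IsPModular p M) (hmax : Cfsg.IsMaximalBrauerPair p M B P c)
  (hab : ∀ x ∈ P, ∀ y ∈ P, x * y = y * x) (T : Subgroup G)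
  (hT : ∀ g : G, g ∈ T ↔ BrauerPairs.conjPair g ⟨P, c⟩ = ⟨P, c⟩)
include hM hmax hab hT

omit [Fintype G] hM hmax hab in
theorem conj_mem_of_stabilizer {t x : G} (ht : t ∈ T) (hx : x ∈ P) : t * x * t⁻¹ ∈ P := by
  have himg : P.map (MulAut.conj t).toMonoidHom = P := congrArg Sigma.fst ((hT t).1 ht)
  rw [← himg]
  exact ⟨x, hx, rfl⟩

/-- An element of `p`-power order stabilizing the pair centralizes `P`. -/
theorem mem_centralizer_of_stabilizer {t : G} (ht : t ∈ T) (htp : ∃ k, orderOf t = p ^ k) :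
    t ∈ CG[P] := by
  haveI := Fact.mk hM.1
  obtain ⟨h1, h2⟩ := (BrauerPairs.conjPair_eq_iff hM hmax.1.1.2 t).1 ((hT t).1 ht)
  have h := BrauerPairs.mem_sup_of_maximal hM hmax h1 h2 htp
  rwa [sup_of_le_right (le_centralizer_of_abelian hab le_rfl)] at h

open scoped Classical in
/-- A linear character of `P` invariant under the stabilizer, trivial on a given set of fixed
points, and not at a given further fixed point. -/
theorem exists_invariant_hom (S : Subgroup G) (hS : S ≤ T) (Z : Subgroup P)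
    (hZfix : ∀ z ∈ Z, ∀ t ∈ S, t * ((z : P) : G) * t⁻¹ = z) (u : P) (hu : u ∉ Z)
    (hufix : ∀ t ∈ S, t * (u : G) * t⁻¹ = u) :
    ∃ l : P →* ℂˣ, (∀ t ∈ S, ∀ x y : P, (y : G) = t * x * t⁻¹ → l y = l x) ∧
      (∀ z ∈ Z, l z = 1) ∧ l ≠ 1 := by
  haveI := Fact.mk hM.1
  have hp := hM.1
  letI : CommGroup P :=
    { (inferInstance : Group P) with mul_comm := fun a b => Subtype.ext (hab a a.2 b b.2) }
  have hmem : ∀ (t : S) (x : P), (t : G) * x * (t : G)⁻¹ ∈ P := fun t x =>
    conj_mem_of_stabilizer (c := c) T hT (hS t.2) x.2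
  -- the action of `S`
  let φ : S →* MulAut P :=
    { toFun := fun t =>
        { toFun := fun x => ⟨(t : G) * x * (t : G)⁻¹, hmem t x⟩
          invFun := fun x => ⟨(t : G)⁻¹ * x * (t : G), by simpa using hmem t⁻¹ x⟩
          left_inv := fun x => Subtype.ext (by group)
          right_inv := fun x => Subtype.ext (by group)
          map_mul' := fun a b => Subtype.ext (by push_cast; group) }
      map_one' := MulEquiv.ext fun x => Subtype.ext (by simp)
      map_mul' := fun a b => MulEquiv.ext fun x => Subtype.ext (by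
        show ((a * b : S) : G) * x * ((a * b : S) : G)⁻¹ =
          (a : G) * ((b : G) * x * (b : G)⁻¹) * (a : G)⁻¹
        push_cast; group) }
  have hφ : ∀ t x, ((φ t x : P) : G) = (t : G) * x * (t : G)⁻¹ := fun _ _ => rfl
  have hA : ¬ p ∣ Nat.card φ.range := by
    intro hd
    obtain ⟨⟨_, s, rfl⟩, hs⟩ := exists_prime_orderOf_dvd_card' p hd
    rw [← Subgroup.orderOf_coe] at hs
    change orderOf (φ s) = p at hs
    obtain ⟨m, hm⟩ : ∃ n : ℕ, (s : G) ^ n = pPartOf p (s : G) := ⟨_, rfl⟩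
    have h1 : φ (s ^ m) = 1 := MulEquiv.ext fun x => Subtype.ext (by
      rw [hφ]
      show ((s ^ m : S) : G) * x * ((s ^ m : S) : G)⁻¹ = x
      rw [Subgroup.coe_pow, hm]
      have hC := mem_centralizer_of_stabilizer hM hmax hab T hT
        (by rw [← hm]; exact T.pow_mem (hS s.2) m) (orderOf_pPartOf hp (s : G))
      rw [← Subgroup.mem_centralizer_iff.1 hC x x.2, mul_inv_cancel_right])
    have h2 : φ ((s ^ m)⁻¹ * s) = φ s := by rw [map_mul, map_inv, h1, inv_one, one_mul]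
    have h3 : orderOf (φ s) ∣ orderOf ((s ^ m)⁻¹ * s) := h2 ▸ orderOf_map_dvd φ _
    have h4 : (((s ^ m)⁻¹ * s : S) : G) = pPrimePartOf p (s : G) := by
      rw [Subgroup.coe_mul, Subgroup.coe_inv, Subgroup.coe_pow, hm]
      nth_rw 2 [← pPartOf_mul_pPrimePartOf hp (s : G)]
      rw [inv_mul_cancel_left]
    rw [hs, ← Subgroup.orderOf_coe, h4] at h3
    exact not_dvd_orderOf_pPrimePartOf hp _ h3
  letI := Fintype.ofFinite φ.range
  let π : P →* P :=
    { toFun := fun x => ∏ a : φ.range, (a : MulAut P) x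
      map_one' := Finset.prod_eq_one fun a _ => map_one _
      map_mul' := fun x y => by simp only [map_mul, Finset.prod_mul_distrib] }
  have hπinv : ∀ (t : S) (x : P), π (φ t x) = π x := fun t x =>
    Fintype.prod_equiv (Equiv.mulRight ⟨φ t, t, rfl⟩) _ _ fun a => rfl
  have hπfix : ∀ x : P, (∀ t ∈ S, t * (x : G) * t⁻¹ = x) → π x = x ^ Nat.card φ.range := by
    intro x hx
    show ∏ a : φ.range, (a : MulAut P) x = _
    rw [Finset.prod_congr rfl (g := fun _ => x) fun a _ => ?_, Finset.prod_const, Finset.card_univ,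
      Nat.card_eq_fintype_card]
    obtain ⟨_, t, rfl⟩ := a
    exact Subtype.ext (hx t t.2)
  obtain ⟨k, hk⟩ := IsPGroup.iff_orderOf.1 hmax.1.1.1 u
  have hπu : π u ∉ Z := by
    rw [hπfix u hufix]
    intro h
    refine hu ?_
    have hco : Nat.Coprime (Nat.card φ.range) (orderOf u) := by
      rw [hk]
      exact Nat.Coprime.pow_right k ((hp.coprime_iff_not_dvd.2 hA).symm)
    obtain ⟨m, hm⟩ := exists_pow_eq_self_of_coprime hco
    rw [← hm]
    exact Z.pow_mem h m
  haveI : NeZero (Monoid.exponent (P ⧸ Z)) := ⟨Monoid.exponent_ne_zero_of_finite⟩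
  obtain ⟨μ, hμ⟩ := CommGroup.exists_apply_ne_one_of_hasEnoughRootsOfUnity (P ⧸ Z) ℂ
    (fun h => hπu ((QuotientGroup.eq_one_iff (π u)).1 h))
  refine ⟨μ.comp ((QuotientGroup.mk' Z).comp π), fun t ht x y hy => ?_, fun z hz => ?_, fun h => ?_⟩
  · have e : y = φ ⟨t, ht⟩ x := Subtype.ext hy
    show μ (π y : P ⧸ Z) = μ (π x : P ⧸ Z)
    rw [e, hπinv]
  · show μ (π z : P ⧸ Z) = 1
    rw [hπfix z (fun t ht => hZfix z hz t ht),
      (QuotientGroup.eq_one_iff _).2 (Z.pow_mem hz _), map_one]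
  · exact hμ (DFunLike.congr_fun h u)

open scoped Classical in
/-- Adjoining a point fixed by the stabilizer does not change the rank. -/
theorem rank_eq_of_fixed : ∀ (n : ℕ) (Q : Subgroup G), Q ≤ P → Nat.card CG[Q] = n →
    ∀ u ∈ P, (∀ t ∈ T ⊓ CG[Q], t * u * t⁻¹ = u) →
    ∀ (fQ : Set (Cfsg.IrrCharacter CG[Q]))
      (fR : Set (Cfsg.IrrCharacter CG[Q ⊔ Subgroup.zpowers u])),
      Cfsg.SubpairLE p M Q fQ P c → Cfsg.SubpairLE p M (Q ⊔ Subgroup.zpowers u) fR P c →
      Cfsg.blockRank p fQ = Cfsg.blockRank p fR := by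
  haveI := Fact.mk hM.1
  intro n
  induction n using Nat.strong_induction_on with
  | _ n ih =>
  intro Q hQ hn u hu hfix fQ fR hfQ hfR
  have hex : ∀ R : Subgroup G, R ≤ P → ∃ f, Cfsg.SubpairLE p M R f P c := fun R hR =>
    (BrauerPairs.existsUnique_subpairLE hM hmax.1.1 hR).exists
  have hRP : (Q ⊔ Subgroup.zpowers u) ≤ P := sup_le hQ (Subgroup.zpowers_le.2 hu)
  -- the fixed points
  let Z : Subgroup P := (Subgroup.centralizer (CG[Q] : Set G)).subgroupOf P
  have hZ : ∀ x : P, x ∈ Z ↔ CG[Q] ≤ CG[Subgroup.zpowers (x : G)] := fun x => by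
    rw [Subgroup.mem_subgroupOf, Subgroup.mem_centralizer_iff]
    exact ⟨fun h a ha => mem_zpowers_centralizer.2 (h a ha).symm,
      fun h a ha => (mem_zpowers_centralizer.1 (h ha)).symm⟩
  have hCsup : ∀ (A : Subgroup G) (x : G), CG[A ⊔ Subgroup.zpowers x] =
      CG[A] ⊓ CG[Subgroup.zpowers x] := fun A x => le_antisymm
    (le_inf (BrauerPairs.centralizer_mono le_sup_left) (BrauerPairs.centralizer_mono le_sup_right))
    fun a ha => BrauerPairs.mem_centralizer_sup ha.1 ha.2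
  by_cases huZ : (⟨u, hu⟩ : P) ∈ Z
  · exact (rank_card_eq_of_centralizer_eq hM hmax hab hQ hRP
      (by rw [hCsup, inf_eq_left.2 ((hZ ⟨u, hu⟩).1 huZ)]) hfQ hfR).1
  have hTR : T ⊓ CG[(Q ⊔ Subgroup.zpowers u)] = T ⊓ CG[Q] := by
    refine le_antisymm (inf_le_inf_left T (BrauerPairs.centralizer_mono le_sup_left)) fun t ht => ?_
    refine ⟨ht.1, ?_⟩
    rw [hCsup]
    exact ⟨ht.2, mem_zpowers_centralizer.2 (mul_inv_eq_iff_eq_mul.1 (hfix t ht)).symm⟩
  obtain ⟨l, hl, hlZ, hl1⟩ := exists_invariant_hom hM hmax hab T hT (T ⊓ CG[Q]) inf_le_left Z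
    (fun z hz t ht => by
      rw [← mem_zpowers_centralizer.1 ((hZ z).1 hz ht.2), mul_inv_cancel_right])
    ⟨u, hu⟩ huZ hfix
  choose fx hfx using fun x : P => hex (Q ⊔ Subgroup.zpowers (x : G))
    (sup_le hQ (Subgroup.zpowers_le.2 x.2))
  choose gx hgx using fun x : P => hex ((Q ⊔ Subgroup.zpowers u) ⊔ Subgroup.zpowers (x : G))
    (sup_le hRP (Subgroup.zpowers_le.2 x.2))
  have h1 := local_trace_formula hM hmax hab T hT hQ hfQ l hl fx hfx
  have h2 := local_trace_formula hM hmax hab T hT hRP hfR l (hTR.symm ▸ hl) gx hgx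
  rw [if_neg hl1] at h1 h2
  simp only [hTR] at h2
  have hdiff : ∀ x : P,
      (Nat.card (T ⊓ CG[Q] ⊓ CG[Subgroup.zpowers (x : G)] : Subgroup G) : ℂ) * (l x : ℂ) *
          (Cfsg.blockRank p (fx x) : ℂ) -
        (Nat.card (T ⊓ CG[Q] ⊓ CG[Subgroup.zpowers (x : G)] : Subgroup G) : ℂ) * (l x : ℂ) *
          (Cfsg.blockRank p (gx x) : ℂ) =
      if x ∈ Z then (Nat.card (T ⊓ CG[Q] : Subgroup G) : ℂ) *
        ((Cfsg.blockRank p fQ : ℂ) - (Cfsg.blockRank p fR : ℂ)) else 0 := by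
    intro x
    by_cases hx : x ∈ Z
    · have hxC := (hZ x).1 hx
      rw [if_pos hx, hlZ x hx, inf_eq_left.2 (inf_le_right.trans hxC),
        (rank_card_eq_of_centralizer_eq hM hmax hab hQ (sup_le hQ (Subgroup.zpowers_le.2 x.2))
          (by rw [hCsup, inf_eq_left.2 hxC]) hfQ (hfx x)).1,
        (rank_card_eq_of_centralizer_eq hM hmax hab hRP (sup_le hRP (Subgroup.zpowers_le.2 x.2))
          (by rw [hCsup (Q ⊔ Subgroup.zpowers u) x, inf_eq_left.2 ((BrauerPairs.centralizer_mono le_sup_left).trans hxC)])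
          hfR (hgx x)).1, Units.val_one]
      ring
    · rw [if_neg hx]
      have hlt : Nat.card CG[Q ⊔ Subgroup.zpowers (x : G)] < n := by
        rw [← hn]
        refine lt_of_le_of_ne (Subgroup.card_le_of_le (BrauerPairs.centralizer_mono le_sup_left))
          fun h => hx ((hZ x).2 ?_)
        have h' := Subgroup.eq_of_le_of_card_ge
          (BrauerPairs.centralizer_mono (le_sup_left : Q ≤ Q ⊔ Subgroup.zpowers (x : G))) h.ge
        rw [← h', hCsup]
        exact inf_le_right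
      have hQxP : Q ⊔ Subgroup.zpowers (x : G) ≤ P := sup_le hQ (Subgroup.zpowers_le.2 x.2)
      obtain ⟨f', hf'⟩ := hex _ (sup_le hQxP (Subgroup.zpowers_le.2 hu))
      have e1 := ih _ hlt _ hQxP rfl u hu (fun t ht => hfix t ⟨ht.1,
        BrauerPairs.centralizer_mono le_sup_left ht.2⟩) _ f' (hfx x) hf'
      have e2 := (rank_card_eq_of_centralizer_eq hM hmax hab
        (sup_le hQxP (Subgroup.zpowers_le.2 hu)) (sup_le hRP (Subgroup.zpowers_le.2 x.2))
        (by rw [hCsup, hCsup, hCsup, hCsup, inf_right_comm]) hf' (hgx x)).1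
      rw [e1, e2, sub_self]
  have h3 : ∑ x : P, (if x ∈ Z then (Nat.card (T ⊓ CG[Q] : Subgroup G) : ℂ) *
      ((Cfsg.blockRank p fQ : ℂ) - (Cfsg.blockRank p fR : ℂ)) else 0) = 0 := by
    rw [← Finset.sum_congr rfl fun x _ => hdiff x, Finset.sum_sub_distrib, h1, h2, sub_zero]
  rw [Finset.sum_ite, Finset.sum_const_zero, add_zero, Finset.sum_const, nsmul_eq_mul,
    mul_eq_zero, mul_eq_zero, Nat.cast_eq_zero, Nat.cast_eq_zero, sub_eq_zero,
    Nat.cast_inj] at h3
  refine (h3.resolve_left ?_).resolve_left Nat.card_pos.ne'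
  exact Finset.card_ne_zero.2 ⟨1, Finset.mem_filter.2 ⟨Finset.mem_univ _, Z.one_mem⟩⟩

open scoped Classical in
/-- A point fixed by the stabilizer does not change the numbers of characters either. -/
theorem card_eq_of_fixed {u : G} (hu : u ∈ P) (hfix : ∀ t ∈ T, t * u * t⁻¹ = u)
    {fQ : Set (Cfsg.IrrCharacter CG[(⊥ : Subgroup G)])}
    {fR : Set (Cfsg.IrrCharacter CG[Subgroup.zpowers u])}
    (hfQ : Cfsg.SubpairLE p M ⊥ fQ P c)
    (hfR : Cfsg.SubpairLE p M (Subgroup.zpowers u) fR P c) :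
    Cfsg.blockRank p fQ = Cfsg.blockRank p fR ∧ Nat.card fQ = Nat.card fR := by
  haveI := Fact.mk hM.1
  have hex : ∀ R : Subgroup G, R ≤ P → ∃ f, Cfsg.SubpairLE p M R f P c := fun R hR =>
    (BrauerPairs.existsUnique_subpairLE hM hmax.1.1 hR).exists
  have hRP : Subgroup.zpowers u ≤ P := Subgroup.zpowers_le.2 hu
  obtain ⟨f0, hf0⟩ := hex (⊥ ⊔ Subgroup.zpowers u) (sup_le bot_le hRP)
  have hT0 : T ⊓ CG[(⊥ : Subgroup G)] = T := inf_eq_left.2 fun t _ =>
    Subgroup.mem_centralizer_iff.2 fun a ha => by rw [Subgroup.mem_bot.1 ha]; simp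
  have hTR : T ⊓ CG[Subgroup.zpowers u] = T := inf_eq_left.2 fun t ht =>
    mem_zpowers_centralizer.2 (mul_inv_eq_iff_eq_mul.1 (hfix t ht)).symm
  refine ⟨(rank_eq_of_fixed hM hmax hab T hT _ ⊥ bot_le rfl u hu (fun t ht => hfix t ht.1) fQ f0
    hfQ hf0).trans (rank_card_eq_of_centralizer_eq hM hmax hab (sup_le bot_le hRP) hRP
      (by rw [bot_sup_eq]) hf0 hfR).1, ?_⟩
  choose fx hfx using fun x : P => hex (⊥ ⊔ Subgroup.zpowers (x : G))
    (sup_le bot_le (Subgroup.zpowers_le.2 x.2))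
  choose gx hgx using fun x : P => hex (Subgroup.zpowers u ⊔ Subgroup.zpowers (x : G))
    (sup_le hRP (Subgroup.zpowers_le.2 x.2))
  have h1 := local_trace_formula hM hmax hab T hT bot_le hfQ 1 (fun _ _ _ _ _ => rfl) fx hfx
  have h2 := local_trace_formula hM hmax hab T hT hRP hfR 1 (fun _ _ _ _ _ => rfl) gx hgx
  rw [if_pos rfl] at h1 h2
  simp only [hT0] at h1
  simp only [hTR] at h2
  have he : ∀ x : P, Cfsg.blockRank p (fx x) = Cfsg.blockRank p (gx x) := fun x => by
    have hxP : ⊥ ⊔ Subgroup.zpowers (x : G) ≤ P := sup_le bot_le (Subgroup.zpowers_le.2 x.2)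
    obtain ⟨f', hf'⟩ := hex _ (sup_le hxP hRP)
    exact (rank_eq_of_fixed hM hmax hab T hT _ _ hxP rfl u hu (fun t ht => hfix t ht.1) _ f'
      (hfx x) hf').trans (rank_card_eq_of_centralizer_eq hM hmax hab (sup_le hxP hRP)
        (sup_le hRP (Subgroup.zpowers_le.2 x.2)) (by rw [bot_sup_eq, sup_comm]) hf' (hgx x)).1
  simp only [he] at h1
  have h3 := h1.symm.trans h2
  exact_mod_cast mul_left_cancel₀ (Nat.cast_ne_zero.2 Nat.card_pos.ne') h3

end

/-- The block at the trivial subgroup is the block itself. -/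
theorem rank_card_bot (hM : Cfsg.IsPModular p M)
    {f : Set (Cfsg.IrrCharacter CG[(⊥ : Subgroup G)])}
    (hf : Cfsg.IsBrauerPairOf p M B ⊥ f) :
    Cfsg.blockRank p f = Cfsg.blockRank p B ∧ Nat.card f = Nat.card B := by
  classical
  have hall : ∀ g : G, g ∈ CG[(⊥ : Subgroup G)] := fun g =>
    Subgroup.mem_centralizer_iff.2 fun a ha => by rw [Subgroup.mem_bot.1 ha]; simp
  let e : CG[(⊥ : Subgroup G)] ≃* G :=
    { toFun := fun z => z
      invFun := fun g => ⟨g, hall g⟩
      left_inv := fun z => rfl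
      right_inv := fun g => rfl
      map_mul' := fun a b => rfl }
  suffices h : BrauerPairs.mapBlock e f = B by
    rw [← h, blockRank_mapBlock, card_mapBlock]
    exact ⟨rfl, rfl⟩
  obtain ⟨ξ, hξ⟩ := IsPBlock.nonempty hM hf.1.2
  obtain ⟨χ, rfl⟩ := (BrauerPairs.compIrrEquiv e).surjective ξ
  have hχ : χ ∈ B := by
    have h := hf.2.2 _ hξ
    letI := Fintype.ofFinite CG[(⊥ : Subgroup G)]
    rw [BrauerPairs.brauerOmega_eq,
      show omega ((BrauerPairs.compIrrEquiv e χ : Cfsg.IrrCharacter _) : _ → ℂ)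
          (fun a : CG[(⊥ : Subgroup G)] => Cfsg.blockCoeff B (a : G)) =
        omega (χ : G → ℂ) (Cfsg.blockCoeff B) from ?_, omega_blockCoeff] at h
    · by_contra hne
      rw [if_neg hne, zero_sub] at h
      exact not_memLocalIdeal_one hM (by simpa using memLocalIdeal_neg h)
    · simp only [omega]
      congr 1
      · exact Fintype.sum_equiv e.toEquiv _ _ fun z => rfl
  exact (IsPBlock.eq_blockOf hM (BrauerPairs.isPBlock_mapBlock e hf.1.2) hξ).trans
    (IsPBlock.eq_blockOf hM hf.2.1 hχ).symm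

open scoped Classical in
/-- Watanabe's theorem. -/
theorem watanabe (hM : Cfsg.IsPModular p M) (hB : Cfsg.IsPBlock M B)
    (hPD : Cfsg.IsDefectGroup p M B P) (hab : ∀ x ∈ P, ∀ y ∈ P, x * y = y * x)
    (hc : Cfsg.IsInducedBlock M CG[P] c B) (T : Subgroup G)
    (hT : ∀ g : G, g ∈ T ↔ (g ∈ Subgroup.normalizer (P : Set G) ∧
      Cfsg.StabilizesBlock CG[P] c g))
    {u : G} (hu : u ∈ P) (hfix : ∀ t ∈ T, t * u * t⁻¹ = u) (H : Subgroup G)
    (hH : H = Subgroup.centralizer ({u} : Set G)) (f : Set (Cfsg.IrrCharacter H))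
    (hf : Cfsg.IsInducedBlockIn M H CG[P] c f) :
    Cfsg.blockRank p B = Cfsg.blockRank p f ∧ Nat.card B = Nat.card f := by
  haveI := Fact.mk hM.1
  letI := Fintype.ofFinite CG[P]
  obtain ⟨e', he'⟩ := BrauerPairs.exists_maximal_on hM hB hPD
  have hP : IsPGroup p P := he'.1.1.1
  have hCP : ∀ a : G, a ∈ CG[P] ↔ ∀ v ∈ P, v * a = a * v := fun a => Subgroup.mem_centralizer_iff
  have hpair : Cfsg.IsBrauerPairOf p M B P c := by
    refine ⟨⟨hP, hc.1⟩, hB, fun ξ hξ => ?_⟩
    have h := memLocalIdeal_omega_res_blockCoeff_sub hM hP hCP hB ξ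
    rw [if_pos ((mem_inducing_iff hM hP hCP hB hc.1 hξ).2 hc), ← BrauerPairs.brauerOmega_eq] at h
    exact h
  have hmax : Cfsg.IsMaximalBrauerPair p M B P c := by
    refine ⟨hpair, fun R r hR hle => ?_⟩
    obtain ⟨a, ha, hale⟩ := BrauerPairs.exists_maximal_above hM hR
    have h1 := BlockChar.card_defectGroup hM hB (BrauerPairs.isDefectGroup_of_maximal hM ha)
    have h2 := BlockChar.card_defectGroup hM hB hPD
    exact (Subgroup.eq_of_le_of_card_ge (BlockChar.le_of_subpairLE hle) (by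
      rw [h2, ← h1]; exact Subgroup.card_le_of_le (BlockChar.le_of_subpairLE hale))).symm
  have hT' : ∀ g : G, g ∈ T ↔ BrauerPairs.conjPair g ⟨P, c⟩ = ⟨P, c⟩ := fun g =>
    (hT g).trans (BrauerPairs.conjPair_eq_iff hM hc.1 g).symm
  obtain ⟨fQ, hfQ⟩ := (BrauerPairs.existsUnique_subpairLE hM hmax.1.1 bot_le).exists
  obtain ⟨hr, hk⟩ := rank_card_bot hM
    ((BrauerPairs.isBrauerPairOf_iff_of_subpairLE hM hfQ B).1 hmax.1)
  have hCH : H = CG[Subgroup.zpowers u] := by
    rw [hH]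
    ext z
    rw [Subgroup.mem_centralizer_singleton_iff, mem_zpowers_centralizer]
    exact eq_comm
  subst hCH
  have hle : Cfsg.SubpairLE p M (Subgroup.zpowers u) f P c := by
    refine subpairLE_of_omega hM hmax hab (Subgroup.zpowers_le.2 hu) hf.2.1 fun ξ hξ => ?_
    obtain ⟨χ, hχ⟩ := IsPBlock.nonempty hM hf.2.1
    letI := Fintype.ofFinite CG[Subgroup.zpowers u]
    have : Finite (ConjClasses CG[Subgroup.zpowers u]) := Quotient.finite _
    letI := Fintype.ofFinite (ConjClasses CG[Subgroup.zpowers u])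
    have hPK : CG[P] ≤ CG[Subgroup.zpowers u] :=
      BrauerPairs.centralizer_mono (Subgroup.zpowers_le.2 hu)
    set e := Cfsg.blockCoeff f with he
    have hec := isClassFunction_blockCoeff f
    have h1 : omega (χ : CG[Subgroup.zpowers u] → ℂ) e = 1 := by
      rw [he, omega_blockCoeff, if_pos hχ]
    rw [omega_eq_sum_classes (Char.isClassFunction_of_isIrr χ.2) hec] at h1
    have h2 : Cfsg.brauerOmega P (sbc CG[Subgroup.zpowers u] f) (ξ : CG[P] → ℂ) =
        ∑ C : ConjClasses CG[Subgroup.zpowers u], e C.out *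
          Cfsg.inducedCentralCharIn CG[Subgroup.zpowers u] CG[P] (ξ : CG[P] → ℂ)
            ((C.out : CG[Subgroup.zpowers u]) : G) := by
      rw [BrauerPairs.brauerOmega_eq, omega, Finset.sum_div]
      rw [← Finset.sum_fiberwise_of_maps_to (t := Finset.univ)
        (g := fun k : CG[P] => ConjClasses.mk (⟨(k : G), hPK k.2⟩ : CG[Subgroup.zpowers u]))
        (fun _ _ => Finset.mem_univ _)]
      refine Finset.sum_congr rfl fun C _ => ?_
      have hset : {k : CG[P] | ∃ x : CG[Subgroup.zpowers u],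
          (x : G) * (k : G) * (x : G)⁻¹ = ((C.out : CG[Subgroup.zpowers u]) : G)} =
          {k : CG[P] | ConjClasses.mk (⟨(k : G), hPK k.2⟩ : CG[Subgroup.zpowers u]) = C} := by
        ext k
        simp only [Set.mem_setOf_eq]
        conv_rhs => rw [← Quotient.out_eq C]
        show _ ↔ ConjClasses.mk _ = ConjClasses.mk C.out
        rw [ConjClasses.mk_eq_mk_iff_isConj, isConj_iff]
        exact exists_congr fun x => ⟨fun h => Subtype.ext h, fun h => congrArg Subtype.val h⟩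
      rw [Cfsg.inducedCentralCharIn, hset,
        finsum_mem_eq_finite_toFinset_sum _ (Set.toFinite _), Finset.mul_sum]
      refine Finset.sum_congr (Finset.ext fun k => by simp) fun k hk => ?_
      rw [BrauerPairs.sbc_of_mem f (hPK k.2), mul_div_assoc, he]
      congr 1
      have hk' : ConjClasses.mk (⟨(k : G), hPK k.2⟩ : CG[Subgroup.zpowers u]) = C := by
        simpa using hk
      obtain ⟨x, hx⟩ := isConj_iff.1 (ConjClasses.mk_eq_mk_iff_isConj.1
        (hk'.trans (Quotient.out_eq C).symm))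
      rw [← hec ⟨(k : G), hPK k.2⟩ x, hx]
    rw [h2, ← h1, ← Finset.sum_sub_distrib]
    refine memLocalIdeal_sum hM _ fun C _ => ?_
    rw [← mul_sub]
    exact memLocalIdeal_mul_left hM (memLocalRing_blockCoeff hM hf.2.1 _) (hf.2.2 ξ hξ χ hχ _)
  obtain ⟨h1, h2⟩ := card_eq_of_fixed hM hmax hab T hT' hu hfix hfQ hle
  exact ⟨hr.symm.trans h1, hk.symm.trans h2⟩

end Cfsg.Agent.Blocks.Star
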