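import Cfsg.Agent.Blocks.Star.AbelianTrace
import Cfsg.Agent.BrauerPairs.Sub
import Cfsg.Agent.BrauerPairs.MaximalCriterion

/-!
# The trace formula at the local blocks of a block with abelian defect group

The blocks of the centralisers of the subgroups of an abelian defect group have defect group `P`,
and their subsections are given by the larger subgroups.
-/

namespace Cfsg.Agent.Blocks.Star

open Cfsg.Agent Cfsg.Agent.Blocks

universe u

variable {G : Type u} [Group G] [Fintype G] {p : ℕ} {M : Ideal Cfsg.AlgInt}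
  {B : Set (Cfsg.IrrCharacter G)} {P : Subgroup G}
  {c : Set (Cfsg.IrrCharacter (Subgroup.centralizer (P : Set G)))}

local notation "CG[" Q "]" => Subgroup.centralizer ((Q : Subgroup G) : Set G)
local notation "sbc" => Cfsg.subgroupBlockCoeff

theorem blockRank_mapBlock {A C : Type u} [Group A] [Group C] [Finite A] [Finite C] (φ : A ≃* C)
    (b : Set (Cfsg.IrrCharacter A)) :
    Cfsg.blockRank p (BrauerPairs.mapBlock φ b) = Cfsg.blockRank p b := by
  let L : (C → ℂ) ≃ₗ[ℂ] (A → ℂ) := LinearEquiv.funCongrLeft ℂ ℂ φ.toEquiv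
  have hL : ∀ χ : Cfsg.IrrCharacter C, L (Cfsg.pRegularPart p (χ : C → ℂ)) =
      Cfsg.pRegularPart p (BrauerPairs.compIrr φ χ : A → ℂ) := fun χ => funext fun a => by
    show Cfsg.pRegularPart p (χ : C → ℂ) (φ a) = _
    rw [pRegularPart_apply, pRegularPart_apply, BrauerPairs.compIrr_apply,
      show orderOf (φ a) = orderOf a from orderOf_injective φ.toMonoidHom φ.injective a]
  have himg : L '' ((fun χ : Cfsg.IrrCharacter C => Cfsg.pRegularPart p (χ : C → ℂ)) ''
      BrauerPairs.mapBlock φ b) =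
      (fun χ : Cfsg.IrrCharacter A => Cfsg.pRegularPart p (χ : A → ℂ)) '' b := by
    ext f
    constructor
    · rintro ⟨_, ⟨χ, hχ, rfl⟩, rfl⟩
      exact ⟨_, hχ, (hL χ).symm⟩
    · rintro ⟨χ, hχ, rfl⟩
      obtain ⟨ψ, rfl⟩ := (BrauerPairs.compIrrEquiv φ).surjective χ
      exact ⟨_, ⟨ψ, hχ, rfl⟩, hL ψ⟩
  rw [Cfsg.blockRank, Cfsg.blockRank, ← himg]
  exact (L.finrank_map_eq (Submodule.span ℂ _)).symm.trans (by
    rw [Submodule.map_span]
    rfl)

theorem card_mapBlock {A C : Type u} [Group A] [Group C] [Finite A] [Finite C] (φ : A ≃* C)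
    (b : Set (Cfsg.IrrCharacter A)) :
    Nat.card (BrauerPairs.mapBlock φ b) = Nat.card b :=
  Nat.card_congr ((BrauerPairs.compIrrEquiv φ).subtypeEquiv fun _ => Iff.rfl)

section

variable (hM : Cfsg.IsPModular p M) (hmax : Cfsg.IsMaximalBrauerPair p M B P c)
  (hab : ∀ x ∈ P, ∀ y ∈ P, x * y = y * x)
include hM hmax hab

omit [Fintype G] hM hmax in
theorem le_centralizer_of_abelian {Q : Subgroup G} (hQ : Q ≤ P) : P ≤ CG[Q] := fun x hx =>
  Subgroup.mem_centralizer_iff.2 fun y hy => hab y (hQ hy) x hx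

/-- Every inclusion is a normal one. -/
theorem normal_of_le {Q : Subgroup G} {f : Set (Cfsg.IrrCharacter CG[Q])}
    (h : Cfsg.SubpairLE p M Q f P c) : Cfsg.IsNormalSubpair p M Q f P c := by
  have hQ := BlockChar.le_of_subpairLE h
  obtain ⟨b', hb', -⟩ := BrauerPairs.existsUnique_normalSubpair hM hmax.1.1 hQ
    ((le_centralizer_of_abelian hab hQ).trans (Subgroup.centralizer_le_normalizer _))
  obtain rfl : f = b' := (BrauerPairs.existsUnique_subpairLE hM hmax.1.1 hQ).unique h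
    (Relation.ReflTransGen.single (show Cfsg.NormalSubpairRel p M ⟨_, b'⟩ ⟨P, c⟩ from hb'))
  exact hb'

/-- The inclusion is detected by the Brauer homomorphism. -/
theorem subpairLE_of_omega {Q : Subgroup G} (hQ : Q ≤ P) {f : Set (Cfsg.IrrCharacter CG[Q])}
    (hf : Cfsg.IsPBlock M f)
    (h : ∀ ξ ∈ c, Cfsg.MemLocalIdeal M
      (Cfsg.brauerOmega P (sbc CG[Q] f) ((ξ : Cfsg.IrrCharacter CG[P]) : CG[P] → ℂ) - 1)) :
    Cfsg.SubpairLE p M Q f P c := by
  have hPC := le_centralizer_of_abelian hab hQ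
  have hPN := hPC.trans (Subgroup.centralizer_le_normalizer (Q : Set G))
  exact Relation.ReflTransGen.single (show Cfsg.NormalSubpairRel p M ⟨Q, f⟩ ⟨P, c⟩ from
    ⟨⟨hmax.1.1.1.to_le hQ, hf⟩, hmax.1.1, hQ, hPN,
      BrauerPairs.stabilizes_of_isInv hM hPN hf
        (fun k hk y => BrauerPairs.isInv_sbc f k (hPC hk) y), h⟩)

/-- Subgroups with the same centraliser give the same blocks. -/
theorem rank_card_eq_of_centralizer_eq {Q R : Subgroup G} (hQ : Q ≤ P) (hR : R ≤ P)
    (hC : CG[Q] = CG[R]) {f : Set (Cfsg.IrrCharacter CG[Q])}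
    {f' : Set (Cfsg.IrrCharacter CG[R])} (hf : Cfsg.SubpairLE p M Q f P c)
    (hf' : Cfsg.SubpairLE p M R f' P c) :
    Cfsg.blockRank p f = Cfsg.blockRank p f' ∧ Nat.card f = Nat.card f' := by
  haveI := Fact.mk hM.1
  have hn := normal_of_le hM hmax hab hf
  set φ := MulEquiv.subgroupCongr hC with hφ
  have hsbc : sbc CG[R] (BrauerPairs.mapBlock φ f) = sbc CG[Q] f := funext fun g => by
    by_cases hg : g ∈ CG[Q]
    · rw [BrauerPairs.sbc_of_mem f hg,
        BrauerPairs.sbc_of_mem (H := CG[R]) _ (hC ▸ hg : g ∈ CG[R]),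
        ← BrauerPairs.blockCoeff_mapBlock φ f ⟨g, hg⟩]
      rfl
    · rw [BrauerPairs.sbc_of_notMem f hg,
        BrauerPairs.sbc_of_notMem (H := CG[R]) _ fun h => hg (hC ▸ h)]
  have hle : Cfsg.SubpairLE p M R (BrauerPairs.mapBlock φ f) P c :=
    subpairLE_of_omega hM hmax hab hR (BrauerPairs.isPBlock_mapBlock φ hn.1.2)
      fun ξ hξ => by rw [hsbc]; exact hn.2.2.2.2.2 ξ hξ
  obtain rfl := (BrauerPairs.existsUnique_subpairLE hM hmax.1.1 hR).unique hle hf'
  exact ⟨(blockRank_mapBlock φ f).symm, (card_mapBlock φ f).symm⟩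

open scoped Classical in
/-- The trace formula at the block of `C(Q)`. -/
theorem local_trace_formula (T : Subgroup G)
    (hT : ∀ g : G, g ∈ T ↔ BrauerPairs.conjPair g ⟨P, c⟩ = ⟨P, c⟩) {Q : Subgroup G} (hQ : Q ≤ P)
    {fQ : Set (Cfsg.IrrCharacter CG[Q])} (hfQ : Cfsg.SubpairLE p M Q fQ P c) (l : P →* ℂˣ)
    (hl : ∀ t ∈ T ⊓ CG[Q], ∀ x y : P, (y : G) = t * x * t⁻¹ → l y = l x)
    (fx : ∀ x : P, Set (Cfsg.IrrCharacter CG[Q ⊔ Subgroup.zpowers (x : G)]))
    (hfx : ∀ x : P, Cfsg.SubpairLE p M (Q ⊔ Subgroup.zpowers (x : G)) (fx x) P c) :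
    ∑ x : P, (Nat.card (T ⊓ CG[Q] ⊓ CG[Subgroup.zpowers (x : G)] : Subgroup G) : ℂ) * (l x : ℂ) *
        (Cfsg.blockRank p (fx x) : ℂ) =
      if l = 1 then (Nat.card (T ⊓ CG[Q] : Subgroup G) : ℂ) * (Nat.card fQ : ℂ) else 0 := by
  haveI := Fact.mk hM.1
  have hPK : P ≤ CG[Q] := le_centralizer_of_abelian hab hQ
  have hQK : Q ≤ CG[Q] := hQ.trans hPK
  have hCK : CG[P] ≤ CG[Q] := BrauerPairs.centralizer_mono hQ
  have hn := normal_of_le hM hmax hab hfQ
  set P' := P.subgroupOf CG[Q] with hP'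
  set c' := BrauerPairs.resBlock hPK hCK c with hc'
  have hcoeff : ∀ t : CG[Q], Cfsg.blockCoeff fQ t = sbc CG[Q] fQ (t : G) := fun t =>
    (BrauerPairs.sbc_apply fQ t).symm
  have hpair' : Cfsg.IsBrauerPairOf p M fQ P' c' :=
    BrauerPairs.isBrauerPairOf_res hPK hCK hM hn.1.2 hcoeff hn
  have hmax' : Cfsg.IsMaximalBrauerPair p M fQ P' c' := by
    refine ⟨hpair', fun R r hRr hle => ?_⟩
    obtain ⟨A, hA⟩ : ∃ A, A = R.map CG[Q].subtype := ⟨_, rfl⟩
    have hRA : R = A.subgroupOf CG[Q] := by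
      rw [hA]
      exact (Subgroup.comap_map_eq_self_of_injective CG[Q].subtype_injective R).symm
    subst hRA
    have hAK : A ≤ CG[Q] := hA ▸ Subgroup.map_subtype_le _
    have hPA : P ≤ A := fun x hx =>
      Subgroup.mem_subgroupOf.1 (BlockChar.le_of_subpairLE hle
        (show (⟨x, hPK hx⟩ : CG[Q]) ∈ P.subgroupOf CG[Q] from hx))
    have hCA : CG[A] ≤ CG[Q] := BrauerPairs.centralizer_mono (hQ.trans hPA)
    have hup := BrauerPairs.subpairLE_up hAK hCA hM hQK le_rfl hPK hQ hCK hle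
    rw [hc', BrauerPairs.upBlock_resBlock hPK hCK c] at hup
    have hAP : A = P := hmax.2 A _
      ((BrauerPairs.isBrauerPairOf_iff_of_subpairLE hM hup B).2 hmax.1) hup
    rw [hAP]
  set T' := T.subgroupOf CG[Q] with hT'
  have hT'' : ∀ g : CG[Q], g ∈ T' ↔ BrauerPairs.conjPair g ⟨P', c'⟩ = ⟨P', c'⟩ := by
    intro g
    rw [hT', Subgroup.mem_subgroupOf, hT]
    constructor
    · intro h
      have himg : P.map (MulAut.conj (g : G)).toMonoidHom = P := congrArg Sigma.fst h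
      refine BrauerPairs.idx_ext ?_ fun z => ?_
      · show P'.map (MulAut.conj g).toMonoidHom = P'
        refine Subgroup.map_injective CG[Q].subtype_injective ?_
        rw [Subgroup.map_map, hP', show CG[Q].subtype.comp (MulAut.conj g).toMonoidHom =
          (MulAut.conj (g : G)).toMonoidHom.comp CG[Q].subtype from MonoidHom.ext fun _ => rfl,
          ← Subgroup.map_map, Subgroup.subgroupOf_map_subtype, inf_eq_left.2 hPK, himg]
      · rw [BrauerPairs.sbc_conjPair]
        show sbc _ c' (g⁻¹ * z * g) = sbc _ c' z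
        rw [hc', BrauerPairs.sbc_resBlock, BrauerPairs.sbc_resBlock]
        have h2 := BrauerPairs.sbc_conjPair (g : G) ⟨P, c⟩ (z : G)
        rw [h] at h2
        exact h2.symm
    · intro h
      have himg : P'.map (MulAut.conj g).toMonoidHom = P' := congrArg Sigma.fst h
      refine BrauerPairs.idx_ext ?_ fun z => ?_
      · show P.map (MulAut.conj (g : G)).toMonoidHom = P
        have := congrArg (Subgroup.map CG[Q].subtype) himg
        rw [Subgroup.map_map, hP', show CG[Q].subtype.comp (MulAut.conj g).toMonoidHom =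
          (MulAut.conj (g : G)).toMonoidHom.comp CG[Q].subtype from MonoidHom.ext fun _ => rfl,
          ← Subgroup.map_map, Subgroup.subgroupOf_map_subtype, inf_eq_left.2 hPK] at this
        exact this
      · rw [BrauerPairs.sbc_conjPair]
        show sbc CG[P] c ((g : G)⁻¹ * z * (g : G)) = sbc CG[P] c z
        by_cases hz : z ∈ CG[Q]
        · have h2 := BrauerPairs.sbc_conjPair g ⟨P', c'⟩ ⟨z, hz⟩
          rw [h] at h2
          simp only [hc'] at h2
          rw [BrauerPairs.sbc_resBlock, BrauerPairs.sbc_resBlock] at h2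
          exact h2.symm
        · rw [BrauerPairs.sbc_of_notMem c fun h' => hz (hCK h'),
            BrauerPairs.sbc_of_notMem c fun h' => hz (by
              have := CG[Q].mul_mem (CG[Q].mul_mem g.2 (hCK h')) (CG[Q].inv_mem g.2)
              rwa [show (g : G) * ((g : G)⁻¹ * z * g) * (g : G)⁻¹ = z by group] at this)]
  have hab' : ∀ x ∈ P', ∀ y ∈ P', x * y = y * x := fun x hx y hy =>
    Subtype.ext (hab _ hx _ hy)
  let ι : P' ≃* P := Subgroup.subgroupOfEquivOfLe hPK
  have hι : ∀ x : P', (ι x : G) = ((x : CG[Q]) : G) := fun x => rfl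
  set l' : P' →* ℂˣ := l.comp ι.toMonoidHom with hl'
  have hl'' : ∀ t ∈ T', ∀ x y : P', (y : CG[Q]) = t * x * t⁻¹ → l' y = l' x := fun t ht x y h =>
    hl t ⟨ht, t.2⟩ (ι x) (ι y) (by rw [hι, hι, h]; rfl)
  choose bx hbx using fun x : P' =>
    (BrauerPairs.existsUnique_subpairLE hM hmax'.1.1
      (Subgroup.zpowers_le.2 x.2 : Subgroup.zpowers (x : CG[Q]) ≤ P')).exists
  have h := abelian_trace_formula hM hmax' hab' T' hT'' l' hl'' bx hbx
  have hl1 : l' = 1 ↔ l = 1 := by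
    refine ⟨fun h1 => MonoidHom.ext fun x => ?_, fun h1 => by rw [hl', h1]; rfl⟩
    obtain ⟨y, rfl⟩ := ι.surjective x
    exact DFunLike.congr_fun h1 y
  have hcardT : Nat.card T' = Nat.card (T ⊓ CG[Q] : Subgroup G) :=
    (Nat.card_congr (T'.equivMapOfInjective CG[Q].subtype CG[Q].subtype_injective).toEquiv).trans (by
      rw [hT', Subgroup.subgroupOf_map_subtype])
  simp only [hl1, hcardT] at h
  refine Eq.trans ?_ h
  refine (Fintype.sum_equiv ι.toEquiv _ _ fun x => ?_).symm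
  have hxP : ((x : CG[Q]) : G) ∈ P := x.2
  have hcT : Nat.card (T' ⊓ Subgroup.centralizer ((Subgroup.zpowers (x : CG[Q]) : Subgroup CG[Q]) : Set CG[Q]) :
      Subgroup CG[Q]) =
      Nat.card (T ⊓ CG[Q] ⊓ CG[Subgroup.zpowers ((x : CG[Q]) : G)] : Subgroup G) := by
    refine Nat.card_congr ⟨fun t => ⟨((t : CG[Q]) : G), ⟨t.2.1, (t : CG[Q]).2⟩,
        mem_zpowers_centralizer.2 (congrArg Subtype.val (mem_zpowers_centralizer.1 t.2.2))⟩,
      fun t => ⟨⟨(t : G), t.2.1.2⟩, t.2.1.1,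
        mem_zpowers_centralizer.2 (Subtype.ext (mem_zpowers_centralizer.1 t.2.2))⟩,
      fun t => rfl, fun t => rfl⟩
  have hmap : (Subgroup.zpowers (x : CG[Q])).map CG[Q].subtype = Subgroup.zpowers ((x : CG[Q]) : G) := by
    rw [MonoidHom.map_zpowers]
    rfl
  have hRP : Q ⊔ (Subgroup.zpowers (x : CG[Q])).map CG[Q].subtype ≤ P :=
    sup_le hQ (hmap ▸ Subgroup.zpowers_le.2 hxP)
  have hnx := normal_of_le hM hmax' hab' (hbx x)
  have hle : Cfsg.SubpairLE p M (Q ⊔ (Subgroup.zpowers (x : CG[Q])).map CG[Q].subtype)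
      (BrauerPairs.mapBlock (BrauerPairs.supIso Q (Subgroup.zpowers (x : CG[Q]))) (bx x)) P c := by
    refine subpairLE_of_omega hM hmax hab hRP
      (BrauerPairs.isPBlock_mapBlock _ hnx.1.2) fun ξ hξ => ?_
    have hξ' : BrauerPairs.compIrr (BrauerPairs.centIso hPK hCK) ξ ∈ c' := by
      show BrauerPairs.compIrr (BrauerPairs.centIso hPK hCK).symm
        (BrauerPairs.compIrr (BrauerPairs.centIso hPK hCK) ξ) ∈ c
      convert hξ
      exact Subtype.ext (funext fun z => by simp [BrauerPairs.compIrr_apply])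
    have h1 := hnx.2.2.2.2.2 _ hξ'
    rw [← BrauerPairs.brauerOmega_res hPK hCK]
    refine (congrArg (fun β => Cfsg.MemLocalIdeal M (Cfsg.brauerOmega (P.subgroupOf CG[Q]) β
      ((BrauerPairs.compIrr (BrauerPairs.centIso hPK hCK) ξ : Cfsg.IrrCharacter _) : _ → ℂ) - 1))
      ?_).mpr h1
    funext t
    by_cases ht : t ∈ Subgroup.centralizer ((Subgroup.zpowers (x : CG[Q]) : Subgroup CG[Q]) : Set CG[Q])
    · rw [show (t : G) = ((BrauerPairs.supIso Q (Subgroup.zpowers (x : CG[Q])) ⟨t, ht⟩ : _) : G) from rfl,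
        BrauerPairs.sbc_apply, BrauerPairs.blockCoeff_mapBlock, BrauerPairs.sbc_of_mem _ ht]
    · rw [BrauerPairs.sbc_of_notMem _ ht, BrauerPairs.sbc_of_notMem]
      intro h'
      exact ht (((BrauerPairs.supIso Q (Subgroup.zpowers (x : CG[Q]))).symm ⟨(t : G), h'⟩).2)
  have hrank := (rank_card_eq_of_centralizer_eq hM hmax hab hRP
    (sup_le hQ (Subgroup.zpowers_le.2 hxP)) (by rw [hmap]) hle (hfx (ι x))).1
  rw [blockRank_mapBlock] at hrank
  show _ = (Nat.card (T ⊓ CG[Q] ⊓ CG[Subgroup.zpowers (ι x : G)] : Subgroup G) : ℂ) * _ * _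
  rw [hcT, hrank]
  rfl

end

end Cfsg.Agent.Blocks.Star
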