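import Cfsg.Agent.Blocks.Star.StarChar
import Cfsg.Agent.BrauerPairs.Maximal
import Cfsg.Agent.BlockChar.PrincipalPairs

/-!
# Weights from stable class functions of a defect group

A generalized character of `P` that is constant on the classes of the fusion of the block defines a
weight on subsections, supported on the subsections of the block.
-/

namespace Cfsg.Agent.Blocks.Star

open Cfsg.Agent Cfsg.Agent.Blocks

universe u

variable {G : Type u} [Group G] [Fintype G] {p : ℕ} {M : Ideal Cfsg.AlgInt}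
  {B : Set (Cfsg.IrrCharacter G)} {P : Subgroup G}
  {e₀ : Set (Cfsg.IrrCharacter (Subgroup.centralizer (P : Set G)))}

local notation "CG[" Q "]" => Subgroup.centralizer ((Q : Subgroup G) : Set G)
local notation "sbc" => Cfsg.subgroupBlockCoeff

/-- The subsection `(u, e)` lies below `(P, e₀)`. -/
def Below (p : ℕ) (M : Ideal Cfsg.AlgInt) (P : Subgroup G)
    (e₀ : Set (Cfsg.IrrCharacter CG[P])) (u : G) (e : G → ℂ) : Prop :=
  ∃ f : Set (Cfsg.IrrCharacter CG[Subgroup.zpowers u]),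
    Cfsg.SubpairLE p M (Subgroup.zpowers u) f P e₀ ∧ sbc CG[Subgroup.zpowers u] f = e

omit [Fintype G] in
theorem Below.mem {u : G} {e : G → ℂ} (h : Below p M P e₀ u e) : u ∈ P := by
  obtain ⟨f, hf, -⟩ := h
  exact BlockChar.le_of_subpairLE hf (Subgroup.mem_zpowers u)

omit [Fintype G] in
theorem below_of_pair {u : G} {e : G → ℂ} {a : Cfsg.BrauerPairIdx G}
    (h1 : a.1 = Subgroup.zpowers u) (h : Cfsg.SubpairLE p M a.1 a.2 P e₀)
    (he : ∀ g, sbc CG[a.1] a.2 g = e g) : Below p M P e₀ u e := by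
  obtain ⟨A, a⟩ := a
  dsimp only at h1 h he
  subst h1
  exact ⟨a, h, funext he⟩

omit [Fintype G] in
theorem map_zpowers_conj (u g : G) :
    (Subgroup.zpowers u).map (MulAut.conj g).toMonoidHom = Subgroup.zpowers (g * u * g⁻¹) := by
  rw [MonoidHom.map_zpowers]
  rfl

theorem below_conj_iff {u g : G} (b : Set (Cfsg.IrrCharacter CG[Subgroup.zpowers u])) :
    Below p M P e₀ (g * u * g⁻¹) (conjF g (sbc CG[Subgroup.zpowers u] b)) ↔
      Cfsg.SubpairLE p M ((Subgroup.zpowers u).map (MulAut.conj g).toMonoidHom)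
        (Cfsg.conjBlock (Subgroup.zpowers u) g b) P e₀ := by
  constructor
  · rintro ⟨f, hf, hfe⟩
    have e : BrauerPairs.conjPair g ⟨Subgroup.zpowers u, b⟩ =
        (⟨Subgroup.zpowers (g * u * g⁻¹), f⟩ : Cfsg.BrauerPairIdx G) :=
      BrauerPairs.idx_ext (map_zpowers_conj u g) fun z => by
        rw [BrauerPairs.sbc_conjPair]; exact (congrFun hfe z).symm
    show Relation.ReflTransGen (Cfsg.NormalSubpairRel p M)
      (BrauerPairs.conjPair g ⟨Subgroup.zpowers u, b⟩) ⟨P, e₀⟩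
    rw [e]
    exact hf
  · intro h
    exact below_of_pair (a := BrauerPairs.conjPair g ⟨Subgroup.zpowers u, b⟩)
      (map_zpowers_conj u g) h fun z => BrauerPairs.sbc_conjPair _ _ _

/-- `lam` is constant on fused subsections. -/
def IsStable (p : ℕ) (M : Ideal Cfsg.AlgInt) (P : Subgroup G)
    (e₀ : Set (Cfsg.IrrCharacter CG[P])) (lam : G → ℂ) : Prop :=
  ∀ (u g : G) (e : G → ℂ), Below p M P e₀ u e → Below p M P e₀ (g * u * g⁻¹) (conjF g e) →
    lam (g * u * g⁻¹) = lam u

open scoped Classical in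
/-- The weight of a stable function. -/
noncomputable def fWeight (p : ℕ) (M : Ideal Cfsg.AlgInt) (P : Subgroup G)
    (e₀ : Set (Cfsg.IrrCharacter CG[P])) (lam : G → ℂ) (u : G) (e : G → ℂ) : ℂ :=
  if h : ∃ g, Below p M P e₀ (g * u * g⁻¹) (conjF g e) then lam (h.choose * u * h.choose⁻¹) else 0

theorem fWeight_eq {lam : G → ℂ} (hst : IsStable p M P e₀ lam) {u g : G} {e : G → ℂ}
    (h : Below p M P e₀ (g * u * g⁻¹) (conjF g e)) :
    fWeight p M P e₀ lam u e = lam (g * u * g⁻¹) := by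
  have hex : ∃ g, Below p M P e₀ (g * u * g⁻¹) (conjF g e) := ⟨g, h⟩
  rw [fWeight, dif_pos hex]
  have h2 := hex.choose_spec
  generalize hex.choose = k at h2
  have e1 : k * u * k⁻¹ = k * g⁻¹ * (g * u * g⁻¹) * (k * g⁻¹)⁻¹ := by group
  rw [e1] at h2 ⊢
  refine hst _ _ _ h ?_
  rw [conjF_conjF, show k * g⁻¹ * g = k by group]
  exact h2

theorem fWeight_of_below {lam : G → ℂ} (hst : IsStable p M P e₀ lam) {u : G} {e : G → ℂ}
    (h : Below p M P e₀ u e) : fWeight p M P e₀ lam u e = lam u := by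
  have h' : Below p M P e₀ (1 * u * 1⁻¹) (conjF 1 e) := by
    rwa [one_mul, inv_one, mul_one, conjF_one]
  rw [fWeight_eq hst h', one_mul, inv_one, mul_one]

theorem fWeight_eq_zero {lam : G → ℂ} {u : G} {e : G → ℂ}
    (h : ∀ g, ¬ Below p M P e₀ (g * u * g⁻¹) (conjF g e)) : fWeight p M P e₀ lam u e = 0 := by
  rw [fWeight, dif_neg (by simpa using h)]

variable (hM : Cfsg.IsPModular p M) (hmax : Cfsg.IsMaximalBrauerPair p M B P e₀)
include hM hmax

/-- A subsection meets `(P, e₀)` exactly when it is a subsection of the block. -/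
theorem exists_below_iff {u : G} (b : Set (Cfsg.IrrCharacter CG[Subgroup.zpowers u])) :
    (∃ g, Below p M P e₀ (g * u * g⁻¹) (conjF g (sbc CG[Subgroup.zpowers u] b))) ↔
      Cfsg.IsBrauerPairOf p M B (Subgroup.zpowers u) b := by
  constructor
  · rintro ⟨g, hg⟩
    have h1 := (BrauerPairs.isBrauerPairOf_iff_of_subpairLE hM ((below_conj_iff b).1 hg) B).1 hmax.1
    have h2 := BrauerPairs.pair_conjPair hM
      (a := BrauerPairs.conjPair g ⟨Subgroup.zpowers u, b⟩) h1 g⁻¹
    rw [BrauerPairs.conjPair_conjPair, inv_mul_cancel, BrauerPairs.conjPair_one] at h2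
    exact h2
  · intro h
    obtain ⟨g, hg⟩ := BrauerPairs.exists_conj_subpairLE hM hmax h
    exact ⟨g, (below_conj_iff b).2 hg⟩

theorem isWeight_fWeight {lam : G → ℂ} (hgen : Cfsg.IsGeneralizedCharacter P (fun x : P => lam x))
    (hst : IsStable p M P e₀ lam) : IsWeight p M (fWeight p M P e₀ lam) := by
  refine ⟨fun u v e => ?_, fun R hR f hf => ?_⟩
  · have key : ∀ g, (g * (v * u * v⁻¹) * g⁻¹ = g * v * u * (g * v)⁻¹) ∧
        conjF g (conjF v e) = conjF (g * v) e := fun g => ⟨by group, conjF_conjF g v e⟩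
    by_cases h : ∃ g, Below p M P e₀ (g * u * g⁻¹) (conjF g e)
    · obtain ⟨g, hg⟩ := h
      obtain ⟨e1, e2⟩ := key (g * v⁻¹)
      rw [inv_mul_cancel_right] at e1 e2
      have hg' : Below p M P e₀ (g * v⁻¹ * (v * u * v⁻¹) * (g * v⁻¹)⁻¹)
          (conjF (g * v⁻¹) (conjF v e)) := by rw [e1, e2]; exact hg
      rw [fWeight_eq hst hg', fWeight_eq hst hg, e1]
    · rw [fWeight_eq_zero fun g hg => h ⟨g, hg⟩, fWeight_eq_zero fun g hg => ?_]
      obtain ⟨e1, e2⟩ := key g
      rw [e1, e2] at hg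
      exact h ⟨_, hg⟩
  · by_cases hRf : Cfsg.IsBrauerPairOf p M B R f
    · obtain ⟨g, hg⟩ := BrauerPairs.exists_conj_subpairLE hM hmax hRf
      have hle : ∀ r : R, g * (r : G) * g⁻¹ ∈ P := fun r =>
        BlockChar.le_of_subpairLE hg ⟨r, r.2, rfl⟩
      let cg : R →* P := ((MulAut.conj g).toMonoidHom.comp R.subtype).codRestrict P hle
      refine ⟨fun r => lam (g * (r : G) * g⁻¹), ?_, fun u b hb => ?_⟩
      · obtain ⟨a, c, ha, hc, e⟩ := hgen
        exact ⟨fun r => a (cg r), fun r => c (cg r), Char.isCharacter_comp cg ha,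
          Char.isCharacter_comp cg hc, funext fun r => congrFun e (cg r)⟩
      · refine fWeight_eq hst ((below_conj_iff b).2 ?_)
        exact (BrauerPairs.subpairLE_conj hM hb g).trans hg
    · refine ⟨0, Char.isGeneralized_zero, fun u b hb => ?_⟩
      refine fWeight_eq_zero fun g hg => hRf ?_
      exact (BrauerPairs.isBrauerPairOf_iff_of_subpairLE hM hb B).2
        ((exists_below_iff hM hmax b).1 ⟨g, hg⟩)

omit hM hmax in
/-- Homomorphisms trivial on the focal subgroup are stable. -/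
theorem isStable_of_focal {F : Cfsg.FusionSystem P}
    (hF : Cfsg.IsBlockFusionSystemOn p M B P e₀ F) {lam : G → ℂ}
    (hmul : ∀ x ∈ P, ∀ y ∈ P, lam (x * y) = lam x * lam y)
    (hfoc : ∀ x ∈ F.focalSubgroup, lam x = 1) : IsStable p M P e₀ lam := by
  intro u g e hu hgu
  have hP := hgu.mem
  have huP := hu.mem
  obtain ⟨f, hf, rfl⟩ := hu
  have hg := (below_conj_iff f).1 hgu
  have hφ : (MulAut.conj g).toMonoidHom.comp (Subgroup.zpowers u).subtype ∈
      F.Hom (Subgroup.zpowers u) := (hF.2 _ _).2 ⟨BlockChar.le_of_subpairLE hf, g, fun _ => rfl,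
    BlockChar.le_of_subpairLE hg, f, hf, hg⟩
  have hmem : u⁻¹ * (g * u * g⁻¹) ∈ F.focalSubgroup :=
    Subgroup.subset_closure ⟨_, _, ⟨u, Subgroup.mem_zpowers u⟩, hφ, rfl⟩
  have h := hmul u huP (u⁻¹ * (g * u * g⁻¹)) (P.mul_mem (P.inv_mem huP) hP)
  rw [mul_inv_cancel_left, hfoc _ hmem, mul_one] at h
  exact h

end Cfsg.Agent.Blocks.Star
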