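import Cfsg.Agent.Char.Galois
import Cfsg.Agent.Char.Ortho
import Mathlib.RingTheory.IntegralClosure.IntegrallyClosed
import Mathlib.FieldTheory.Minpoly.IsIntegrallyClosed
import Mathlib.RingTheory.AlgebraicIndependent.TranscendenceBasis
import Mathlib.Analysis.Complex.Polynomial.Basic

/-!
# Virtual characters of norm one with algebraic integer coefficients

A complex number is of CM type here when every field endomorphism of `ℂ` commutes at it with
complex conjugation; this covers all character values.  A class function of norm one with such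
values and algebraic integer inner products is a root of unity times an irreducible character.
-/

namespace Cfsg.Agent.Blocks.Star

open Cfsg.Agent
open scoped ComplexConjugate

universe u

/-- Every endomorphism of `ℂ` commutes with conjugation at `a`. -/
def IsCM (a : ℂ) : Prop := ∀ σ : ℂ →+* ℂ, σ (conj a) = conj (σ a)

namespace IsCM

variable {a b : ℂ}

theorem zero : IsCM 0 := fun σ => by simp
theorem one : IsCM 1 := fun σ => by simp
theorem natCast (n : ℕ) : IsCM n := fun σ => by simp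
theorem intCast (n : ℤ) : IsCM n := fun σ => by simp

theorem add (ha : IsCM a) (hb : IsCM b) : IsCM (a + b) := fun σ => by
  simp [map_add, ha σ, hb σ]

theorem mul (ha : IsCM a) (hb : IsCM b) : IsCM (a * b) := fun σ => by
  simp [map_mul, ha σ, hb σ]

theorem neg (ha : IsCM a) : IsCM (-a) := fun σ => by simp [map_neg, ha σ]

theorem sub (ha : IsCM a) (hb : IsCM b) : IsCM (a - b) := sub_eq_add_neg a b ▸ ha.add hb.neg

theorem inv (ha : IsCM a) : IsCM a⁻¹ := fun σ => by simp [map_inv₀, ha σ]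

theorem sum {ι : Type*} (s : Finset ι) {f : ι → ℂ} (h : ∀ i ∈ s, IsCM (f i)) :
    IsCM (∑ i ∈ s, f i) := fun σ => by
  simp only [map_sum]
  exact Finset.sum_congr rfl fun i hi => h i hi σ

theorem of_char {G : Type u} [Group G] [Finite G] {χ : G → ℂ} (hχ : Cfsg.IsCharacter G χ) (g : G) :
    IsCM (χ g) := fun σ => by
  rw [← Char.IsChar.inv_eq_conj hχ g, ← Char.IsChar.inv_eq_conj (Char.isCharacter_map σ hχ) g]

theorem of_gen {G : Type u} [Group G] [Finite G] {θ : G → ℂ}
    (hθ : Cfsg.IsGeneralizedCharacter G θ) (g : G) : IsCM (θ g) := by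
  obtain ⟨c, d, hc, hd, rfl⟩ := hθ
  exact (of_char hc g).sub (of_char hd g)

theorem map_conj (ha : IsCM a) : IsCM (conj a) := fun σ => by
  simp [ha σ]

end IsCM

/-- Every root of the minimal polynomial is the image under an endomorphism of `ℂ`. -/
theorem exists_ringHom_of_root {x r : ℂ} (hx : IsIntegral ℚ x)
    (hr : Polynomial.aeval r (minpoly ℚ x) = 0) : ∃ σ : ℂ →+* ℂ, σ x = r := by
  classical
  let K := algebraicClosure ℚ ℂ
  have : Algebra.IsAlgebraic ℚ K := algebraicClosure.isAlgebraic ℚ ℂ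
  let x' : K := ⟨x, mem_algebraicClosure_iff.2 hx.isAlgebraic⟩
  have hroot : r ∈ (minpoly ℚ x').rootSet ℂ := by
    rw [Polynomial.mem_rootSet_of_ne (minpoly.ne_zero
      (Algebra.IsAlgebraic.isAlgebraic (R := ℚ) x').isIntegral)]
    rwa [← minpoly.algebraMap_eq (A := ℚ) (B := K) (algebraMap K ℂ).injective x']
  rw [← Algebra.IsAlgebraic.range_eval_eq_rootSet_minpoly (F := ℚ) (K := K) ℂ x'] at hroot
  obtain ⟨ψ, hψ⟩ := hroot
  have hψK : ∀ x, ψ x ∈ K := fun x => mem_algebraicClosure_iff.2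
    ((Algebra.IsAlgebraic.isAlgebraic (R := ℚ) x).algHom ψ)
  let ψ' : K →+* K := ψ.toRingHom.codRestrict K.toSubfield hψK
  obtain ⟨T, hT⟩ := exists_isTranscendenceBasis K ℂ
  let L := IntermediateField.adjoin K (Set.range ((↑) : T → ℂ))
  have : Algebra.IsAlgebraic L ℂ := hT.isAlgebraic_field
  let g : MvPolynomial T K →+* ℂ :=
    (MvPolynomial.aeval ((↑) : T → ℂ) : MvPolynomial T K →ₐ[K] ℂ).toRingHom.comp
      (MvPolynomial.map ψ')
  have hg : Function.Injective g :=
    (algebraicIndependent_iff_injective_aeval.1 hT.1).comp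
      (MvPolynomial.map_injective ψ' ψ'.injective)
  let f : L →+* ℂ :=
    (IsFractionRing.lift (K := FractionRing (MvPolynomial T K)) hg).comp
      hT.1.aevalEquivField.symm.toRingEquiv.toRingHom
  obtain ⟨φ, hφ⟩ := IsAlgClosed.surjective_domRestrict_of_isAlgebraic (K := ℚ) (L := L) (E := ℂ)
    (M := ℂ) { f with commutes' := fun q => eq_ratCast (f.comp (algebraMap ℚ L)) q }
  refine ⟨φ.toRingHom, ?_⟩
  let xL : L := algebraMap K L x'
  have h1 : φ ((xL : L) : ℂ) = f xL := DFunLike.congr_fun hφ xL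
  show φ x = r
  rw [show (x : ℂ) = ((xL : L) : ℂ) from rfl, h1]
  show IsFractionRing.lift hg (hT.1.aevalEquivField.symm (algebraMap K L x')) = _
  rw [AlgEquiv.commutes, IsScalarTower.algebraMap_apply K (MvPolynomial T K)
    (FractionRing (MvPolynomial T K)), IsFractionRing.lift_algebraMap]
  simp only [g, RingHom.comp_apply, MvPolynomial.algebraMap_eq, MvPolynomial.map_C]
  show MvPolynomial.aeval _ (MvPolynomial.C (ψ' x')) = _
  rw [MvPolynomial.aeval_C]
  exact hψ

/-- A non-zero algebraic integer all of whose images have absolute value at most one has absolute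
value one. -/
theorem norm_eq_one_of_conjugates_le {x : ℂ} (hx : IsIntegral ℤ x) (hx0 : x ≠ 0)
    (h : ∀ σ : ℂ →+* ℂ, ‖σ x‖ ≤ 1) : ‖x‖ = 1 := by
  classical
  set q := (minpoly ℤ x).map (algebraMap ℤ ℂ) with hq
  have hmon : q.Monic := (minpoly.monic hx).map _
  have hxQ : IsIntegral ℚ x := hx.tower_top
  have hmin : minpoly ℚ x = (minpoly ℤ x).map (algebraMap ℤ ℚ) :=
    minpoly.isIntegrallyClosed_eq_field_fractions' ℚ hx
  have hroots : ∀ r ∈ q.roots, ‖r‖ ≤ 1 := by
    intro r hr
    have h1 : Polynomial.eval r q = 0 := Polynomial.isRoot_of_mem_roots hr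
    obtain ⟨σ, rfl⟩ := exists_ringHom_of_root hxQ (r := r) (by
      rw [hmin, Polynomial.aeval_map_algebraMap, Polynomial.aeval_def, ← Polynomial.eval_map]
      exact h1)
    exact h σ
  have hxr : x ∈ q.roots := by
    rw [Polynomial.mem_roots hmon.ne_zero, Polynomial.IsRoot, hq, Polynomial.eval_map]
    exact minpoly.aeval ℤ x
  have hc0 : (minpoly ℤ x).coeff 0 ≠ 0 := fun e =>
    minpoly.coeff_zero_ne_zero hxQ hx0 (by rw [hmin, Polynomial.coeff_map, e, map_zero])
  have hprod : 1 ≤ ‖q.roots.prod‖ := by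
    have h := congrArg (‖·‖) (Polynomial.Splits.coeff_zero_eq_prod_roots_of_monic
      (IsAlgClosed.splits q) hmon)
    simp only [norm_mul, norm_pow, norm_neg, norm_one, one_pow, one_mul] at h
    rw [← h, hq, Polynomial.coeff_map, eq_intCast, Complex.norm_intCast]
    exact_mod_cast Int.one_le_abs hc0
  refine le_antisymm (hroots x hxr) ?_
  rw [← Multiset.cons_erase hxr, Multiset.prod_cons, norm_mul] at hprod
  have hle : ‖(q.roots.erase x).prod‖ ≤ 1 := by
    have key : ∀ s : Multiset ℂ, (∀ r ∈ s, ‖r‖ ≤ 1) → ‖s.prod‖ ≤ 1 := by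
      intro s
      induction s using Multiset.induction with
      | empty => simp
      | cons a s ih =>
        intro hs
        rw [Multiset.prod_cons, norm_mul]
        exact mul_le_one₀ (hs a (Multiset.mem_cons_self a s)) (norm_nonneg _)
          (ih fun r hr => hs r (Multiset.mem_cons_of_mem hr))
    exact key _ fun r hr => hroots r (Multiset.mem_of_mem_erase hr)
  calc (1 : ℝ) ≤ ‖x‖ * ‖(q.roots.erase x).prod‖ := hprod
    _ ≤ ‖x‖ := mul_le_of_le_one_right (norm_nonneg _) hle

/-- A norm one class function with integral coefficients and positive degree is irreducible. -/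
theorem exists_irr_of_norm_one {G : Type u} [Group G] [Fintype G] {Φ : G → ℂ}
    (hΦ : Cfsg.IsClassFunction G Φ) (hCM : ∀ g, IsCM (Φ g))
    (hint : ∀ θ : Cfsg.IrrCharacter G, IsIntegral ℤ (Cfsg.classInner Φ (θ : G → ℂ)))
    (hnorm : Cfsg.classInner Φ Φ = 1) {d : ℕ} (hd : 0 < d) (h1 : Φ 1 = (d : ℂ)) :
    ∃ θ : Cfsg.IrrCharacter G, Φ = (θ : G → ℂ) := by
  classical
  set a : Cfsg.IrrCharacter G → ℂ := fun θ => Cfsg.classInner Φ (θ : G → ℂ) with ha
  have haCM : ∀ θ, IsCM (a θ) := fun θ => by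
    refine (IsCM.natCast _).inv.mul (IsCM.sum _ fun g _ => (hCM g).mul ?_)
    exact (IsCM.of_char (Char.IsIrr.isCharacter θ.2) g).map_conj
  have hexp := Char.classFun_expansion hΦ
  have hsum : ∑ θ, a θ * conj (a θ) = 1 := by
    have e : Cfsg.classInner Φ Φ =
        Cfsg.classInner (∑ θ : Cfsg.IrrCharacter G, a θ • (θ : G → ℂ)) Φ := by
      conv_lhs => arg 1; rw [hexp]
    rw [← hnorm, e, Char.classInner_sum_left]
    refine Finset.sum_congr rfl fun θ _ => ?_
    rw [Char.classInner_smul_left, Char.classInner_conj_symm]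
  have hle : ∀ (σ : ℂ →+* ℂ) θ, ‖σ (a θ)‖ ≤ 1 := by
    intro σ θ
    have h := congrArg σ hsum
    simp only [map_sum, map_one] at h
    rw [Finset.sum_congr rfl fun η _ => show σ (a η * conj (a η)) = σ (a η) * conj (σ (a η)) by
      rw [map_mul, haCM η σ]] at h
    simp only [Complex.mul_conj] at h
    have h' : ∑ η, Complex.normSq (σ (a η)) = 1 := by exact_mod_cast h
    have h2 : Complex.normSq (σ (a θ)) ≤ 1 :=
      h' ▸ Finset.single_le_sum (f := fun η => Complex.normSq (σ (a η)))
        (fun η _ => Complex.normSq_nonneg _) (Finset.mem_univ θ)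
    rw [Complex.normSq_eq_norm_sq] at h2
    exact (sq_le_one_iff_abs_le_one _).1 h2 |> (abs_norm (σ (a θ))).symm.trans_le
  have h01 : ∀ θ, a θ ≠ 0 → Complex.normSq (a θ) = 1 := fun θ h => by
    rw [Complex.normSq_eq_norm_sq, norm_eq_one_of_conjugates_le (hint θ) h fun σ => hle σ θ,
      one_pow]
  have hsum' : ∑ θ, Complex.normSq (a θ) = 1 := by
    simp only [Complex.mul_conj] at hsum
    exact_mod_cast hsum
  obtain ⟨θ₀, hθ₀⟩ : ∃ θ, a θ ≠ 0 := by
    by_contra! h
    simp [h] at hsum'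
  have hother : ∀ θ, θ ≠ θ₀ → a θ = 0 := by
    intro θ hne
    by_contra h
    have h2 : Complex.normSq (a θ) + Complex.normSq (a θ₀) ≤ ∑ η, Complex.normSq (a η) := by
      rw [← Finset.sum_pair (f := fun η => Complex.normSq (a η)) hne]
      exact Finset.sum_le_sum_of_subset_of_nonneg (Finset.subset_univ _)
        fun η _ _ => Complex.normSq_nonneg _
    rw [hsum', h01 θ h, h01 θ₀ hθ₀] at h2
    norm_num at h2
  have hΦeq : Φ = a θ₀ • (θ₀ : G → ℂ) := by
    rw [hexp, Finset.sum_eq_single θ₀ (fun θ _ hne => by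
      rw [show Cfsg.classInner Φ (θ : G → ℂ) = a θ from rfl, hother θ hne, zero_smul])
      (fun h => absurd (Finset.mem_univ θ₀) h)]
  refine ⟨θ₀, ?_⟩
  obtain ⟨m, hm0, hm⟩ := Char.IsIrr.degree θ₀.2
  have h2 : (d : ℂ) = a θ₀ * (m : ℂ) := by
    rw [← h1, hΦeq, Pi.smul_apply, smul_eq_mul, hm]
  have h3 : a θ₀ = (((d : ℝ) / m : ℝ) : ℂ) := by
    rw [Complex.ofReal_div, Complex.ofReal_natCast, Complex.ofReal_natCast,
      eq_div_iff (Nat.cast_ne_zero.2 hm0.ne')]
    exact h2.symm
  have h4 : ((d : ℝ) / m) * ((d : ℝ) / m) = 1 := by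
    have := h01 θ₀ hθ₀
    rwa [h3, Complex.normSq_ofReal] at this
  have h5 : ((d : ℝ) / m) = 1 := by
    have hpos : (0 : ℝ) < (d : ℝ) / m := div_pos (Nat.cast_pos.2 hd) (Nat.cast_pos.2 hm0)
    nlinarith
  rw [hΦeq, h3, h5, Complex.ofReal_one, one_smul]

end Cfsg.Agent.Blocks.Star
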