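import Cfsg.Agent.Blocks.Star.Refine
import Cfsg.Agent.BrauerPairs.Inclusion

/-!
# A local primitive idempotent determines Brauer pairs

If `x` is primitive in the fixed ring of the `p`-group `R` and has non-zero Brauer image at `R`,
then there is a block `f` of `C(R)` such that for every pair `(Q, b)` below `(R, f)` the Brauer
image of `x` at `Q` lies in `b`.
-/

namespace Cfsg.Agent.Blocks.Star

open Cfsg.Agent Cfsg.Agent.Blocks

universe u

attribute [local instance] Ideal.Quotient.field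

variable {G : Type u} [Group G] [Fintype G] {p : ℕ} [Fact p.Prime] {M : Ideal Cfsg.AlgInt}

local notation "CG[" Q "]" => Subgroup.centralizer ((Q : Subgroup G) : Set G)
local notation "sbc" => Cfsg.subgroupBlockCoeff

variable (hM : Cfsg.IsPModular p M) (n : ℕ)

/-- The reduced idempotent of a block of a centralizer. -/
noncomputable def bl (Q : Subgroup G) (b : Set (Cfsg.IrrCharacter CG[Q])) : ModAlg G M :=
  redFun hM (sbc CG[Q] b)

omit [Fact p.Prime] in
theorem bl_mul_self {Q : Subgroup G} {b : Set (Cfsg.IrrCharacter CG[Q])}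
    (hb : Cfsg.IsPBlock M b) : bl hM Q b * bl hM Q b = bl hM Q b := by
  rw [bl, redFun_mul hM (BrauerPairs.memLocalRing_sbc hM hb) (BrauerPairs.memLocalRing_sbc hM hb),
    BrauerPairs.conv_sbc_self]

omit [Fact p.Prime] in
theorem coeff_bl_of_notMem {Q : Subgroup G} (b : Set (Cfsg.IrrCharacter CG[Q])) {z : G}
    (hz : z ∉ CG[Q]) : (bl hM Q b).coeff z = 0 := by
  rw [bl, coeff_redFun, BrauerPairs.sbc_of_notMem b hz]
  exact (residue hM).map_zero

omit [Fact p.Prime] in
theorem sum_bl (Q : Subgroup G) [Fintype (BrauerPairs.PBlock M CG[Q])] :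
    ∑ b : BrauerPairs.PBlock M CG[Q], bl hM Q b.1 = 1 := by
  classical
  refine alg_ext fun z => ?_
  rw [MonoidAlgebra.coeff_sum, Finsupp.finsetSum_apply, coeff_one]
  simp only [bl, coeff_redFun]
  rw [← resFun_sum hM _ _ fun b _ => BrauerPairs.memLocalRing_sbc hM b.2 z, ← Finset.sum_apply,
    BrauerPairs.sum_sbc hM]
  by_cases hz : z = 1
  · subst hz
    rw [show delta G 1 = 1 by simp [delta], if_pos rfl]
    exact (residue hM).map_one
  · rw [show delta G z = 0 by simp [delta, hz], if_neg hz]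
    exact (residue hM).map_zero

omit [Fact p.Prime] in
theorem fixB_bl {Q : Subgroup G} {b : Set (Cfsg.IrrCharacter CG[Q])} {S : Set G}
    (h : BrauerPairs.IsInv S (sbc CG[Q] b)) : FixB S (bl hM Q b) := by
  intro g hg z
  rw [bl, coeff_redFun, coeff_redFun]
  congr 1
  conv_rhs => rw [show z = g * (g⁻¹ * z * g) * g⁻¹ by group]
  exact (h g hg _).symm

omit [Fact p.Prime] [Fintype G] in
theorem isInv_sbc_self {Q : Subgroup G} (b : Set (Cfsg.IrrCharacter CG[Q])) :
    BrauerPairs.IsInv (Q : Set G) (sbc CG[Q] b) := by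
  intro q hq z
  by_cases hz : z ∈ CG[Q]
  · rw [Subgroup.mem_centralizer_iff.1 hz q hq, mul_inv_cancel_right]
  · rw [BrauerPairs.sbc_of_notMem b hz, BrauerPairs.sbc_of_notMem b fun h => hz ?_]
    have := (BrauerPairs.mem_centralizer_iff_of_mem_normalizer (Subgroup.le_normalizer hq) z).2 h
    exact this

omit [Fact p.Prime] in
/-- The idempotent of a block of a centralizer commutes with what is supported there. -/
theorem bl_comm {Q : Subgroup G} (b : Set (Cfsg.IrrCharacter CG[Q])) {c : ModAlg G M}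
    (hc : ∀ z, z ∉ CG[Q] → c.coeff z = 0) : bl hM Q b * c = c * bl hM Q b := by
  refine alg_ext fun z => ?_
  rw [coeff_mul', coeff_mul']
  refine Fintype.sum_equiv ((Equiv.inv G).trans (Equiv.mulRight z)) _ _ fun a => ?_
  show _ = c.coeff (a⁻¹ * z) * (bl hM Q b).coeff ((a⁻¹ * z)⁻¹ * z)
  rw [mul_comm]
  by_cases h : a⁻¹ * z ∈ CG[Q]
  · congr 1
    have h2 := fixB_bl hM (BrauerPairs.isInv_sbc b) (a⁻¹ * z) h a
    exact h2.symm.trans (congrArg (fun w => (bl hM Q b).coeff w) (by group))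
  · rw [hc _ h, zero_mul, zero_mul]

/-- The Brauer image of the smaller idempotent covers the larger one. -/
theorem bl_mul_trunB {Q P : Subgroup G} {b : Set (Cfsg.IrrCharacter CG[Q])}
    {e : Set (Cfsg.IrrCharacter CG[P])} (h : Cfsg.IsNormalSubpair p M Q b P e) :
    bl hM P e * trunB P (bl hM Q b) = bl hM P e := by
  classical
  obtain ⟨⟨-, hb⟩, ⟨hP, he⟩, hQP, hPN, hst, hω⟩ := h
  letI := Fintype.ofFinite CG[P]
  set F := sbc CG[Q] b with hF
  have hFP : BrauerPairs.IsInv (P : Set G) F := BrauerPairs.isInv_of_stabilizes hM hPN hb hst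
  have hFC : BrauerPairs.IsInv (CG[P] : Set G) F := BrauerPairs.isInv_sbc_centralizer hQP b
  have hFR := BrauerPairs.memLocalRing_sbc hM hb
  set A : Set (Cfsg.IrrCharacter CG[P]) :=
    {ξ | Cfsg.MemLocalIdeal M (Cfsg.brauerOmega P F (ξ : CG[P] → ℂ) - 1)} with hA
  have hAu : ∀ ξ ∈ A, ∀ η : Cfsg.IrrCharacter CG[P],
      Cfsg.SameBlock M (ξ : CG[P] → ℂ) (η : CG[P] → ℂ) → η ∈ A := by
    intro ξ hξ η h
    have := memLocalIdeal_sub hM hξ (BrauerPairs.brauerOmega_sameBlock hM hFC hFR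
      (isPBlock_blockOf ξ) (mem_blockOf_self hM ξ) (mem_blockOf.2 h))
    show Cfsg.MemLocalIdeal M _
    convert this using 1
    ring
  have h01 : ∀ ξ : Cfsg.IrrCharacter CG[P], Cfsg.MemLocalIdeal M
      (omega (ξ : CG[P] → ℂ) (fun a : CG[P] => F a) - if ξ ∈ A then 1 else 0) := by
    intro ξ
    rw [← BrauerPairs.brauerOmega_eq]
    split_ifs with h
    · exact h
    have h2 := BrauerPairs.brauerOmega_conv hM hP hFP hFP hFC hFC hFR hFR ξ
    rw [hF, BrauerPairs.conv_sbc_self, ← hF] at h2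
    set w := Cfsg.brauerOmega P F (ξ : CG[P] → ℂ) with hw
    have hwR := BrauerPairs.memLocalRing_brauerOmega hM hFC hFR ξ
    by_contra h0
    rw [sub_zero] at h0
    refine h ?_
    have hinv : Cfsg.MemLocalRing M w⁻¹ := memLocalRing_inv hwR h0
    have h3 := memLocalIdeal_neg (memLocalIdeal_mul_right hM h2 hinv)
    show Cfsg.MemLocalIdeal M (w - 1)
    convert h3 using 1
    have : w ≠ 0 := fun e => h0 (e ▸ memLocalIdeal_zero hM)
    field_simp
    ring
  have hAR : ∀ z, Cfsg.MemLocalRing M (Cfsg.blockCoeff A z) := fun z =>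
    memLocalRing_blockCoeff_union hM hAu z
  have hres : ∀ z : CG[P], Cfsg.MemLocalIdeal M (F (z : G) - Cfsg.blockCoeff A z) := by
    refine memLocalIdeal_sub_blockCoeff hM (e := fun a : CG[P] => F a) hFC.isClassFunction_res
      (fun a => hFR a) (fun a => ?_) hAR h01
    have := memLocalIdeal_neg (BrauerPairs.memLocalIdeal_conv_res_sub_of_isInv hM hP hFP hFP hFR hFR a)
    rw [hF, BrauerPairs.conv_sbc_self, ← hF, neg_sub] at this
    exact this
  set F' : G → ℂ := fun z => if z ∈ CG[P] then F z else 0 with hF'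
  have hF'R : ∀ z, Cfsg.MemLocalRing M (F' z) := fun z => by
    simp only [hF']; split_ifs
    exacts [hFR z, (localRing hM).zero_mem]
  have hEsupp : ∀ g, g ∉ CG[P] → sbc CG[P] e g = 0 := fun g hg => BrauerPairs.sbc_of_notMem e hg
  have heR := BrauerPairs.memLocalRing_sbc hM he
  have hconv : ∀ z, Cfsg.MemLocalIdeal M (conv (sbc CG[P] e) F' z - sbc CG[P] e z) := by
    intro z
    by_cases hz : z ∈ CG[P]
    · rw [← Subgroup.coe_mk CG[P] z hz, BrauerPairs.conv_of_supported hEsupp,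
        BrauerPairs.sbc_apply]
      simp only [BrauerPairs.sbc_apply, hF', Subgroup.coe_mk, SetLike.coe_mem, if_true]
      have h1 := memLocalIdeal_conv_sub hM (f := Cfsg.blockCoeff e) (f' := Cfsg.blockCoeff e)
        (fun w => by rw [sub_self]; exact memLocalIdeal_zero hM) hres
        (memLocalRing_blockCoeff hM he) (fun a : CG[P] => hFR (a : G)) ⟨z, hz⟩
      have h2 : conv (Cfsg.blockCoeff e) (Cfsg.blockCoeff A) = Cfsg.blockCoeff e := by
        refine eq_blockCoeff (isClassFunction_conv (isClassFunction_blockCoeff e)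
          (isClassFunction_blockCoeff A)) e fun χ => ?_
        rw [omega_conv χ.2 (isClassFunction_blockCoeff e) (isClassFunction_blockCoeff A),
          omega_blockCoeff, omega_blockCoeff]
        split_ifs with hχ hχA <;> try simp
        exact hχA (hω χ hχ)
      rwa [h2] at h1
    · rw [BrauerPairs.conv_eq_zero_of_notMem hEsupp (fun g hg => by simp [hF', hg]) hz,
        hEsupp z hz, sub_self]
      exact memLocalIdeal_zero hM
  have htr : trunB P (bl hM Q b) = redFun hM F' := by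
    refine alg_ext fun z => ?_
    rw [coeff_redFun]
    by_cases hz : z ∈ CG[P]
    · rw [coeff_trunB_of_mem _ hz, bl, coeff_redFun]; simp [hF', hz, hF]
    · rw [coeff_trunB_of_notMem _ hz]
      simp only [hF', if_neg hz]
      exact (residue hM).map_zero.symm
  rw [htr, bl, redFun_mul hM heR hF'R]
  refine alg_ext fun z => ?_
  rw [coeff_redFun, coeff_redFun]
  exact (residue_eq_iff hM ⟨_, memLocalRing_conv hM heR hF'R z⟩ ⟨_, heR z⟩).2 (hconv z)

theorem trunB_bl_self (Q : Subgroup G) (b : Set (Cfsg.IrrCharacter CG[Q])) :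
    trunB Q (bl hM Q b) = bl hM Q b := by
  refine alg_ext fun z => ?_
  by_cases hz : z ∈ CG[Q]
  · rw [coeff_trunB_of_mem _ hz]
  · rw [coeff_trunB_of_notMem _ hz, coeff_bl_of_notMem hM b hz]

/-- The block of a local primitive idempotent, and those below it. -/
theorem exists_block_compat {R : Subgroup G} (hR : IsPGroup p R) {y : G}
    (hyR : ∀ r ∈ R, y * r = r * y) {x : GA G hM n} (hx : Prim (CS hM n R y) x)
    (h0 : br hM n R x ≠ 0) :
    ∃ f : Set (Cfsg.IrrCharacter CG[R]), Cfsg.IsPBlock M f ∧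
      ∀ (Q : Subgroup G), Q ≤ R → ∀ b : Set (Cfsg.IrrCharacter CG[Q]),
        Cfsg.SubpairLE p M Q b R f → br hM n Q x * bl hM Q b = br hM n Q x := by
  classical
  haveI := hM.2.1
  haveI := BlockThms.OrderP.isAlgClosed_residue (M := M)
  have hlift := isLift_cen (G := G) hM n ((R : Set G) ∪ {y})
  have hyC : ∀ {Q : Subgroup G}, Q ≤ R → y ∈ CG[Q] := fun {Q} hQ =>
    Subgroup.mem_centralizer_iff.2 fun q hq => (hyR q (hQ hq)).symm
  have hbrmul : ∀ {Q : Subgroup G}, Q ≤ R → ∀ {a c}, a ∈ CS hM n R y → c ∈ CS hM n R y →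
      br hM n Q (a * c) = br hM n Q a * br hM n Q c := fun {Q} hQ {a c} ha hc =>
    br_mul hM n (hR.to_le hQ) (S := (R : Set G) ∪ {y}) (fun q hq => Or.inl (hQ hq)) ha hc
  have hxx : ∀ {Q : Subgroup G}, Q ≤ R → br hM n Q x * br hM n Q x = br hM n Q x := fun {Q} hQ => by
    rw [← hbrmul hQ hx.1 hx.1, hx.2.1.eq]
  have hunit : ∀ {Q : Subgroup G}, Q ≤ R → ∀ {a}, InCorner (CS hM n R y) x x a →
      IsNilpotent a → IsNilpotent (br hM n Q a) := fun {Q} hQ {a} ha hn =>
    br_isNilpotent hM n (hR.to_le hQ) (S := (R : Set G) ∪ {y}) (fun q hq => Or.inl (hQ hq)) ha.1 hn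
  have hsuppC : ∀ (Q : Subgroup G) (a : GA G hM n) z, z ∉ CG[Q] → (br hM n Q a).coeff z = 0 :=
    fun Q a z hz => coeff_trunB_of_notMem _ hz
  letI := Fintype.ofFinite (BrauerPairs.PBlock M CG[R])
  obtain ⟨⟨f, hf⟩, hfne⟩ : ∃ f : BrauerPairs.PBlock M CG[R], br hM n R x * bl hM R f.1 ≠ 0 := by
    by_contra! hall
    refine h0 ?_
    rw [← mul_one (br hM n R x), ← sum_bl hM R, Finset.mul_sum]
    exact Finset.sum_eq_zero fun f _ => hall f
  have hfR : br hM n R x * bl hM R f = br hM n R x := by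
    set a := toA hM n (sbc CG[R] f)
    have ha : a ∈ CS hM n R y := by
      refine toA_mem_cen hM n ?_
      rintro g (hg | hg) z
      · exact isInv_sbc_self f g hg z
      · rw [Set.mem_singleton_iff] at hg
        subst hg
        exact BrauerPairs.isInv_sbc f g (hyC le_rfl) z
    have hbra : br hM n R a = bl hM R f := by
      rw [br, red_toA hM n (BrauerPairs.memLocalRing_sbc hM hf)]; exact trunB_bl_self hM R f
    have hcor : InCorner (CS hM n R y) x x (x * a * x) :=
      ⟨Subring.mul_mem _ (Subring.mul_mem _ hx.1 ha) hx.1,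
        by rw [← mul_assoc, ← mul_assoc, hx.2.1.eq], by rw [mul_assoc, hx.2.1.eq]⟩
    have hval : br hM n R (x * a * x) = br hM n R x * bl hM R f := by
      rw [hbrmul le_rfl (Subring.mul_mem _ hx.1 ha) hx.1, hbrmul le_rfl hx.1 ha, hbra, mul_assoc,
        bl_comm hM f (hsuppC R x), ← mul_assoc, hxx le_rfl]
    have hid : IsIdempotentElem (br hM n R x * bl hM R f) := by
      show _ * _ = _
      rw [mul_assoc, ← mul_assoc (bl hM R f), bl_comm hM f (hsuppC R x), mul_assoc (br hM n R x),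
        bl_mul_self hM hf, ← mul_assoc, hxx le_rfl]
    rcases hx.unit_or_nilpotent hlift hcor with hn | ⟨W, hW, hxW, -⟩
    · have := hunit le_rfl hcor hn
      rw [hval] at this
      exact absurd (hid.eq_zero_of_isNilpotent this) hfne
    · have h1 := congrArg (br hM n R) hxW
      rw [hbrmul le_rfl hcor.1 hW.1, hval] at h1
      calc br hM n R x * bl hM R f
          = br hM n R x * bl hM R f * br hM n R x := by
            rw [mul_assoc, bl_comm hM f (hsuppC R x), ← mul_assoc, hxx le_rfl]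
        _ = br hM n R x * bl hM R f * (br hM n R x * bl hM R f * br hM n R W) := by rw [h1]
        _ = br hM n R x * bl hM R f * br hM n R W := by rw [← mul_assoc, hid.eq]
        _ = br hM n R x := h1
  refine ⟨f, hf, ?_⟩
  have hRf : Cfsg.IsBrauerPair p M R f := ⟨hR, hf⟩
  intro Q
  induction Q using WellFoundedGT.induction with
  | _ Q ih =>
  intro hQR b hb
  rcases eq_or_ne Q R with rfl | hne
  · obtain rfl : b = f := (BrauerPairs.existsUnique_subpairLE hM hRf le_rfl).unique hb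
      Relation.ReflTransGen.refl
    exact hfR
  set R' := R ⊓ Subgroup.normalizer (Q : Set G) with hR'
  have hlt : Q < R' := lt_of_le_of_ne (le_inf hQR Subgroup.le_normalizer) fun h =>
    hne (Embedded.eq_of_normalizer_inf_le hR hQR h.ge)
  have hbB : Cfsg.IsPBlock M b := (BrauerPairs.isBrauerPair_of_subpairLE hRf hb).2
  set bx := br hM n Q x with hbx
  set e := bl hM Q b with he
  set z := bx * (1 - e) with hz
  have hstep : ∀ Q' : Subgroup G, Q < Q' → Q' ≤ R' →
      FixB (Q' : Set G) z ∧ trunB Q' z = 0 := by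
    intro Q' hQQ' hQ'R'
    have hQ'R : Q' ≤ R := hQ'R'.trans inf_le_left
    obtain ⟨b', hb', -⟩ := BrauerPairs.existsUnique_subpairLE hM hRf hQ'R
    have hb'P := BrauerPairs.isBrauerPair_of_subpairLE hRf hb'
    obtain ⟨b'', hb'', -⟩ := BrauerPairs.existsUnique_normalSubpair hM hb'P hQQ'.le
      (hQ'R'.trans inf_le_right)
    obtain rfl : b = b'' := (BrauerPairs.existsUnique_subpairLE hM hRf hQR).unique hb
      (Relation.ReflTransGen.head (show Cfsg.NormalSubpairRel p M ⟨Q, b''⟩ ⟨Q', b'⟩ from hb'') hb')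
    have hbinv := BrauerPairs.isInv_of_stabilizes hM hb''.2.2.2.1 hbB hb''.2.2.2.2.1
    have he_fix : FixB (Q' : Set G) e := fixB_bl hM hbinv
    have hconj : ∀ g ∈ Q', ∀ w, (g⁻¹ * w * g ∈ CG[Q] ↔ w ∈ CG[Q]) := by
      intro g hg w
      have h := BrauerPairs.mem_centralizer_iff_of_mem_normalizer
        (hQ'R'.trans inf_le_right hg) (g⁻¹ * w * g)
      rwa [show g * (g⁻¹ * w * g) * g⁻¹ = w by group] at h
    have hbx_fix : FixB (Q' : Set G) bx := by
      intro g hg w
      by_cases hw : w ∈ CG[Q]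
      · rw [hbx, br, coeff_trunB_of_mem _ hw, coeff_trunB_of_mem _ ((hconj g hg w).2 hw),
          fixB_red hM n hx.1 g (Or.inl (hQ'R hg))]
      · rw [hbx, hsuppC Q x w hw, hsuppC Q x _ (mt (hconj g hg w).1 hw)]
    have hone : FixB (Q' : Set G) (1 - e) := by
      intro g hg w
      simp only [MonoidAlgebra.coeff_sub, Finsupp.sub_apply, coeff_one, he_fix g hg w]
      have : g⁻¹ * w * g = 1 ↔ w = 1 :=
        ⟨fun h => by
          have e : w = g * (g⁻¹ * w * g) * g⁻¹ := by group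
          rw [e, h]; group, fun h => by subst h; group⟩
      simp only [this]
    refine ⟨fun g hg w => ?_, ?_⟩
    · rw [hz, coeff_mul', coeff_mul']
      refine Fintype.sum_equiv (MulAut.conj g).toEquiv _ _ fun a => ?_
      simp only [MulEquiv.toEquiv_eq_coe, EquivLike.coe_coe, MulAut.conj_apply]
      congr 1
      · have h2 := hbx_fix g hg (g * a * g⁻¹)
        rwa [show g⁻¹ * (g * a * g⁻¹) * g = a by group] at h2
      · have h2 := hone g hg ((g * a * g⁻¹)⁻¹ * w)
        rwa [show g⁻¹ * ((g * a * g⁻¹)⁻¹ * w) * g = a⁻¹ * (g⁻¹ * w * g) by group] at h2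
    · rw [hz, trunB_mul hM hb'P.1 hbx_fix hone, hbx, br, trunB_trunB hQQ'.le, trunB_sub, trunB_one]
      have h1 : trunB Q' (red hM n x) * bl hM Q' b' = trunB Q' (red hM n x) := ih Q' hQQ' hQ'R b' hb'
      rw [← h1, mul_assoc, mul_sub, mul_one, bl_mul_trunB hM hb'', sub_self, mul_zero]
  have hR'p : IsPGroup p R' := hR.to_le inf_le_left
  have hstab : ∀ w, z.coeff w ≠ 0 → w ∈ CG[Q] ∧ R ⊓ Subgroup.centralizer ({w} : Set G) = Q := by
    intro w hw
    have hwC : w ∈ CG[Q] := by
      by_contra hwC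
      refine hw ?_
      rw [hz, coeff_mul']
      refine Finset.sum_eq_zero fun a _ => ?_
      by_cases ha : a ∈ CG[Q]
      · have hne1 : a⁻¹ * w ∉ CG[Q] := fun h => hwC (by simpa using mul_mem ha h)
        rw [MonoidAlgebra.coeff_sub, Finsupp.sub_apply, coeff_one, he, coeff_bl_of_notMem hM b hne1,
          if_neg (fun h : a⁻¹ * w = 1 => hne1 (h ▸ one_mem _)), sub_zero, mul_zero]
      · rw [hbx, hsuppC Q x a ha, zero_mul]
    refine ⟨hwC, ?_⟩
    set S := R ⊓ Subgroup.centralizer ({w} : Set G)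
    have hQS : Q ≤ S := le_inf hQR fun q hq => Subgroup.mem_centralizer_singleton_iff.2
      (Subgroup.mem_centralizer_iff.1 hwC q hq)
    by_contra hne
    refine hw ?_
    set Q' := S ⊓ Subgroup.normalizer (Q : Set G)
    have hQQ' : Q < Q' := lt_of_le_of_ne (le_inf hQS Subgroup.le_normalizer) fun h =>
      hne (Embedded.eq_of_normalizer_inf_le (hR.to_le inf_le_left) hQS h.ge).symm
    have hwQ' : w ∈ CG[Q'] := Subgroup.mem_centralizer_iff.2 fun q hq =>
      Subgroup.mem_centralizer_singleton_iff.1 (show q ∈ S from hq.1).2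
    rw [← coeff_trunB_of_mem z hwQ', (hstep Q' hQQ' (inf_le_inf_right _ inf_le_left)).2]
    simp
  have hR'fix := (hstep R' hlt le_rfl).1
  have hzy : ∀ w, z.coeff (y⁻¹ * w * y) = z.coeff w := by
    intro w
    rw [hz, coeff_mul', coeff_mul']
    refine Fintype.sum_equiv (MulAut.conj y).toEquiv _ _ fun a => ?_
    simp only [MulEquiv.toEquiv_eq_coe, EquivLike.coe_coe, MulAut.conj_apply]
    congr 1
    · have hiff : a ∈ CG[Q] ↔ y * a * y⁻¹ ∈ CG[Q] :=
        ⟨fun h => mul_mem (mul_mem (hyC hQR) h) (inv_mem (hyC hQR)), fun h => by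
          have := mul_mem (mul_mem (inv_mem (hyC hQR)) h) (hyC hQR)
          rwa [show y⁻¹ * (y * a * y⁻¹) * y = a by group] at this⟩
      by_cases ha : a ∈ CG[Q]
      · rw [hbx, br, coeff_trunB_of_mem _ ha, coeff_trunB_of_mem _ (hiff.1 ha)]
        have h2 := fixB_red hM n hx.1 y (Or.inr rfl) (y * a * y⁻¹)
        rwa [show y⁻¹ * (y * a * y⁻¹) * y = a by group] at h2
      · rw [hbx, hsuppC Q x a ha, hsuppC Q x _ (mt hiff.2 ha)]
    · simp only [MonoidAlgebra.coeff_sub, Finsupp.sub_apply, coeff_one, he]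
      have h2 := fixB_bl hM (BrauerPairs.isInv_sbc b) y (hyC hQR) ((y * a * y⁻¹)⁻¹ * w)
      rw [show y⁻¹ * ((y * a * y⁻¹)⁻¹ * w) * y = a⁻¹ * (y⁻¹ * w * y) by group] at h2
      rw [h2]
      have : a⁻¹ * (y⁻¹ * w * y) = 1 ↔ (y * a * y⁻¹)⁻¹ * w = 1 := by
        rw [inv_mul_eq_one, inv_mul_eq_one]
        exact ⟨fun h => by rw [h]; group, fun h => by rw [← h]; group⟩
      simp only [this]
  let F : G → Cfsg.AlgInt ⧸ M := fun h =>
    if hh : ∃ r, r ∈ R ∧ z.coeff (r⁻¹ * h * r) ≠ 0 then z.coeff (hh.choose⁻¹ * h * hh.choose) else 0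
  have huniq : ∀ h r s, r ∈ R → s ∈ R → z.coeff (r⁻¹ * h * r) ≠ 0 → z.coeff (s⁻¹ * h * s) ≠ 0 →
      z.coeff (r⁻¹ * h * r) = z.coeff (s⁻¹ * h * s) := by
    intro h r s hr hs h1 h2
    set t := r⁻¹ * s with ht
    have htR : t ∈ R := R.mul_mem (R.inv_mem hr) hs
    have hsr : s⁻¹ * h * s = t⁻¹ * (r⁻¹ * h * r) * t := by rw [ht]; group
    rw [hsr] at h2 ⊢
    have e1 := (hstab _ h1).2
    have e2 := (hstab _ h2).2
    have hnorm : t ∈ Subgroup.normalizer (Q : Set G) := by
      rw [Subgroup.mem_normalizer_iff_map_conj_eq]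
      refine Subgroup.eq_of_le_of_card_ge ?_ (le_of_eq (DefectThms.card_map_conj Q t).symm)
      rintro _ ⟨q, hq, rfl⟩
      show t * q * t⁻¹ ∈ Q
      have hc := (show q ∈ R ⊓ Subgroup.centralizer ({t⁻¹ * (r⁻¹ * h * r) * t} : Set G) by
        rw [e2]; exact hq).2
      rw [← e1]
      refine ⟨R.mul_mem (R.mul_mem htR (hQR hq)) (R.inv_mem htR),
        Subgroup.mem_centralizer_singleton_iff.2 ?_⟩
      have hc' := Subgroup.mem_centralizer_singleton_iff.1 hc
      rw [show t * q * t⁻¹ * (r⁻¹ * h * r) = t * (q * (t⁻¹ * (r⁻¹ * h * r) * t)) * t⁻¹ by group, hc']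
      group
    exact (hR'fix t ⟨htR, hnorm⟩ _).symm
  have hFval : ∀ h r, r ∈ R → z.coeff (r⁻¹ * h * r) ≠ 0 → F h = z.coeff (r⁻¹ * h * r) := by
    intro h r hr hne
    have hh : ∃ r, r ∈ R ∧ z.coeff (r⁻¹ * h * r) ≠ 0 := ⟨r, hr, hne⟩
    simp only [F, dif_pos hh]
    exact huniq h _ r hh.choose_spec.1 hr hh.choose_spec.2 hne
  have hFinv : ∀ g, (g ∈ R ∨ g = y) → ∀ h, F (g⁻¹ * h * g) = F h := by
    intro g hg h
    by_cases hh : ∃ r, r ∈ R ∧ z.coeff (r⁻¹ * h * r) ≠ 0
    · obtain ⟨r, hr, hne⟩ := hh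
      rw [hFval h r hr hne]
      rcases hg with hg | rfl
      · have e : (g⁻¹ * r)⁻¹ * (g⁻¹ * h * g) * (g⁻¹ * r) = r⁻¹ * h * r := by group
        rw [hFval _ (g⁻¹ * r) (R.mul_mem (R.inv_mem hg) hr) (by rw [e]; exact hne), e]
      · have e : r⁻¹ * (g⁻¹ * h * g) * r = g⁻¹ * (r⁻¹ * h * r) * g := by
          have c1 : g * r = r * g := hyR r hr
          rw [show r⁻¹ * (g⁻¹ * h * g) * r = (g * r)⁻¹ * h * (g * r) by group, c1]; group
        rw [hFval _ r hr (by rw [e, hzy]; exact hne), e, hzy]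
    · have hh' : ¬ ∃ r, r ∈ R ∧ z.coeff (r⁻¹ * (g⁻¹ * h * g) * r) ≠ 0 := by
        rintro ⟨r, hr, hne⟩
        refine hh ?_
        rcases hg with hg | rfl
        · refine ⟨g * r, R.mul_mem hg hr, ?_⟩
          rwa [show (g * r)⁻¹ * h * (g * r) = r⁻¹ * (g⁻¹ * h * g) * r by group]
        · refine ⟨r, hr, ?_⟩
          have c1 : g * r = r * g := hyR r hr
          rw [show r⁻¹ * (g⁻¹ * h * g) * r = (g * r)⁻¹ * h * (g * r) by group, c1,
            show (r * g)⁻¹ * h * (r * g) = g⁻¹ * (r⁻¹ * h * r) * g by group, hzy] at hne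
          exact hne
      simp only [F, dif_neg hh, dif_neg hh']
  let T : GA G hM n := ofFun fun h => Function.surjInv (rbar_surjective hM n) (F h)
  have hT : T ∈ CS hM n R y := by
    rw [mem_CS]
    exact ⟨fun r hr w => by simp only [T, coeff_ofFun, hFinv r (Or.inl hr)],
      fun w => by simp only [T, coeff_ofFun, hFinv y (Or.inr rfl)]⟩
  have hTred : ∀ h, (red hM n T).coeff h = F h := fun h => by
    rw [coeff_red]; simp only [T, coeff_ofFun]; exact Function.surjInv_eq _ _
  have hTQ : br hM n Q T = z := by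
    refine alg_ext fun h => ?_
    by_cases hh : h ∈ CG[Q]
    · rw [br, coeff_trunB_of_mem _ hh, hTred]
      by_cases hzh : z.coeff h = 0
      · rw [hzh]
        by_contra hne
        obtain ⟨r, hr, hrne⟩ : ∃ r, r ∈ R ∧ z.coeff (r⁻¹ * h * r) ≠ 0 := by
          by_contra hc; exact hne (dif_neg hc)
        have e1 := (hstab _ hrne).2
        have hnorm : r ∈ Subgroup.normalizer (Q : Set G) := by
          rw [← Subgroup.inv_mem_iff, Subgroup.mem_normalizer_iff_map_conj_eq]
          refine Subgroup.eq_of_le_of_card_ge ?_ (le_of_eq (DefectThms.card_map_conj Q r⁻¹).symm)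
          rintro _ ⟨q, hq, rfl⟩
          show r⁻¹ * q * r⁻¹⁻¹ ∈ Q; rw [inv_inv]
          rw [← e1]
          refine ⟨R.mul_mem (R.mul_mem (R.inv_mem hr) (hQR hq)) hr,
            Subgroup.mem_centralizer_singleton_iff.2 ?_⟩
          rw [show r⁻¹ * q * r * (r⁻¹ * h * r) = r⁻¹ * (q * h) * r by group,
            Subgroup.mem_centralizer_iff.1 hh q hq]
          group
        exact hrne (by rw [hR'fix r ⟨hr, hnorm⟩]; exact hzh)
      · have := hFval h 1 R.one_mem (by simpa using hzh)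
        simpa using this
    · rw [hsuppC Q T h hh]
      by_contra hne
      exact hh (hstab h (Ne.symm hne)).1
  have hTR : br hM n R T = 0 := by
    refine alg_ext fun h => ?_
    by_cases hh : h ∈ CG[R]
    · rw [br, coeff_trunB_of_mem _ hh, hTred]
      show F h = (0 : ModAlg G M).coeff h
      by_contra hne'
      obtain ⟨r, hr, hrne⟩ : ∃ r, r ∈ R ∧ z.coeff (r⁻¹ * h * r) ≠ 0 := by
        by_contra hc; exact hne' (by simp only [F, dif_neg hc]; simp)
      have e1 := (hstab _ hrne).2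
      rw [show r⁻¹ * h * r = h by
        rw [mul_assoc, ← Subgroup.mem_centralizer_iff.1 hh r hr, inv_mul_cancel_left]] at e1
      refine hne (e1.symm.trans ?_)
      exact inf_eq_left.2 fun q hq => Subgroup.mem_centralizer_singleton_iff.2
        (Subgroup.mem_centralizer_iff.1 hh q hq)
    · rw [hsuppC R T h hh]; simp
  have hcor : InCorner (CS hM n R y) x x (x * T * x) :=
    ⟨Subring.mul_mem _ (Subring.mul_mem _ hx.1 hT) hx.1,
      by rw [← mul_assoc, ← mul_assoc, hx.2.1.eq], by rw [mul_assoc, hx.2.1.eq]⟩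
  have hnil : IsNilpotent (x * T * x) := by
    rcases hx.unit_or_nilpotent hlift hcor with hn | ⟨W, hW, hxW, -⟩
    · exact hn
    exfalso
    refine h0 ?_
    rw [← hxW, hbrmul le_rfl hcor.1 hW.1, hbrmul le_rfl (Subring.mul_mem _ hx.1 hT) hx.1,
      hbrmul le_rfl hx.1 hT, hTR, mul_zero, zero_mul, zero_mul]
  have hzn := hunit hQR hcor hnil
  have hec : (1 - e) * bx = bx * (1 - e) := by
    rw [sub_mul, mul_sub, one_mul, mul_one, he, bl_comm hM b (hsuppC Q x)]
  have hval : br hM n Q (x * T * x) = z := by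
    rw [hbrmul hQR (Subring.mul_mem _ hx.1 hT) hx.1, hbrmul hQR hx.1 hT, hTQ, hz, ← mul_assoc,
      hxx hQR, mul_assoc, hec, ← mul_assoc, hxx hQR]
  rw [hval] at hzn
  have hzid : IsIdempotentElem z := by
    show z * z = z
    have h1 : (1 - e) * (1 - e) = 1 - e := by
      rw [sub_mul, one_mul, mul_sub, mul_one, he, bl_mul_self hM hbB, sub_self, sub_zero]
    rw [hz, mul_assoc, ← mul_assoc (1 - e), hec, mul_assoc bx, h1, ← mul_assoc, hxx hQR]
  have hz0 := hzid.eq_zero_of_isNilpotent hzn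
  rw [hz, mul_sub, mul_one, sub_eq_zero] at hz0
  exact hz0.symm

end Cfsg.Agent.Blocks.Star
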