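import Cfsg.Agent.Blocks.Indep
import Cfsg.Agent.Blocks.SecondMain
import Cfsg.Agent.Blocks.Star.Compat

/-!
# Independence of the inclusion of Brauer pairs from the maximal ideal

The blocks occurring in the Brauer image of a stable block under one further `p`-element are
determined by twisted traces, which do not mention the maximal ideal.
-/

namespace Cfsg.Agent.Blocks.Star

open Cfsg.Agent Cfsg.Agent.Blocks

universe u

variable {G : Type u} [Group G] [Fintype G] {p : ℕ} [Fact p.Prime] {M M' : Ideal Cfsg.AlgInt}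

local notation "CG[" Q "]" => Subgroup.centralizer ((Q : Subgroup G) : Set G)
local notation "sbc" => Cfsg.subgroupBlockCoeff

omit [Fact p.Prime] in
theorem isPBlock_indep (hM : Cfsg.IsPModular p M) (hM' : Cfsg.IsPModular p M')
    {H : Subgroup G} {b : Set (Cfsg.IrrCharacter H)} (hb : Cfsg.IsPBlock M b) :
    Cfsg.IsPBlock M' b := by
  obtain ⟨χ, rfl⟩ := hb
  exact ⟨χ, Set.ext fun ψ =>
    ⟨sameBlock_of_sameBlock hM hM', sameBlock_of_sameBlock hM' hM⟩⟩

omit [Fact p.Prime] in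
/-- A union of blocks has vanishing idempotent coefficients off the regular elements. -/
theorem blockCoeff_union_of_dvd {K : Type u} [Group K] [Finite K] (hM : Cfsg.IsPModular p M)
    {A : Set (Cfsg.IrrCharacter K)}
    (hA : ∀ χ ∈ A, ∀ ψ : Cfsg.IrrCharacter K,
      Cfsg.SameBlock M (χ : K → ℂ) (ψ : K → ℂ) → ψ ∈ A)
    {g : K} (hg : p ∣ orderOf g) : Cfsg.blockCoeff A g = 0 := by
  classical
  have := Fintype.ofFinite K
  set S := Finset.univ.filter (fun χ : Cfsg.IrrCharacter K => χ ∈ A) with hS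
  set T := S.image (fun χ : Cfsg.IrrCharacter K => Cfsg.blockOf M (χ : K → ℂ)) with hT
  rw [blockCoeff_eq_sum, ← Finset.sum_filter, ← hS,
    ← Finset.sum_fiberwise_of_maps_to (g := fun χ : Cfsg.IrrCharacter K => Cfsg.blockOf M (χ : K → ℂ)) (t := T)
      (fun χ hχ => Finset.mem_image_of_mem _ hχ), Finset.mul_sum]
  refine Finset.sum_eq_zero fun O hO => ?_
  obtain ⟨χ, hχ, rfl⟩ := Finset.mem_image.1 hO
  have hB : Cfsg.IsPBlock M (Cfsg.blockOf M (χ : K → ℂ)) := isPBlock_blockOf χ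
  have hset : S.filter (fun ψ : Cfsg.IrrCharacter K => Cfsg.blockOf M (ψ : K → ℂ) = Cfsg.blockOf M (χ : K → ℂ)) =
      Finset.univ.filter (fun ψ : Cfsg.IrrCharacter K => ψ ∈ Cfsg.blockOf M (χ : K → ℂ)) := by
    ext ψ
    simp only [hS, Finset.mem_filter, Finset.mem_univ, true_and]
    constructor
    · rintro ⟨-, e⟩
      exact e ▸ mem_blockOf_self hM ψ
    · intro hψ
      exact ⟨hA χ (Finset.mem_filter.1 hχ).2 ψ (mem_blockOf.1 hψ),
        (IsPBlock.eq_blockOf hM hB hψ).symm⟩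
  have h := blockCoeff_eq_zero_of_dvd hM hB hg
  rw [blockCoeff_eq_sum, ← Finset.sum_filter, ← hset] at h
  exact h

/-- The blocks in the Brauer image of a block stable under one further element. -/
theorem blockCoeff_brauerSet_eq (hM : Cfsg.IsPModular p M) {Q P : Subgroup G} {u : G}
    (hQP : Q ≤ P) (hPN : P ≤ Subgroup.normalizer (Q : Set G)) (hP : IsPGroup p P)
    (hu : u ∈ P) (hgen : P ≤ Q ⊔ Subgroup.zpowers u)
    {b : Set (Cfsg.IrrCharacter CG[Q])} (hb : Cfsg.IsPBlock M b)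
    (hst : ∀ x ∈ P, Cfsg.StabilizesBlock CG[Q] b x) :
    ∀ z : CG[P], Cfsg.blockCoeff {ξ : Cfsg.IrrCharacter CG[P] |
        Cfsg.MemLocalIdeal M (Cfsg.brauerOmega P (sbc CG[Q] b) (ξ : CG[P] → ℂ) - 1)} z =
      if p ∣ orderOf z then 0 else (Nat.card CG[P] : ℂ)⁻¹ *
        ∑ᶠ a : CG[Q], sbc CG[Q] b ((a : G)⁻¹ * (z : G) * (u * (a : G) * u⁻¹)) := by
  classical
  set F := sbc CG[Q] b with hF
  letI := Fintype.ofFinite CG[Q]
  letI := Fintype.ofFinite CG[P]
  have hFP : BrauerPairs.IsInv (P : Set G) F := BrauerPairs.isInv_of_stabilizes hM hPN hb hst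
  have hFC : BrauerPairs.IsInv (CG[P] : Set G) F := BrauerPairs.isInv_sbc_centralizer hQP b
  have hFR := BrauerPairs.memLocalRing_sbc hM hb
  set A : Set (Cfsg.IrrCharacter CG[P]) :=
    {ξ | Cfsg.MemLocalIdeal M (Cfsg.brauerOmega P F (ξ : CG[P] → ℂ) - 1)} with hA
  have hAu : ∀ ξ ∈ A, ∀ η : Cfsg.IrrCharacter CG[P],
      Cfsg.SameBlock M (ξ : CG[P] → ℂ) (η : CG[P] → ℂ) → η ∈ A := by
    intro ξ hξ η h
    have := memLocalIdeal_sub hM hξ (BrauerPairs.brauerOmega_sameBlock hM hFC hFR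
      (isPBlock_blockOf ξ) (mem_blockOf_self hM ξ) (mem_blockOf.2 h))
    show Cfsg.MemLocalIdeal M _
    convert this using 1
    ring
  have h01 : ∀ ξ : Cfsg.IrrCharacter CG[P], Cfsg.MemLocalIdeal M
      (omega (ξ : CG[P] → ℂ) (fun a : CG[P] => F a) - if ξ ∈ A then 1 else 0) := by
    intro ξ
    rw [← BrauerPairs.brauerOmega_eq]
    split_ifs with h
    · exact h
    have h2 := BrauerPairs.brauerOmega_conv hM hP hFP hFP hFC hFC hFR hFR ξ
    rw [hF, BrauerPairs.conv_sbc_self, ← hF] at h2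
    set w := Cfsg.brauerOmega P F (ξ : CG[P] → ℂ) with hw
    have hwR := BrauerPairs.memLocalRing_brauerOmega hM hFC hFR ξ
    by_contra h0
    rw [sub_zero] at h0
    refine h ?_
    have hinv : Cfsg.MemLocalRing M w⁻¹ := memLocalRing_inv hwR h0
    have h3 := memLocalIdeal_neg (memLocalIdeal_mul_right hM h2 hinv)
    show Cfsg.MemLocalIdeal M (w - 1)
    convert h3 using 1
    have : w ≠ 0 := fun e => h0 (e ▸ memLocalIdeal_zero hM)
    field_simp
    ring
  have hAR : ∀ z, Cfsg.MemLocalRing M (Cfsg.blockCoeff A z) := fun z =>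
    memLocalRing_blockCoeff_union hM hAu z
  have hres : ∀ z : CG[P], Cfsg.MemLocalIdeal M (F (z : G) - Cfsg.blockCoeff A z) := by
    refine memLocalIdeal_sub_blockCoeff hM (e := fun a : CG[P] => F a) hFC.isClassFunction_res
      (fun a => hFR a) (fun a => ?_) hAR h01
    have := memLocalIdeal_neg (BrauerPairs.memLocalIdeal_conv_res_sub_of_isInv hM hP hFP hFP hFR hFR a)
    rw [hF, BrauerPairs.conv_sbc_self, ← hF, neg_sub] at this
    exact this
  have hCP : CG[P] ≤ CG[Q] := Subgroup.centralizer_le (SetLike.coe_subset_coe.2 hQP)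
  intro z
  by_cases hz : p ∣ orderOf z
  · rw [if_pos hz, blockCoeff_union_of_dvd hM hAu hz]
  rw [if_neg hz]
  have huN : ∀ c : G, c ∈ CG[Q] ↔ u * c * u⁻¹ ∈ CG[Q] :=
    fun c => BrauerPairs.mem_centralizer_iff_of_mem_normalizer (hPN hu) c
  let σ : Equiv.Perm CG[Q] :=
    { toFun := fun c => ⟨u * (c : G) * u⁻¹, (huN _).1 c.2⟩
      invFun := fun c => ⟨u⁻¹ * (c : G) * u, (huN _).2 (by simp [mul_assoc])⟩
      left_inv := fun c => Subtype.ext (by simp [mul_assoc])
      right_inv := fun c => Subtype.ext (by simp [mul_assoc]) }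
  have hfix : ∀ c : CG[Q], σ c = c ↔ (c : G) ∈ CG[P] := by
    intro c
    rw [Subtype.ext_iff]
    show u * (c : G) * u⁻¹ = c ↔ _
    rw [mul_inv_eq_iff_eq_mul]
    constructor
    · intro h
      refine Subgroup.mem_centralizer_iff.2 fun q hq => ?_
      have hle : Q ⊔ Subgroup.zpowers u ≤ Subgroup.centralizer ({(c : G)} : Set G) :=
        sup_le (fun x hx => Subgroup.mem_centralizer_singleton_iff.2
            (Subgroup.mem_centralizer_iff.1 c.2 x hx))
          (Subgroup.zpowers_le.2 (Subgroup.mem_centralizer_singleton_iff.2 h))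
      exact Subgroup.mem_centralizer_singleton_iff.1 (hle (hgen hq))
    · intro h
      exact Subgroup.mem_centralizer_iff.1 h u hu
  let e : {c : CG[Q] // σ c = c} ≃ CG[P] :=
    { toFun := fun c => ⟨(c.1 : G), (hfix _).1 c.2⟩
      invFun := fun d => ⟨⟨(d : G), hCP d.2⟩, (hfix _).2 d.2⟩
      left_inv := fun c => rfl
      right_inv := fun d => rfl }
  set c₀ := Cfsg.blockCoeff b with hc₀
  set f := Cfsg.blockCoeff A with hf
  let s : CG[P] := z⁻¹
  let s' : CG[Q] := ⟨(s : G), hCP s.2⟩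
  let K : Matrix CG[Q] CG[Q] ℂ := Matrix.of fun a d => c₀ ((s' * a * 1⁻¹)⁻¹ * d)
  let LH : Matrix CG[P] CG[P] ℂ := Matrix.of fun a d => f ((s * a * 1⁻¹)⁻¹ * d)
  let L : Matrix {c : CG[Q] // σ c = c} {c : CG[Q] // σ c = c} ℂ :=
    Matrix.reindexAlgEquiv ℂ ℂ e.symm LH
  set m := orderOf s with hm
  have hms : ¬ p ∣ m := by rw [hm, orderOf_inv]; exact hz
  have hs1 : s ^ (m + 1) = s := by rw [hm, pow_succ, pow_orderOf_eq_one, one_mul]
  have hs1' : s' ^ (m + 1) = s' := Subtype.ext (by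
    have := congrArg Subtype.val hs1
    simpa [s'] using this)
  have hKpow : K ^ (m + 1) = K := by
    rw [twist_pow (isClassFunction_blockCoeff b) (blockCoeff_conv b), hs1', one_pow]
  have hLpow : L ^ (m + 1) = L := by
    show (Matrix.reindexAlgEquiv ℂ ℂ e.symm LH) ^ (m + 1) = _
    rw [← map_pow, twist_pow (isClassFunction_blockCoeff _) (blockCoeff_conv _), hs1, one_pow]
  obtain ⟨k, hk⟩ : ∃ k, orderOf u = p ^ k := by
    obtain ⟨k, hk⟩ := hP ⟨u, hu⟩
    have hk' : u ^ p ^ k = 1 := congrArg Subtype.val hk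
    obtain ⟨j, -, hj⟩ := (Nat.dvd_prime_pow (Fact.out : p.Prime)).1 (orderOf_dvd_of_pow_eq_one hk')
    exact ⟨j, hj⟩
  have hσ : σ ^ p ^ k = 1 := by
    have hpow : ∀ (r : ℕ) c, ((σ ^ r) c : G) = u ^ r * (c : G) * (u ^ r)⁻¹ := by
      intro r c
      induction r with
      | zero => simp
      | succ r ih =>
        rw [pow_succ' σ, Equiv.Perm.mul_apply]
        show u * ((σ ^ r) c : G) * u⁻¹ = _
        rw [ih, pow_succ']; group
    refine Equiv.ext fun c => Subtype.ext ?_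
    rw [hpow, ← hk, pow_orderOf_eq_one]
    simp
  have hKF : ∀ a d, K a d = F (((s : G) * (a : G))⁻¹ * (d : G)) := by
    intro a d
    simp only [K, Matrix.of_apply, inv_one, mul_one, hc₀, hF, ← BrauerPairs.sbc_apply]
    rfl
  have hinv : ∀ a d, K (σ a) (σ d) = K a d := by
    intro a d
    rw [hKF, hKF]
    show F (((s : G) * (u * (a : G) * u⁻¹))⁻¹ * (u * (d : G) * u⁻¹)) = _
    rw [← hFP u hu (((s : G) * (a : G))⁻¹ * (d : G))]
    congr 1
    have h1 : (s : G)⁻¹ * u = u * (s : G)⁻¹ :=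
      ((show Commute u (s : G) from Subgroup.mem_centralizer_iff.1 s.2 u hu).inv_right).eq.symm
    rw [show ((s : G) * (u * (a : G) * u⁻¹))⁻¹ * (u * (d : G) * u⁻¹) =
      u * (a : G)⁻¹ * u⁻¹ * ((s : G)⁻¹ * u) * (d : G) * u⁻¹ by group, h1]
    group
  have hLH : ∀ a d : {c : CG[Q] // σ c = c}, L a d = f ((s * e a * 1⁻¹)⁻¹ * e d) := fun _ _ => rfl
  have key := sum_twisted_eq_trace hM hms hσ (K := K)
    (fun a d => memLocalRing_blockCoeff hM hb _) hinv (by convert hKpow) L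
    (fun a d => by rw [hLH]; exact hAR _) (by convert hLpow) (fun a d => by
      rw [hLH, hKF]
      have := memLocalIdeal_neg (hres ((s * e a * 1⁻¹)⁻¹ * e d))
      rw [neg_sub] at this
      simp only [inv_one, mul_one] at this ⊢
      exact this)
  have htr : L.trace = (Nat.card CG[P] : ℂ) * f z := by
    rw [Matrix.trace, Finset.sum_congr rfl (g := fun _ => f z) fun a _ => ?_, Finset.sum_const,
      Finset.card_univ, nsmul_eq_mul, ← Nat.card_eq_fintype_card, Nat.card_congr e]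
    rw [Matrix.diag_apply, hLH, inv_one, mul_one, mul_inv_rev, inv_inv]
    have := isClassFunction_blockCoeff A z (e a)⁻¹
    rw [inv_inv] at this
    exact this
  rw [finsum_eq_sum_of_fintype, show (∑ a : CG[Q], F ((a : G)⁻¹ * (z : G) * (u * (a : G) * u⁻¹))) =
    ∑ a, K a (σ a) from Finset.sum_congr rfl fun a _ => ?_, key]
  · rw [show f z = (Nat.card CG[P] : ℂ)⁻¹ * ((Nat.card CG[P] : ℂ) * f z) from
      (inv_mul_cancel_left₀ (Nat.cast_ne_zero.2 Nat.card_pos.ne') _).symm, ← htr]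
    congr!
  rw [hKF]
  show F _ = F (((s : G) * (a : G))⁻¹ * (u * (a : G) * u⁻¹))
  simp only [s, Subgroup.coe_inv, mul_inv_rev, inv_inv]

/-- One step. -/
theorem isNormalSubpair_indep_step (hM : Cfsg.IsPModular p M) (hM' : Cfsg.IsPModular p M')
    {Q P : Subgroup G} {u : G} (hu : u ∈ P) (hgen : P ≤ Q ⊔ Subgroup.zpowers u)
    {b : Set (Cfsg.IrrCharacter CG[Q])} {e : Set (Cfsg.IrrCharacter CG[P])}
    (h : Cfsg.IsNormalSubpair p M Q b P e) : Cfsg.IsNormalSubpair p M' Q b P e := by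
  obtain ⟨⟨hQ, hb⟩, ⟨hP, he⟩, hQP, hPN, hst, hω⟩ := h
  have hb' := isPBlock_indep hM hM' hb
  refine ⟨⟨hQ, hb'⟩, ⟨hP, isPBlock_indep hM hM' he⟩, hQP, hPN, hst, fun ξ hξ => ?_⟩
  have h1 := blockCoeff_brauerSet_eq hM hQP hPN hP hu hgen hb hst
  have h2 := blockCoeff_brauerSet_eq hM' hQP hPN hP hu hgen hb' hst
  have heq := BrauerPairs.blockCoeff_injective (funext fun z => (h1 z).trans (h2 z).symm)
  exact (Set.ext_iff.1 heq ξ).1 (hω ξ hξ)

/-- The inclusion of Brauer pairs does not depend on the maximal ideal over `p`. -/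
theorem subpairLE_indep (hM : Cfsg.IsPModular p M) (hM' : Cfsg.IsPModular p M')
    {R : Subgroup G} {f : Set (Cfsg.IrrCharacter CG[R])} (hRf : Cfsg.IsBrauerPair p M R f) :
    ∀ (Q : Subgroup G) (b : Set (Cfsg.IrrCharacter CG[Q])),
      Cfsg.SubpairLE p M Q b R f → Q ≤ R → Cfsg.SubpairLE p M' Q b R f := by
  intro Q
  induction Q using WellFoundedGT.induction with
  | _ Q ih =>
  intro b hb hQR
  rcases eq_or_ne Q R with rfl | hne
  · obtain rfl : b = f := (BrauerPairs.existsUnique_subpairLE hM hRf le_rfl).unique hb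
      Relation.ReflTransGen.refl
    exact Relation.ReflTransGen.refl
  have hlt : Q < R ⊓ Subgroup.normalizer (Q : Set G) :=
    lt_of_le_of_ne (le_inf hQR Subgroup.le_normalizer) fun h =>
      hne (Embedded.eq_of_normalizer_inf_le hRf.1 hQR h.ge)
  obtain ⟨u, hu, huQ⟩ := SetLike.exists_of_lt hlt
  set Q₁ := Q ⊔ Subgroup.zpowers u with hQ₁
  have hQ₁le : Q₁ ≤ R ⊓ Subgroup.normalizer (Q : Set G) :=
    sup_le hlt.le (Subgroup.zpowers_le.2 hu)
  have hu₁ : u ∈ Q₁ := Subgroup.mem_sup_right (Subgroup.mem_zpowers u)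
  have hQQ₁ : Q < Q₁ := lt_of_le_of_ne le_sup_left fun h => huQ (h ▸ hu₁)
  have hQ₁R : Q₁ ≤ R := hQ₁le.trans inf_le_left
  obtain ⟨b₁, hb₁, -⟩ := BrauerPairs.existsUnique_subpairLE hM hRf hQ₁R
  have hb₁P := BrauerPairs.isBrauerPair_of_subpairLE hRf hb₁
  obtain ⟨b', hb', -⟩ := BrauerPairs.existsUnique_normalSubpair hM hb₁P hQQ₁.le
    (hQ₁le.trans inf_le_right)
  obtain rfl : b = b' := (BrauerPairs.existsUnique_subpairLE hM hRf hQR).unique hb
    (Relation.ReflTransGen.head (show Cfsg.NormalSubpairRel p M ⟨Q, b'⟩ ⟨Q₁, b₁⟩ from hb') hb₁)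
  exact Relation.ReflTransGen.head
    (show Cfsg.NormalSubpairRel p M' ⟨Q, b⟩ ⟨Q₁, b₁⟩ from
      isNormalSubpair_indep_step hM hM' hu₁ le_rfl hb')
    (ih Q₁ hQQ₁ b₁ hb₁ hQ₁R)

end Cfsg.Agent.Blocks.Star
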