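import Cfsg.Agent.Blocks.Star.Weight
import Cfsg.Agent.Blocks.Star.Indep
import Cfsg.Agent.Blocks.Star.CycReal
import Cfsg.Agent.Blocks.Subsection
import Cfsg.Agent.BlockChar.CentralQuotient

/-!
# The `*`-construction

For a weight compatible with the inclusion of Brauer pairs the twisted class function has algebraic
integer inner products with all irreducible characters; when the weight has absolute value one on
the sections met by `χ` the twisted function is again an irreducible character.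
-/

namespace Cfsg.Agent.Blocks.Star

open Cfsg.Agent Cfsg.Agent.Blocks
open scoped ComplexConjugate

universe u

variable {G : Type u} [Group G] [Fintype G] {p : ℕ} {M M' : Ideal Cfsg.AlgInt}

local notation "CG[" Q "]" => Subgroup.centralizer ((Q : Subgroup G) : Set G)
local notation "sbc" => Cfsg.subgroupBlockCoeff

/-! ## Independence of the maximal ideal -/

theorem Bk_indep [Fact p.Prime] (hM : Cfsg.IsPModular p M) (hM' : Cfsg.IsPModular p M') (u : G) :
    Bk M' u = Bk M u := by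
  ext e
  simp only [mem_Bk]
  exact ⟨fun ⟨b, hb, he⟩ => ⟨b, isPBlock_indep hM' hM hb, he⟩,
    fun ⟨b, hb, he⟩ => ⟨b, isPBlock_indep hM hM' hb, he⟩⟩

theorem Phi_indep [Fact p.Prime] (hM : Cfsg.IsPModular p M) (hM' : Cfsg.IsPModular p M')
    (W : G → (G → ℂ) → ℂ) (χ : G → ℂ) : Phi p M' W χ = Phi p M W χ := by
  funext x
  rw [Phi, Phi, Bk_indep hM hM']

theorem IsWeight.indep [Fact p.Prime] (hM : Cfsg.IsPModular p M) (hM' : Cfsg.IsPModular p M')
    {W : G → (G → ℂ) → ℂ} (hW : IsWeight p M W) : IsWeight p M' W where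
  «conj» := hW.conj
  compat R hR f hf := by
    obtain ⟨η, hη, h⟩ := hW.compat R hR f (isPBlock_indep hM' hM hf)
    exact ⟨η, hη, fun u b hb => h u b
      (subpairLE_indep hM' hM ⟨hR, hf⟩ _ b hb (Subgroup.zpowers_le.2 u.2))⟩

/-! ## Sections as combinations of characters -/

omit [Fintype G] in
theorem mem_zpowers_centralizer' (u : G) :
    ∀ a : G, a ∈ CG[Subgroup.zpowers u] ↔ u * a = a * u := fun _ => mem_zpowers_centralizer

theorem sum_blockCoeff_mul_irr {H : Type u} [Group H] [Fintype H] (b : Set (Cfsg.IrrCharacter H))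
    [DecidablePred (· ∈ b)] (η : Cfsg.IrrCharacter H) (y : H) :
    ∑ a, Cfsg.blockCoeff b a * (η : H → ℂ) (y * a) = if η ∈ b then (η : H → ℂ) y else 0 := by
  classical
  have h := omega_blockCoeff b η
  obtain ⟨n, ρ, hρ, he⟩ := η.2
  have hs := sum_smul_rep_eq_omega ρ hρ (isClassFunction_blockCoeff b)
  rw [he, h] at hs
  calc ∑ a, Cfsg.blockCoeff b a * (η : H → ℂ) (y * a)
      = LinearMap.trace ℂ _ (ρ y * ∑ a, Cfsg.blockCoeff b a • ρ a) := by
        rw [Finset.mul_sum, map_sum]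
        refine Finset.sum_congr rfl fun a _ => ?_
        rw [mul_smul_comm, map_smul, smul_eq_mul, ← map_mul, ← he]
        rfl
    _ = _ := by
        rw [hs, mul_smul_comm, map_smul, smul_eq_mul, ← he]
        split_ifs
        · rw [one_mul]; rfl
        · rw [zero_mul]

theorem sect_eq_sum {u : G} [Fintype CG[Subgroup.zpowers u]] (χ : Cfsg.IrrCharacter G)
    (b : Set (Cfsg.IrrCharacter CG[Subgroup.zpowers u])) (y : CG[Subgroup.zpowers u]) :
    sect (χ : G → ℂ) u (sbc CG[Subgroup.zpowers u] b) y =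
      ∑ η ∈ (Set.toFinite b).toFinset,
        shiftCoef u CG[Subgroup.zpowers u] χ η * (η : CG[Subgroup.zpowers u] → ℂ) y := by
  classical
  have hH := mem_zpowers_centralizer' (G := G) u
  have hexp : ∀ c : CG[Subgroup.zpowers u], (χ : G → ℂ) (u * (c : G)) =
      ∑ η : Cfsg.IrrCharacter CG[Subgroup.zpowers u], shiftCoef u CG[Subgroup.zpowers u] χ η * (η : CG[Subgroup.zpowers u] → ℂ) c := by
    intro c
    have h := res_eq_sum_resMult χ (⟨u, self_mem_centralizer hH⟩ * c)
    rw [Subgroup.coe_mul] at h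
    rw [h]
    exact Finset.sum_congr rfl fun η _ => by rw [irr_shift hH, shiftCoef_eq hH]; ring
  rw [sect, show (∑ g, sbc CG[Subgroup.zpowers u] b g * (χ : G → ℂ) (u * (y : G) * g)) =
    ∑ a : CG[Subgroup.zpowers u], Cfsg.blockCoeff b a * (χ : G → ℂ) (u * ((y * a : CG[Subgroup.zpowers u]) : G)) from ?_]
  · simp only [hexp, Finset.mul_sum]
    rw [Finset.sum_comm, ← Finset.sum_subset (Finset.subset_univ (Set.toFinite b).toFinset)]
    · refine Finset.sum_congr rfl fun η hη => ?_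
      rw [Finset.sum_congr rfl fun a _ => mul_left_comm _ _ _, ← Finset.mul_sum,
        sum_blockCoeff_mul_irr, if_pos ((Set.Finite.mem_toFinset _).1 hη)]
    · intro η _ hη
      rw [Finset.sum_congr rfl fun a _ => mul_left_comm _ _ _, ← Finset.mul_sum,
        sum_blockCoeff_mul_irr, if_neg (fun h => hη ((Set.Finite.mem_toFinset _).2 h)), mul_zero]
  · rw [← Finset.sum_subset (Finset.subset_univ (Finset.univ.filter fun g => g ∈ CG[Subgroup.zpowers u])) fun g _ hg => by
      rw [BrauerPairs.sbc_of_notMem b (fun h => hg (Finset.mem_filter.2 ⟨Finset.mem_univ _, h⟩)),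
        zero_mul]]
    rw [Finset.sum_subtype (p := fun g => g ∈ CG[Subgroup.zpowers u]) _ (by simp)]
    exact Finset.sum_congr rfl fun a _ => by
      rw [BrauerPairs.sbc_apply, Subgroup.coe_mul, mul_assoc]

theorem isIntegral_shiftCoef (hM : Cfsg.IsPModular p M) {u : G}
    (hu : ∃ k, orderOf u = p ^ k) [Fintype CG[Subgroup.zpowers u]] (χ : Cfsg.IrrCharacter G)
    (η : Cfsg.IrrCharacter CG[Subgroup.zpowers u]) :
    IsIntegral ℤ (shiftCoef u CG[Subgroup.zpowers u] χ η) := by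
  rw [shiftCoef_eq (mem_zpowers_centralizer' u)]
  exact (shiftScalar_congr (mem_zpowers_centralizer' u) hM η hu).1.mul (isIntegral_natCast _)

/-! ## Algebraic integer inner products -/

theorem isIntegral_classInner_Phi_res [Fact p.Prime] (hM : Cfsg.IsPModular p M)
    {W : G → (G → ℂ) → ℂ} (hW : IsWeight p M W) (χ : Cfsg.IrrCharacter G) (E : Subgroup G)
    [Fintype E] [Group.IsNilpotent E] (lam : E →* ℂˣ) :
    IsIntegral ℤ
      (Cfsg.classInner (fun x : E => Phi p M W (χ : G → ℂ) x) (fun x : E => (lam x : ℂ))) := by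
  classical
  have hp : p.Prime := Fact.out
  obtain ⟨e, -, he⟩ := BlockChar.exists_primePartExp (G := G) hp
  let f : E →* E :=
    { toFun := fun a => a ^ e
      map_one' := one_pow e
      map_mul' := fun a b => BlockChar.pow_mul_of_isNilpotent hp he a b }
  have hf : ∀ a : E, ((f a : E) : G) = pPrimePartOf p (a : G) := fun a => by
    show ((a ^ e : E) : G) = _
    rw [Subgroup.coe_pow, he]
  set U : Subgroup G := f.ker.map E.subtype
  set Y : Subgroup G := f.range.map E.subtype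
  have hUE : U ≤ E := Subgroup.map_subtype_le _
  have hYE : Y ≤ E := Subgroup.map_subtype_le _
  have hUp : ∀ u ∈ U, ∃ k, orderOf u = p ^ k := by
    rintro _ ⟨a, ha, rfl⟩
    have h1 : pPrimePartOf p (a : G) = 1 := by rw [← hf, MonoidHom.mem_ker.1 ha]; rfl
    have h2 := pPartOf_mul_pPrimePartOf hp (a : G)
    rw [h1, mul_one] at h2
    obtain ⟨k, hk⟩ := orderOf_pPartOf hp (a : G)
    rw [h2] at hk
    exact ⟨k, hk⟩
  have hYr : ∀ y ∈ Y, ¬ p ∣ orderOf y := by
    rintro _ ⟨_, ⟨a, rfl⟩, rfl⟩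
    rw [Subgroup.coe_subtype, hf]
    exact not_dvd_orderOf_pPrimePartOf hp _
  have hfix : ∀ y : E, (y : G) ∈ Y → f y = y := by
    intro y hy
    apply Subtype.ext
    rw [hf]
    have := (parts_mul hp (Commute.one_left (y : G)) ⟨0, by simp⟩ (hYr _ hy)).2
    rwa [one_mul] at this
  have hkerU : ∀ u : E, (u : G) ∈ U → f u = 1 := by
    rintro u ⟨a, ha, e'⟩
    rw [show u = a from Subtype.ext e'.symm]
    exact MonoidHom.mem_ker.1 ha
  have hcomm : ∀ u ∈ U, ∀ y ∈ Y, y * u = u * y := by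
    intro u hu y hy
    let u' : E := ⟨u, hUE hu⟩
    let y' : E := ⟨y, hYE hy⟩
    have h1 : f (u' * y' * u'⁻¹) = y' := by
      rw [map_mul, map_mul, map_inv, hkerU u' hu, hfix y' hy, one_mul, inv_one, mul_one]
    have h2 : f (u' * y' * u'⁻¹) = u' * y' * u'⁻¹ := by
      apply Subtype.ext
      rw [hf]
      have hreg : ¬ p ∣ orderOf (u * y * u⁻¹) := by
        rw [show orderOf (u * y * u⁻¹) = orderOf y from
          orderOf_injective (MulAut.conj u).toMonoidHom (MulAut.conj u).injective y]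
        exact hYr y hy
      have := (parts_mul hp (Commute.one_left (u * y * u⁻¹)) ⟨0, by simp⟩ hreg).2
      rwa [one_mul] at this
    have h3 : u * y * u⁻¹ = y := congrArg Subtype.val (h2.symm.trans h1)
    exact ((mul_inv_eq_iff_eq_mul).1 h3).symm
  have hbij : Function.Bijective
      (fun z : U × Y => (⟨(z.1 : G) * z.2, E.mul_mem (hUE z.1.2) (hYE z.2.2)⟩ : E)) := by
    constructor
    · rintro ⟨⟨u, hu⟩, ⟨y, hy⟩⟩ ⟨⟨u', hu'⟩, ⟨y', hy'⟩⟩ h
      have h1 : u * y = u' * y' := congrArg Subtype.val h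
      obtain ⟨e1, e2⟩ := eq_of_commuting_parts hp (u * y) rfl (hcomm u hu y hy).symm (hUp u hu)
        (hYr y hy) h1.symm (hcomm u' hu' y' hy').symm (hUp u' hu') (hYr y' hy')
      subst e1; subst e2; rfl
    · intro x
      have hy : (f x : G) ∈ Y := ⟨f x, ⟨x, rfl⟩, rfl⟩
      have hu : ((x * (f x)⁻¹ : E) : G) ∈ U := ⟨x * (f x)⁻¹, by
        rw [SetLike.mem_coe, MonoidHom.mem_ker, map_mul, map_inv, hfix _ hy, mul_inv_cancel], rfl⟩
      exact ⟨⟨⟨_, hu⟩, ⟨_, hy⟩⟩, Subtype.ext (by simp)⟩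
  set Φ := Phi p M W (χ : G → ℂ)
  let lamU : U →* ℂˣ := lam.comp (Subgroup.inclusion hUE)
  let lamY : Y →* ℂˣ := lam.comp (Subgroup.inclusion hYE)
  have hlam : ∀ (u : U) (y : Y),
      (lam ⟨(u : G) * y, E.mul_mem (hUE u.2) (hYE y.2)⟩ : ℂ) = (lamU u : ℂ) * (lamY y : ℂ) := by
    intro u y
    rw [← Units.val_mul]
    congr 1
    rw [MonoidHom.comp_apply, MonoidHom.comp_apply, ← map_mul]
    rfl
  have hcard : Nat.card E = Nat.card U * Nat.card Y := by
    rw [← Nat.card_prod, Nat.card_congr (Equiv.ofBijective _ hbij)]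
  set z := Cfsg.classInner (fun x : E => Φ x) (fun x : E => (lam x : ℂ)) with hz
  have hzsum : z = (Nat.card U : ℂ)⁻¹ * ((Nat.card Y : ℂ)⁻¹ *
      ∑ u : U, ∑ y : Y, Φ ((u : G) * y) * (conj (lamU u : ℂ) * conj (lamY y : ℂ))) := by
    rw [hz, Cfsg.classInner, hcard, Nat.cast_mul, mul_inv, mul_assoc, ← Fintype.sum_prod_type']
    congr 2
    refine (Fintype.sum_equiv (Equiv.ofBijective _ hbij) _ _ fun w => ?_).symm
    show _ = Φ ((w.1 : G) * w.2) * conj (lam ⟨(w.1 : G) * w.2, _⟩ : ℂ)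
    rw [hlam, map_mul]
  have hUne : (Nat.card U : ℂ) ≠ 0 := Nat.cast_ne_zero.2 Nat.card_pos.ne'
  have hUpg : IsPGroup p U := IsPGroup.iff_orderOf.2 fun u => by
    obtain ⟨k, hk⟩ := hUp u u.2
    exact ⟨k, by rw [← Subgroup.orderOf_coe, hk]⟩
  have hlamI : ∀ a : E, IsIntegral ℤ (conj (lam a : ℂ)) := fun a =>
    (Char.IsChar.isIntegral (Char.isCharacter_hom lam) a).map (starRingEnd ℂ).toIntAlgHom
  -- integrality away from `p`
  have hint : IsIntegral ℤ ((Nat.card U : ℂ) * z) := by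
    rw [hzsum, mul_inv_cancel_left₀ hUne, Finset.mul_sum]
    refine IsIntegral.sum _ fun u _ => ?_
    have hPhi : ∀ y : Y, Φ ((u : G) * y) =
        ∑ e ∈ Bk M (u : G), W (u : G) e * sect (χ : G → ℂ) (u : G) e y := fun y => by
      obtain ⟨e1, e2⟩ := parts_mul hp (show Commute (u : G) y from (hcomm u u.2 y y.2).symm)
        (hUp u u.2) (hYr y y.2)
      show Phi p M W (χ : G → ℂ) _ = _
      rw [Phi, e1, e2]
    have e : (Nat.card Y : ℂ)⁻¹ * ∑ y : Y, Φ ((u : G) * y) *
        (conj (lamU u : ℂ) * conj (lamY y : ℂ)) =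
        conj (lamU u : ℂ) * ∑ e ∈ Bk M (u : G), W (u : G) e *
          Cfsg.classInner (fun y : Y => sect (χ : G → ℂ) (u : G) e y) (fun y : Y => (lamY y : ℂ)) := by
      simp only [hPhi, Cfsg.classInner, Finset.mul_sum, Finset.sum_mul]
      rw [Finset.sum_comm]
      exact Finset.sum_congr rfl fun _ _ => Finset.sum_congr rfl fun _ _ => by ring
    rw [e]
    refine (hlamI ⟨u, hUE u.2⟩).mul (IsIntegral.sum _ fun e he => ?_)
    refine (hW.isIntegral (hUpg.to_le (Subgroup.zpowers_le.2 u.2)) he).mul ?_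
    obtain ⟨b, -, rfl⟩ := mem_Bk.1 he
    letI := Fintype.ofFinite CG[Subgroup.zpowers (u : G)]
    have hYC : Y ≤ CG[Subgroup.zpowers (u : G)] := fun y hy =>
      (mem_zpowers_centralizer' _ y).2 (hcomm u u.2 y hy).symm
    rw [show (fun y : Y => sect (χ : G → ℂ) (u : G) (sbc CG[Subgroup.zpowers (u : G)] b) y) =
      ∑ η ∈ (Set.toFinite b).toFinset, shiftCoef (u : G) _ χ η •
        (fun y : Y => (η : CG[Subgroup.zpowers (u : G)] → ℂ) (Subgroup.inclusion hYC y)) from
      funext fun y => by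
        rw [Finset.sum_apply]
        exact (sect_eq_sum χ b (Subgroup.inclusion hYC y)).trans (Finset.sum_congr rfl fun _ _ => rfl),
      Char.classInner_sum_left]
    refine IsIntegral.sum _ fun η _ => ?_
    rw [Char.classInner_smul_left]
    refine (isIntegral_shiftCoef hM (hUp u u.2) χ η).mul ?_
    obtain ⟨m, hm⟩ := Char.classInner_isCharacter_eq_natCast
      (Char.isCharacter_comp (Subgroup.inclusion hYC) (Char.IsIrr.isCharacter η.2))
      (Char.isCharacter_hom lamY)
    rw [hm]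
    exact isIntegral_natCast m
  obtain ⟨k, hk⟩ := IsPGroup.iff_card.1 hUpg
  refine isIntegral_of_forall_local hp (k := k) (hk ▸ hint) fun M' hM' => ?_
  -- locality over `p`
  have hW' := hW.indep hM hM'
  have hY : ¬ p ∣ Nat.card Y := fun h => by
    obtain ⟨a, ha⟩ := exists_prime_orderOf_dvd_card' p h
    exact hYr a a.2 (by rw [Subgroup.orderOf_coe, ha])
  rw [hzsum, ← mul_assoc, mul_comm (Nat.card U : ℂ)⁻¹, mul_assoc, Finset.sum_comm, Finset.mul_sum]
  refine (localRing hM').mul_mem (memLocalRing_natCast_inv hM' hY)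
    ((localRing hM').sum_mem fun y _ => ?_)
  set ζ : G → ℂ := fun g => if h : g ∈ U then conj (lamU ⟨g, h⟩ : ℂ) else 0 with hζdef
  have hζ : Cfsg.IsGeneralizedCharacter U (fun u : U => ζ u) := by
    have e : (fun u : U => ζ u) = fun u : U => ((lamU⁻¹ : U →* ℂˣ) u : ℂ) := funext fun u => by
      simp only [hζdef, dif_pos u.2, MonoidHom.inv_apply]
      rw [← Char.IsChar.inv_eq_conj (Char.isCharacter_hom lamU) ⟨(u : G), u.2⟩]
      simp
    rw [e]
    exact Char.isGeneralized_of_isCharacter (Char.isCharacter_hom _)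
  have h := memLocalRing_sum_Phi hM' hW' (Char.IsIrr.isCharacter χ.2) hUpg (hYr y y.2)
    (fun u hu => hcomm u hu y y.2) hζ
  rw [Phi_indep hM hM'] at h
  have e : (Nat.card U : ℂ)⁻¹ * ∑ u : U, Φ ((u : G) * y) * (conj (lamU u : ℂ) * conj (lamY y : ℂ)) =
      conj (lamY y : ℂ) * ((Nat.card U : ℂ)⁻¹ * ∑ u : U, ζ u * Φ ((u : G) * y)) := by
    simp only [Finset.mul_sum]
    exact Finset.sum_congr rfl fun u _ => by
      simp only [hζdef, dif_pos u.2, Subtype.coe_eta]; ring
  rw [e]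
  exact (localRing hM').mul_mem (memLocalRing_of_isIntegral hM' (hlamI ⟨y, hYE y.2⟩)) h

theorem isIntegral_classInner_Phi [Fact p.Prime] (hM : Cfsg.IsPModular p M)
    {W : G → (G → ℂ) → ℂ} (hW : IsWeight p M W) (χ : Cfsg.IrrCharacter G) {θ : G → ℂ}
    (hθ : Cfsg.IsCharacter G θ) :
    IsIntegral ℤ (Cfsg.classInner (Phi p M W (χ : G → ℂ)) θ) := by
  classical
  have hc := isClassFunction_Phi hW (Char.isClassFunction_of_isIrr χ.2)
  have h := Char.brauer_induction hθ
  clear hθ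
  induction h using AddSubgroup.closure_induction with
  | mem f hf =>
    obtain ⟨E, lam, ⟨q, hq, hE⟩, rfl⟩ := hf
    have := Char.IsElementary.isNilpotent hq hE
    rw [Char.classInner_indFun_right E _ hc]
    exact isIntegral_classInner_Phi_res hM hW χ E lam
  | zero => rw [Char.classInner_zero_right]; exact isIntegral_zero
  | add a b _ _ ha hb => rw [Char.classInner_add_right]; exact ha.add hb
  | neg a _ ha => rw [Char.classInner_neg_right]; exact ha.neg

/-! ## Values and norms -/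

theorem isCM_blockCoeff {H : Type u} [Group H] [Finite H] (b : Set (Cfsg.IrrCharacter H)) (a : H) :
    IsCM (Cfsg.blockCoeff b a) := by
  classical
  have := Fintype.ofFinite H
  rw [blockCoeff_eq_sum]
  refine (IsCM.natCast _).inv.mul (IsCM.sum _ fun η _ => ?_)
  split_ifs
  · exact (IsCM.of_char (Char.IsIrr.isCharacter η.2) _).mul
      (IsCM.of_char (Char.IsIrr.isCharacter η.2) _).map_conj
  · exact IsCM.zero

theorem isCM_Phi (hp : p.Prime) {W : G → (G → ℂ) → ℂ} (hW : IsWeight p M W)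
    (χ : Cfsg.IrrCharacter G) (x : G) : IsCM (Phi p M W (χ : G → ℂ) x) := by
  refine IsCM.sum _ fun e he => ?_
  obtain ⟨b, hb, rfl⟩ := mem_Bk.1 he
  obtain ⟨η, hη, h⟩ := hW.compat _ (isPGroup_zpowers_pPartOf hp x) b hb
  rw [h ⟨_, Subgroup.mem_zpowers _⟩ b Relation.ReflTransGen.refl]
  refine (IsCM.of_gen hη _).mul (IsCM.sum _ fun g _ =>
    IsCM.mul ?_ (IsCM.of_char (Char.IsIrr.isCharacter χ.2) _))
  by_cases hg : g ∈ CG[Subgroup.zpowers (pPartOf p x)]
  · rw [BrauerPairs.sbc_of_mem b hg]; exact isCM_blockCoeff b _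
  · rw [BrauerPairs.sbc_of_notMem b hg]; exact IsCM.zero

open scoped Classical in
/-- The regular elements commuting with `u`. -/
noncomputable def regC (p : ℕ) (u : G) : Finset G :=
  Finset.univ.filter fun y => ¬ p ∣ orderOf y ∧ u * y = y * u

open scoped Classical in
theorem sum_eq_sum_sections (hp : p.Prime) (F : G → ℂ) :
    ∑ g, F g = ∑ u ∈ Finset.univ.filter (fun u : G => ∃ k, orderOf u = p ^ k),
      ∑ y ∈ regC p u, F (u * y) := by
  rw [Finset.sum_sigma']
  refine Finset.sum_bij' (fun g _ => (⟨pPartOf p g, pPrimePartOf p g⟩ : (_ : G) × G))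
    (fun z _ => z.1 * z.2) (fun g _ => ?_) (fun z _ => Finset.mem_univ _)
    (fun g _ => pPartOf_mul_pPrimePartOf hp g) (fun z hz => ?_) (fun g _ => ?_)
  · simp only [Finset.mem_sigma, Finset.mem_filter, regC, Finset.mem_univ, true_and]
    exact ⟨orderOf_pPartOf hp g, not_dvd_orderOf_pPrimePartOf hp g,
      (commute_pPartOf_pPrimePartOf g).eq⟩
  · simp only [Finset.mem_sigma, Finset.mem_filter, regC, Finset.mem_univ, true_and] at hz
    obtain ⟨e1, e2⟩ := parts_mul hp (show Commute z.1 z.2 from hz.2.2) hz.1 hz.2.1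
    exact Sigma.ext e1 (heq_of_eq e2)
  · rw [pPartOf_mul_pPrimePartOf hp]

/-- Different blocks of a centraliser are orthogonal on a section. -/
theorem sum_sect_mul_conj_eq_zero (hM : Cfsg.IsPModular p M) (χ ψ : Cfsg.IrrCharacter G) {u : G}
    {e e' : G → ℂ} (he : e ∈ Bk M u) (he' : e' ∈ Bk M u) (hne : e ≠ e') :
    ∑ y ∈ regC p u, sect (χ : G → ℂ) u e y * conj (sect (ψ : G → ℂ) u e' y) = 0 := by
  classical
  obtain ⟨b, hb, rfl⟩ := mem_Bk.1 he
  obtain ⟨b', hb', rfl⟩ := mem_Bk.1 he'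
  letI := Fintype.ofFinite CG[Subgroup.zpowers u]
  have e : ∑ y ∈ regC p u, sect (χ : G → ℂ) u (sbc CG[Subgroup.zpowers u] b) y * conj (sect (ψ : G → ℂ) u (sbc CG[Subgroup.zpowers u] b') y) =
      ∑ y : CG[Subgroup.zpowers u], if p ∣ orderOf y then 0 else
        sect (χ : G → ℂ) u (sbc CG[Subgroup.zpowers u] b) y * conj (sect (ψ : G → ℂ) u (sbc CG[Subgroup.zpowers u] b') y) := by
    rw [show regC p u = Finset.univ.filter (fun g : G => ¬ p ∣ orderOf g ∧ u * g = g * u) from
      Finset.ext fun g => by simp [regC], Finset.sum_filter]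
    rw [← Finset.sum_subset (Finset.subset_univ (Finset.univ.filter fun g => g ∈ CG[Subgroup.zpowers u])) fun g _ hg => by
      rw [if_neg]
      intro hg'
      exact hg (Finset.mem_filter.2 ⟨Finset.mem_univ _, mem_zpowers_centralizer.2 hg'.2⟩),
      Finset.sum_subtype (p := fun g => g ∈ CG[Subgroup.zpowers u]) _ (by simp)]
    refine Finset.sum_congr rfl fun y _ => ?_
    have hy := mem_zpowers_centralizer.1 y.2
    rw [← Subgroup.orderOf_coe]
    by_cases h : p ∣ orderOf (y : G) <;> simp [h, hy]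
  rw [e]
  have key : ∀ η ∈ (Set.toFinite b).toFinset, ∀ η' ∈ (Set.toFinite b').toFinset,
      ∑ y : CG[Subgroup.zpowers u], (if p ∣ orderOf y then 0 else (η : CG[Subgroup.zpowers u] → ℂ) y * conj ((η' : CG[Subgroup.zpowers u] → ℂ) y)) = 0 := by
    intro η hη η' hη'
    rw [Set.Finite.mem_toFinset] at hη hη'
    have hnb : η' ∉ b := fun h => hne (by rw [BrauerPairs.eq_of_mem hM hb hb' h hη'])
    have h := classInner_pRegularPart_eq_zero hM hb hη hnb
    rw [Cfsg.classInner, mul_eq_zero, inv_eq_zero] at h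
    refine Eq.trans ?_ (h.resolve_left (Nat.cast_ne_zero.2 Nat.card_pos.ne'))
    refine Finset.sum_congr rfl fun y _ => ?_
    rw [pRegularPart_apply]
    by_cases hy : p ∣ orderOf y <;> simp [hy]
  rw [Finset.sum_congr rfl (g := fun y : CG[Subgroup.zpowers u] =>
    ∑ η ∈ (Set.toFinite b).toFinset, ∑ η' ∈ (Set.toFinite b').toFinset,
      shiftCoef u CG[Subgroup.zpowers u] χ η * conj (shiftCoef u CG[Subgroup.zpowers u] ψ η') *
        (if p ∣ orderOf y then 0 else
          (η : CG[Subgroup.zpowers u] → ℂ) y * conj ((η' : CG[Subgroup.zpowers u] → ℂ) y)))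
    fun y _ => ?_, Finset.sum_comm]
  · refine Finset.sum_eq_zero fun η hη => ?_
    rw [Finset.sum_comm]
    refine Finset.sum_eq_zero fun η' hη' => ?_
    rw [← Finset.mul_sum, key η hη η' hη', mul_zero]
  · split_ifs with h
    · simp
    · rw [sect_eq_sum, sect_eq_sum, map_sum, Finset.sum_mul_sum]
      refine Finset.sum_congr rfl fun η _ => Finset.sum_congr rfl fun η' _ => ?_
      rw [map_mul]
      ring

open scoped Classical in
/-- The inner product of two twisted functions, section by section. -/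
theorem sum_Phi_mul_conj (hM : Cfsg.IsPModular p M) (W W' : G → (G → ℂ) → ℂ)
    (χ ψ : Cfsg.IrrCharacter G) :
    ∑ g, Phi p M W (χ : G → ℂ) g * conj (Phi p M W' (ψ : G → ℂ) g) =
      ∑ u ∈ Finset.univ.filter (fun u : G => ∃ k, orderOf u = p ^ k),
        ∑ e ∈ Bk M u, W u e * conj (W' u e) *
          ∑ y ∈ regC p u, sect (χ : G → ℂ) u e y * conj (sect (ψ : G → ℂ) u e y) := by
  rw [sum_eq_sum_sections hM.1]
  refine Finset.sum_congr rfl fun u hu => ?_
  have hP : ∀ (W : G → (G → ℂ) → ℂ) (χ : Cfsg.IrrCharacter G), ∀ y ∈ regC p u,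
      Phi p M W (χ : G → ℂ) (u * y) = ∑ e ∈ Bk M u, W u e * sect (χ : G → ℂ) u e y := by
    intro W χ y hy
    simp only [regC, Finset.mem_filter] at hy hu
    obtain ⟨e1, e2⟩ := parts_mul hM.1 (show Commute u y from hy.2.2) hu.2 hy.2.1
    rw [Phi, e1, e2]
  rw [Finset.sum_congr rfl fun y hy => by rw [hP W χ y hy, hP W' ψ y hy, map_sum, Finset.sum_mul_sum],
    Finset.sum_comm]
  refine Finset.sum_congr rfl fun e he => ?_
  rw [Finset.sum_comm, Finset.sum_eq_single e (fun e' he' hne => ?_) (fun h => absurd he h)]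
  · rw [Finset.mul_sum]
    exact Finset.sum_congr rfl fun y _ => by rw [map_mul]; ring
  · rw [Finset.sum_congr rfl (g := fun y => W u e * conj (W' u e') *
      (sect (χ : G → ℂ) u e y * conj (sect (ψ : G → ℂ) u e' y))) fun y _ => by rw [map_mul]; ring,
      ← Finset.mul_sum, sum_sect_mul_conj_eq_zero hM χ ψ he he' (Ne.symm hne), mul_zero]

theorem Phi_eq_self (hM : Cfsg.IsPModular p M) {W : G → (G → ℂ) → ℂ} (χ : Cfsg.IrrCharacter G)
    (x : G) (h : ∀ e ∈ Bk M (pPartOf p x),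
      sect (χ : G → ℂ) (pPartOf p x) e (pPrimePartOf p x) ≠ 0 → W (pPartOf p x) e = 1) :
    Phi p M W (χ : G → ℂ) x = (χ : G → ℂ) x := by
  classical
  rw [Phi, Finset.sum_congr rfl (g := fun e =>
    sect (χ : G → ℂ) (pPartOf p x) e (pPrimePartOf p x)) fun e he => ?_]
  · simp only [sect]
    rw [Finset.sum_comm, Finset.sum_eq_single (1 : G)]
    · rw [← Finset.sum_mul, ← Finset.sum_apply (1 : G), sum_Bk hM, mul_one,
        pPartOf_mul_pPrimePartOf hM.1, delta, if_pos rfl, one_mul]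
    · intro g _ hg
      rw [← Finset.sum_mul, ← Finset.sum_apply g, sum_Bk hM, delta, if_neg hg, zero_mul]
    · exact fun h => absurd (Finset.mem_univ _) h
  · by_cases h0 : sect (χ : G → ℂ) (pPartOf p x) e (pPrimePartOf p x) = 0
    · rw [h0, mul_zero]
    · rw [h e he h0, one_mul]

/-- The `*`-construction gives an irreducible character of the same block and degree. -/
theorem exists_star [Fact p.Prime] (hM : Cfsg.IsPModular p M) {W : G → (G → ℂ) → ℂ}
    (hW : IsWeight p M W) (χ : Cfsg.IrrCharacter G)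
    (hone : ∀ e ∈ Bk M (1 : G), ∀ y, ¬ p ∣ orderOf y → sect (χ : G → ℂ) 1 e y ≠ 0 → W 1 e = 1)
    (habs : ∀ u : G, (∃ k, orderOf u = p ^ k) → ∀ e ∈ Bk M u, ∀ y ∈ regC p u,
      sect (χ : G → ℂ) u e y ≠ 0 → W u e * conj (W u e) = 1) :
    ∃ θ : Cfsg.IrrCharacter G, (θ : G → ℂ) = Phi p M W (χ : G → ℂ) ∧
      Cfsg.SameBlock M (χ : G → ℂ) (θ : G → ℂ) ∧
      ∀ y : G, ¬ p ∣ orderOf y → (θ : G → ℂ) y = (χ : G → ℂ) y := by
  classical
  have hp : p.Prime := Fact.out
  set Φ := Phi p M W (χ : G → ℂ) with hΦ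
  have hreg : ∀ y : G, ¬ p ∣ orderOf y → Φ y = (χ : G → ℂ) y := by
    intro y hy
    refine Phi_eq_self hM χ y fun e he h => ?_
    rw [(pPartOf_eq_one_iff hp y).2 hy] at he h ⊢
    exact hone e he _ (not_dvd_orderOf_pPrimePartOf hp _) h
  obtain ⟨d, hd, hd1⟩ := Char.IsIrr.degree χ.2
  have hnorm : Cfsg.classInner Φ Φ = 1 := by
    rw [← Char.classInner_irr_self χ.2]
    simp only [Cfsg.classInner]
    congr 1
    set W₁ : G → (G → ℂ) → ℂ := fun _ _ => 1
    have h1 : ∀ g, (χ : G → ℂ) g = Phi p M W₁ (χ : G → ℂ) g := fun g =>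
      (Phi_eq_self hM χ g fun e _ _ => rfl).symm
    simp only [h1, hΦ]
    rw [sum_Phi_mul_conj hM, sum_Phi_mul_conj hM]
    refine Finset.sum_congr rfl fun u hu => Finset.sum_congr rfl fun e he => ?_
    simp only [W₁, map_one, mul_one, one_mul]
    by_cases h : ∃ y ∈ regC p u, sect (χ : G → ℂ) u e y ≠ 0
    · obtain ⟨y, hy, hy'⟩ := h
      rw [habs u (Finset.mem_filter.1 hu).2 e he y hy hy', one_mul]
    · push Not at h
      rw [Finset.sum_eq_zero fun y hy => by rw [h y hy, zero_mul], mul_zero]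
  obtain ⟨θ, hθ⟩ := exists_irr_of_norm_one (isClassFunction_Phi hW (Char.isClassFunction_of_isIrr χ.2))
    (isCM_Phi hp hW χ) (fun θ => isIntegral_classInner_Phi hM hW χ (Char.IsIrr.isCharacter θ.2))
    hnorm hd ((hreg 1 (by simp [hp.ne_one])).trans hd1)
  have hreg' : ∀ y : G, ¬ p ∣ orderOf y → (θ : G → ℂ) y = (χ : G → ℂ) y := fun y hy => by
    rw [← hθ]; exact hreg y hy
  refine ⟨θ, hθ.symm, ?_, hreg'⟩
  have hB : Cfsg.IsPBlock M (Cfsg.blockOf M (χ : G → ℂ)) := isPBlock_blockOf χ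
  have h := omega_blockCoeff (Cfsg.blockOf M (χ : G → ℂ)) θ
  have h' := omega_blockCoeff (Cfsg.blockOf M (χ : G → ℂ)) χ
  rw [if_pos (mem_blockOf_self hM χ)] at h'
  have e : omega (θ : G → ℂ) (Cfsg.blockCoeff (Cfsg.blockOf M (χ : G → ℂ))) =
      omega (χ : G → ℂ) (Cfsg.blockCoeff (Cfsg.blockOf M (χ : G → ℂ))) := by
    simp only [omega]
    rw [hreg' 1 (by simp [hp.ne_one])]
    congr 1
    refine Finset.sum_congr rfl fun g _ => ?_
    by_cases hg : p ∣ orderOf g
    · rw [blockCoeff_eq_zero_of_dvd hM hB hg, zero_mul, zero_mul]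
    · rw [hreg' g hg]
  rw [h, h'] at e
  by_contra hne
  rw [if_neg (fun hm => hne (mem_blockOf.1 hm))] at e
  exact zero_ne_one e

end Cfsg.Agent.Blocks.Star
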