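import Cfsg.Agent.Blocks.Star.CycReal
import Mathlib.Analysis.SpecialFunctions.Log.Basic

/-!
# Algebraic integers with small average

Totally positive algebraic integers with average one are all equal to one.
-/

namespace Cfsg.Agent.Blocks.Star

theorem prod_le_one_of_sum_eq_card {ι : Type*} [Fintype ι] {r : ι → ℝ} (hr : ∀ i, 0 < r i)
    (hsum : ∑ i, r i = (Fintype.card ι : ℝ)) :
    ∏ i, r i ≤ 1 ∧ (∏ i, r i = 1 → ∀ i, r i = 1) := by
  have hpos : 0 < ∏ i, r i := Finset.prod_pos fun i _ => hr i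
  have hlog : Real.log (∏ i, r i) = ∑ i, Real.log (r i) :=
    Real.log_prod fun i _ => (hr i).ne'
  have h0 : ∑ i, (r i - 1) = 0 := by simp [hsum]
  have hle : ∀ i, Real.log (r i) ≤ r i - 1 := fun i => Real.log_le_sub_one_of_pos (hr i)
  refine ⟨?_, fun h1 i => ?_⟩
  · refine (Real.log_nonpos_iff hpos.le).1 ?_
    rw [hlog, ← h0]
    exact Finset.sum_le_sum fun i _ => hle i
  · by_contra hne
    have hlt := Finset.sum_lt_sum (f := fun i => Real.log (r i)) (g := fun i => r i - 1)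
      (fun i _ => hle i) ⟨i, Finset.mem_univ i, Real.log_lt_sub_one_of_pos (hr i) hne⟩
    rw [h0, ← hlog, h1, Real.log_one] at hlt
    exact lt_irrefl _ hlt

/-- Totally positive algebraic integers with average one are all equal to one. -/
theorem eq_one_of_sum_eq_card {ι : Type*} [Fintype ι] {t : ι → ℂ}
    (hint : ∀ i, IsIntegral ℤ (t i))
    (hpos : ∀ (σ : ℂ →+* ℂ) (i), ∃ r : ℝ, 0 < r ∧ σ (t i) = (r : ℂ))
    (hsum : ∑ i, t i = (Fintype.card ι : ℂ)) (i : ι) : t i = 1 := by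
  classical
  have key : ∀ σ : ℂ →+* ℂ, ∃ r : ι → ℝ, (∀ i, σ (t i) = (r i : ℂ)) ∧ (∀ i, 0 < r i) ∧
      ∑ i, r i = (Fintype.card ι : ℝ) := by
    intro σ
    choose r h1 h2 using hpos σ
    refine ⟨r, h2, h1, ?_⟩
    have h := congrArg σ hsum
    rw [map_sum, map_natCast, Finset.sum_congr rfl fun i _ => h2 i] at h
    exact_mod_cast h
  have hconj : ∀ σ : ℂ →+* ℂ, ‖σ (∏ i, t i)‖ ≤ 1 := fun σ => by
    obtain ⟨r, hr, hrpos, hrsum⟩ := key σ
    rw [map_prod, Finset.prod_congr rfl fun i _ => hr i, ← Complex.ofReal_prod, Complex.norm_real,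
      Real.norm_of_nonneg (Finset.prod_nonneg fun i _ => (hrpos i).le)]
    exact (prod_le_one_of_sum_eq_card hrpos hrsum).1
  obtain ⟨r, hr, hrpos, hrsum⟩ := key (RingHom.id ℂ)
  simp only [RingHom.id_apply] at hr
  have hne : ∏ i, t i ≠ 0 := Finset.prod_ne_zero_iff.2 fun i _ => by
    rw [hr i]; exact Complex.ofReal_ne_zero.2 (hrpos i).ne'
  have h1 := norm_eq_one_of_conjugates_le (IsIntegral.prod _ fun i _ => hint i) hne hconj
  rw [Finset.prod_congr rfl fun i _ => hr i, ← Complex.ofReal_prod, Complex.norm_real,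
    Real.norm_of_nonneg (Finset.prod_nonneg fun i _ => (hrpos i).le)] at h1
  rw [hr i, (prod_le_one_of_sum_eq_card hrpos hrsum).2 h1 i, Complex.ofReal_one]

end Cfsg.Agent.Blocks.Star
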