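import Cfsg.Agent.Blocks.Star.Section
import Mathlib.GroupTheory.FiniteAbelian.Duality
import Mathlib.Analysis.Complex.Polynomial.Basic
import Mathlib.RingTheory.RootsOfUnity.AlgebraicallyClosed
import Mathlib.GroupTheory.Abelianization.Defs

/-!
# The action of stable linear characters of a defect group on the block

The group of linear characters of `P` trivial on the focal subgroup acts on the block, preserving
degrees; it is free on height zero characters and the stabilizers are trivial on the centre.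
-/

namespace Cfsg.Agent.Blocks.Star

open Cfsg.Agent Cfsg.Agent.Blocks
open scoped ComplexConjugate

universe u

variable {G : Type u} [Group G] [Fintype G] {p : ℕ} [Fact p.Prime] {M : Ideal Cfsg.AlgInt}
  {B : Set (Cfsg.IrrCharacter G)} {P : Subgroup G}
  {e₀ : Set (Cfsg.IrrCharacter (Subgroup.centralizer (P : Set G)))}

local notation "CG[" Q "]" => Subgroup.centralizer ((Q : Subgroup G) : Set G)
local notation "sbc" => Cfsg.subgroupBlockCoeff

/-- A decomposition of a section into blocks is unique. -/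
theorem sect_eq_of_sum_eq (hM : Cfsg.IsPModular p M) (θ χ : Cfsg.IrrCharacter G) {u : G}
    (c : (G → ℂ) → ℂ)
    (h : ∀ y ∈ regC p u, ∑ e ∈ Bk M u, sect (θ : G → ℂ) u e y =
      ∑ e ∈ Bk M u, c e * sect (χ : G → ℂ) u e y)
    {e : G → ℂ} (he : e ∈ Bk M u) {y : G} (hy : y ∈ regC p u) :
    sect (θ : G → ℂ) u e y = c e * sect (χ : G → ℂ) u e y := by
  classical
  set D : (G → ℂ) → G → ℂ := fun e y => sect (θ : G → ℂ) u e y - c e * sect (χ : G → ℂ) u e y
  have hD : ∀ y ∈ regC p u, ∑ e ∈ Bk M u, D e y = 0 := fun y hy => by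
    simp only [D, Finset.sum_sub_distrib, h y hy, sub_self]
  have horth : ∀ e' ∈ Bk M u, e' ≠ e → ∑ y ∈ regC p u, D e' y * conj (D e y) = 0 := by
    intro e' he' hne
    have k1 := sum_sect_mul_conj_eq_zero (p := p) hM θ θ he' he hne
    have k2 := sum_sect_mul_conj_eq_zero (p := p) hM θ χ he' he hne
    have k3 := sum_sect_mul_conj_eq_zero (p := p) hM χ θ he' he hne
    have k4 := sum_sect_mul_conj_eq_zero (p := p) hM χ χ he' he hne
    have e1 : ∀ y, D e' y * conj (D e y) =
        sect (θ : G → ℂ) u e' y * conj (sect (θ : G → ℂ) u e y) -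
          conj (c e) * (sect (θ : G → ℂ) u e' y * conj (sect (χ : G → ℂ) u e y)) -
          c e' * (sect (χ : G → ℂ) u e' y * conj (sect (θ : G → ℂ) u e y)) +
          c e' * conj (c e) * (sect (χ : G → ℂ) u e' y * conj (sect (χ : G → ℂ) u e y)) := by
      intro y
      simp only [D, map_sub, map_mul]
      ring
    simp only [e1, Finset.sum_add_distrib, Finset.sum_sub_distrib, ← Finset.mul_sum, k1, k2, k3, k4]
    simp
  have h0 : ∑ y ∈ regC p u, D e y * conj (D e y) = 0 := by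
    have h1 : ∑ e' ∈ Bk M u, ∑ y ∈ regC p u, D e' y * conj (D e y) = 0 := by
      rw [Finset.sum_comm]
      exact Finset.sum_eq_zero fun y hy => by rw [← Finset.sum_mul, hD y hy, zero_mul]
    rwa [Finset.sum_eq_single e horth (fun hh => absurd he hh)] at h1
  simp only [Complex.mul_conj] at h0
  have h0' : ∑ y ∈ regC p u, Complex.normSq (D e y) = 0 := by exact_mod_cast h0
  exact sub_eq_zero.1 (Complex.normSq_eq_zero.1
    ((Finset.sum_eq_zero_iff_of_nonneg fun y _ => Complex.normSq_nonneg _).1 h0' y hy))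

theorem Phi_apply_section (hp : p.Prime) (W : G → (G → ℂ) → ℂ) (χ : G → ℂ) {u y : G}
    (hu : ∃ k, orderOf u = p ^ k) (hy : y ∈ regC p u) :
    Phi p M W χ (u * y) = ∑ e ∈ Bk M u, W u e * sect χ u e y := by
  simp only [regC, Finset.mem_filter] at hy
  obtain ⟨e1, e2⟩ := parts_mul hp (show Commute u y from hy.2.2) hu hy.2.1
  rw [Phi, e1, e2]

theorem apply_section (hM : Cfsg.IsPModular p M) (χ : Cfsg.IrrCharacter G) {u y : G}
    (hu : ∃ k, orderOf u = p ^ k) (hy : y ∈ regC p u) :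
    (χ : G → ℂ) (u * y) = ∑ e ∈ Bk M u, sect (χ : G → ℂ) u e y := by
  rw [← Phi_eq_self hM (W := fun _ _ => 1) χ (u * y) (fun e _ _ => rfl),
    Phi_apply_section hM.1 _ _ hu hy]
  simp

/-- The sections of a twisted character. -/
theorem sect_star (hM : Cfsg.IsPModular p M) {W : G → (G → ℂ) → ℂ} {θ χ : Cfsg.IrrCharacter G}
    (hθ : (θ : G → ℂ) = Phi p M W (χ : G → ℂ)) {u y : G} (hu : ∃ k, orderOf u = p ^ k)
    {e : G → ℂ} (he : e ∈ Bk M u) (hy : y ∈ regC p u) :
    sect (θ : G → ℂ) u e y = W u e * sect (χ : G → ℂ) u e y :=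
  sect_eq_of_sum_eq hM θ χ (W u) (fun z hz => by
    rw [← apply_section hM θ hu hz, hθ, Phi_apply_section hM.1 _ _ hu hz]) he hy

/-! ## The group of stable linear characters -/

variable {F : Cfsg.FusionSystem P}

theorem commutator_le_focal (hF : Cfsg.IsBlockFusionSystemOn p M B P e₀ F) :
    commutator P ≤ F.focalSubgroup.subgroupOf P := by
  rw [commutator_eq_closure, Subgroup.closure_le]
  rintro z ⟨x, y, rfl⟩
  rw [SetLike.mem_coe, Subgroup.mem_subgroupOf]
  refine Subgroup.subset_closure ⟨P, Cfsg.conjHom P (y : G), x⁻¹, F.conj_mem le_rfl y.2, ?_⟩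
  simp [Cfsg.conjHom, commutatorElement_def, mul_assoc]

theorem normal_focal_subgroupOf (hF : Cfsg.IsBlockFusionSystemOn p M B P e₀ F) :
    (F.focalSubgroup.subgroupOf P).Normal :=
  Subgroup.Normal.of_commutator_le P (commutator_le_focal hF)

/-- The extension by zero of a homomorphism on `P`. -/
noncomputable def lamFun {K : Subgroup P} [K.Normal] (l : (P ⧸ K) →* ℂˣ) (g : G) : ℂ :=
  haveI := Classical.propDecidable (g ∈ P)
  if h : g ∈ P then (l ((⟨g, h⟩ : P) : P ⧸ K) : ℂ) else 0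

omit [Fintype G] in
theorem lamFun_apply {K : Subgroup P} [K.Normal] (l : (P ⧸ K) →* ℂˣ) (x : P) :
    lamFun l (x : G) = (l (x : P ⧸ K) : ℂ) := by
  rw [lamFun, dif_pos x.2]

omit [Fintype G] in
theorem lamFun_mul {K : Subgroup P} [K.Normal] (l l' : (P ⧸ K) →* ℂˣ) (g : G) :
    lamFun (l * l') g = lamFun l g * lamFun l' g := by
  simp only [lamFun]
  split_ifs <;> simp

theorem fWeight_mul (f g : G → ℂ) (u : G) (e : G → ℂ) :
    fWeight p M P e₀ (fun x => f x * g x) u e = fWeight p M P e₀ f u e * fWeight p M P e₀ g u e := by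
  simp only [fWeight]
  split_ifs <;> simp

section

variable [(F.focalSubgroup.subgroupOf P).Normal]

/-- The index type. -/
local notation "ΛF" => ((P ⧸ F.focalSubgroup.subgroupOf P) →* ℂˣ)

theorem isStable_lamFun (hF : Cfsg.IsBlockFusionSystemOn p M B P e₀ F) (l : ΛF) :
    IsStable p M P e₀ (lamFun l) := by
  classical
  have h := isStable_of_focal (lam := fun g => if g ∈ P then lamFun l g else 1) hF
    (fun x hx y hy => by
      simp only [if_pos hx, if_pos hy, if_pos (P.mul_mem hx hy)]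
      rw [show lamFun l x = _ from lamFun_apply l ⟨x, hx⟩,
        show lamFun l y = _ from lamFun_apply l ⟨y, hy⟩,
        show lamFun l (x * y) = _ from lamFun_apply l ⟨x * y, P.mul_mem hx hy⟩, ← Units.val_mul,
        ← map_mul]
      rfl)
    (fun x hx => by
      split_ifs with h
      · rw [show lamFun l x = _ from lamFun_apply l ⟨x, h⟩,
          (QuotientGroup.eq_one_iff _).2 (Subgroup.mem_subgroupOf.2 hx), map_one, Units.val_one]
      · rfl)
  intro u g e hu hgu
  simpa [hu.mem, hgu.mem] using h u g e hu hgu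

variable (p M e₀) in
/-- The weight of a homomorphism. -/
noncomputable def lamWeight (l : ΛF) : G → (G → ℂ) → ℂ :=
  fWeight p M P e₀ (lamFun l)

theorem lamWeight_mul (l l' : ΛF) (u : G) (e : G → ℂ) :
    lamWeight p M e₀ (l * l') u e = lamWeight p M e₀ l u e * lamWeight p M e₀ l' u e := by
  simp only [lamWeight, ← fWeight_mul]
  congr 1
  exact funext (lamFun_mul l l')

theorem isWeight_lamWeight (hM : Cfsg.IsPModular p M)
    (hF : Cfsg.IsBlockFusionSystemOn p M B P e₀ F) (l : ΛF) :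
    IsWeight p M (lamWeight p M e₀ l) := by
  refine isWeight_fWeight hM hF.1 (Char.isGeneralized_of_isCharacter ?_) (isStable_lamFun hF l)
  have h := Char.isCharacter_hom (l.comp (QuotientGroup.mk' (F.focalSubgroup.subgroupOf P)))
  convert h using 2 with x
  exact lamFun_apply l x

theorem lamWeight_of_below (hF : Cfsg.IsBlockFusionSystemOn p M B P e₀ F) {u : P} {e : G → ℂ}
    (h : Below p M P e₀ (u : G) e) (l : ΛF) :
    lamWeight p M e₀ l u e = (l (u : P ⧸ F.focalSubgroup.subgroupOf P) : ℂ) := by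
  rw [lamWeight, fWeight_of_below (isStable_lamFun hF l) h, lamFun_apply]

theorem lamWeight_of_pair (hM : Cfsg.IsPModular p M)
    (hF : Cfsg.IsBlockFusionSystemOn p M B P e₀ F) {u : G}
    {b : Set (Cfsg.IrrCharacter CG[Subgroup.zpowers u])}
    (h : Cfsg.IsBrauerPairOf p M B (Subgroup.zpowers u) b) :
    ∃ x : P, (∀ l : ΛF, lamWeight p M e₀ l u (sbc CG[Subgroup.zpowers u] b) =
      (l (x : P ⧸ F.focalSubgroup.subgroupOf P) : ℂ)) ∧ (u = 1 → x = 1) := by
  obtain ⟨g, hg⟩ := (exists_below_iff hM hF.1 b).2 h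
  refine ⟨⟨g * u * g⁻¹, hg.mem⟩, fun l => ?_, fun hu => Subtype.ext (by simp [hu])⟩
  rw [lamWeight, fWeight_eq (isStable_lamFun hF l) hg]
  exact lamFun_apply l ⟨_, hg.mem⟩

theorem exists_pair_of_sect (hM : Cfsg.IsPModular p M)
    (hF : Cfsg.IsBlockFusionSystemOn p M B P e₀ F) {χ : Cfsg.IrrCharacter G} (hχ : χ ∈ B) {u : G}
    (hu : ∃ k, orderOf u = p ^ k) {e : G → ℂ} (he : e ∈ Bk M u) {y : G} (hy : y ∈ regC p u)
    (h : sect (χ : G → ℂ) u e y ≠ 0) :
    ∃ x : P, (∀ l : ΛF, lamWeight p M e₀ l u e =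
      (l (x : P ⧸ F.focalSubgroup.subgroupOf P) : ℂ)) ∧ (u = 1 → x = 1) := by
  obtain ⟨b, hb, rfl⟩ := mem_Bk.1 he
  exact lamWeight_of_pair hM hF (pair_of_sect_ne_zero hM hF.1.1.2.1 hχ hu hb hy h)

/-- One application of the construction. -/
theorem exists_star_lam (hM : Cfsg.IsPModular p M)
    (hF : Cfsg.IsBlockFusionSystemOn p M B P e₀ F) (l : ΛF) {χ : Cfsg.IrrCharacter G} (hχ : χ ∈ B) :
    ∃ θ : Cfsg.IrrCharacter G, θ ∈ B ∧ (θ : G → ℂ) = Phi p M (lamWeight p M e₀ l) (χ : G → ℂ) ∧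
      (θ : G → ℂ) 1 = (χ : G → ℂ) 1 := by
  classical
  have hB := hF.1.1.2.1
  have hone : ∀ e ∈ Bk M (1 : G), ∀ y, ¬ p ∣ orderOf y → sect (χ : G → ℂ) 1 e y ≠ 0 →
      lamWeight p M e₀ l 1 e = 1 := fun e he y hyr h => by
    obtain ⟨x, hx, hx1⟩ := exists_pair_of_sect hM hF hχ ⟨0, by simp⟩ he
      (by simp [regC, hyr]) h
    rw [hx l, hx1 rfl]
    simp
  have habs : ∀ u : G, (∃ k, orderOf u = p ^ k) → ∀ e ∈ Bk M u, ∀ y ∈ regC p u,
      sect (χ : G → ℂ) u e y ≠ 0 →
        lamWeight p M e₀ l u e * conj (lamWeight p M e₀ l u e) = 1 := fun u hu e he y hy h => by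
    obtain ⟨x, hx, -⟩ := exists_pair_of_sect hM hF hχ hu he hy h
    have hroot : ‖(l (x : P ⧸ F.focalSubgroup.subgroupOf P) : ℂ)‖ = 1 :=
      Complex.norm_eq_one_of_pow_eq_one (n := Nat.card P) (by
        rw [← Units.val_pow_eq_pow_val, ← map_pow, ← QuotientGroup.mk_pow, pow_card_eq_one']
        simp) Nat.card_pos.ne'
    rw [hx l, Complex.mul_conj, Complex.normSq_eq_norm_sq, hroot]
    simp
  obtain ⟨θ, hθ, hsame, hreg⟩ := exists_star hM (isWeight_lamWeight hM hF l) χ hone habs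
  exact ⟨θ, IsPBlock.mem_of_sameBlock hM hB hχ hsame, hθ, hreg 1 (by simp [hM.1.ne_one])⟩

/-! ## The action -/

/-- The action on the block. -/
@[reducible] noncomputable def lamAction (hM : Cfsg.IsPModular p M)
    (hF : Cfsg.IsBlockFusionSystemOn p M B P e₀ F) : MulAction ΛF B where
  smul l χ := ⟨(exists_star_lam hM hF l χ.2).choose,
    (exists_star_lam hM hF l χ.2).choose_spec.1⟩
  one_smul := by
    intro χ
    refine Subtype.ext (Subtype.ext (funext fun z => ?_))
    refine (congrFun (exists_star_lam hM hF 1 χ.2).choose_spec.2.1 z).trans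
      (Phi_eq_self hM _ z fun e he h => ?_)
    obtain ⟨x, hx, -⟩ := exists_pair_of_sect hM hF χ.2 (orderOf_pPartOf hM.1 z) he
      (by simp [regC, not_dvd_orderOf_pPrimePartOf hM.1, (commute_pPartOf_pPrimePartOf z).eq]) h
    rw [hx]
    simp
  mul_smul := by
    intro l l' χ
    refine Subtype.ext (Subtype.ext (funext fun z => ?_))
    have h1 := (exists_star_lam hM hF l' χ.2).choose_spec.2.1
    refine (congrFun (exists_star_lam hM hF (l * l') χ.2).choose_spec.2.1 z).trans
      (Eq.trans ?_ (congrFun (exists_star_lam hM hF l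
        (exists_star_lam hM hF l' χ.2).choose_spec.1).choose_spec.2.1 z).symm)
    refine Finset.sum_congr rfl fun e he => ?_
    rw [sect_star hM h1 (orderOf_pPartOf hM.1 z) he
      (by simp [regC, not_dvd_orderOf_pPrimePartOf hM.1, (commute_pPartOf_pPrimePartOf z).eq]),
      lamWeight_mul, mul_assoc]

theorem smul_spec (hM : Cfsg.IsPModular p M) (hF : Cfsg.IsBlockFusionSystemOn p M B P e₀ F) (l : ΛF)
    (χ : B) :
    letI := lamAction hM hF
    (((l • χ : B) : Cfsg.IrrCharacter G) : G → ℂ) =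
        Phi p M (lamWeight p M e₀ l) ((χ : Cfsg.IrrCharacter G) : G → ℂ) ∧
      (((l • χ : B) : Cfsg.IrrCharacter G) : G → ℂ) 1 =
        ((χ : Cfsg.IrrCharacter G) : G → ℂ) 1 :=
  (exists_star_lam hM hF l χ.2).choose_spec.2

theorem eq_one_of_fixed (hM : Cfsg.IsPModular p M)
    (hF : Cfsg.IsBlockFusionSystemOn p M B P e₀ F) (l : ΛF) (χ : B)
    (hfix : letI := lamAction hM hF; l • χ = χ) {x : P}
    {b : Set (Cfsg.IrrCharacter CG[Subgroup.zpowers (x : G)])}
    (hb : Cfsg.SubpairLE p M (Subgroup.zpowers (x : G)) b P e₀) {y : G}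
    (hy : y ∈ regC p (x : G))
    (hne : sect ((χ : Cfsg.IrrCharacter G) : G → ℂ) (x : G)
      (sbc CG[Subgroup.zpowers (x : G)] b) y ≠ 0) :
    l (x : P ⧸ F.focalSubgroup.subgroupOf P) = 1 := by
  letI := lamAction hM hF
  have h : ((χ : Cfsg.IrrCharacter G) : G → ℂ) =
      Phi p M (lamWeight p M e₀ l) ((χ : Cfsg.IrrCharacter G) : G → ℂ) := by
    conv_lhs => rw [← hfix]
    exact (smul_spec hM hF l χ).1
  have hbB := (BrauerPairs.isBrauerPairOf_iff_of_subpairLE hM hb B).1 hF.1.1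
  have hu : ∃ k, orderOf (x : G) = p ^ k := by
    obtain ⟨k, hk⟩ := IsPGroup.iff_orderOf.1 hF.1.1.1.1 x
    exact ⟨k, by rw [Subgroup.orderOf_coe, hk]⟩
  have h2 := sect_star hM h hu (mem_Bk.2 ⟨b, hbB.1.2, rfl⟩) hy
  rw [lamWeight_of_below hF ⟨b, hb, rfl⟩] at h2
  exact Units.ext (mul_right_cancel₀ hne (h2.symm.trans (one_mul _).symm))

theorem exists_below (hM : Cfsg.IsPModular p M)
    (hF : Cfsg.IsBlockFusionSystemOn p M B P e₀ F) (x : P) :
    ∃ b, Cfsg.SubpairLE p M (Subgroup.zpowers (x : G)) b P e₀ :=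
  (BrauerPairs.existsUnique_subpairLE hM hF.1.1.1 (Subgroup.zpowers_le.2 x.2)).exists

theorem eq_one_of_fixed_height_zero (hM : Cfsg.IsPModular p M)
    (hF : Cfsg.IsBlockFusionSystemOn p M B P e₀ F) (l : ΛF) (χ : B)
    (h0 : Cfsg.blockHeight p B ((χ : Cfsg.IrrCharacter G) : G → ℂ) = 0)
    (hfix : letI := lamAction hM hF; l • χ = χ) : l = 1 := by
  refine MonoidHom.ext fun q => ?_
  induction q using QuotientGroup.induction_on with
  | H x =>
    obtain ⟨b, hb⟩ := exists_below hM hF x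
    have hu : ∃ k, orderOf (x : G) = p ^ k := by
      obtain ⟨k, hk⟩ := IsPGroup.iff_orderOf.1 hF.1.1.1.1 x
      exact ⟨k, by rw [Subgroup.orderOf_coe, hk]⟩
    obtain ⟨y, hy, hne⟩ := exists_sect_ne_zero_of_height_zero hM χ.2 h0 hu
      ((BrauerPairs.isBrauerPairOf_iff_of_subpairLE hM hb B).1 hF.1.1)
    exact eq_one_of_fixed hM hF l χ hfix hb hy hne

theorem eq_one_of_fixed_central (hM : Cfsg.IsPModular p M)
    (hF : Cfsg.IsBlockFusionSystemOn p M B P e₀ F) (l : ΛF) (χ : B)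
    (hfix : letI := lamAction hM hF; l • χ = χ) {x : P}
    (hx : (x : G) ∈ CG[P]) : l (x : P ⧸ F.focalSubgroup.subgroupOf P) = 1 := by
  obtain ⟨b, hb⟩ := exists_below hM hF x
  have hu : ∃ k, orderOf (x : G) = p ^ k := by
    obtain ⟨k, hk⟩ := IsPGroup.iff_orderOf.1 hF.1.1.1.1 x
    exact ⟨k, by rw [Subgroup.orderOf_coe, hk]⟩
  exact eq_one_of_fixed hM hF l χ hfix hb (y := 1) (by simp [regC, hM.1.ne_one])
    (sect_one_ne_zero hM χ.2 hu ((BrauerPairs.isBrauerPairOf_iff_of_subpairLE hM hb B).1 hF.1.1)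
      (blockDefect_le_of_central hM hF.1 x.2
        (fun z hz => (Subgroup.mem_centralizer_iff.1 hx z hz).symm) hb))

end

/-! ## Counting -/

theorem index_dvd_card_of_stabilizer_le {Γ X : Type*} [Group Γ] [MulAction Γ X] [Finite X]
    (R : Subgroup Γ) (S : X → Prop) (hS : ∀ (g : Γ) x, S x → S (g • x))
    (h : ∀ x, S x → MulAction.stabilizer Γ x ≤ R) : R.index ∣ Nat.card {x // S x} := by
  classical
  letI : MulAction Γ {x // S x} :=
    { smul := fun g x => ⟨g • x.1, hS g x.1 x.2⟩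
      one_smul := fun x => Subtype.ext (one_smul Γ x.1)
      mul_smul := fun g g' x => Subtype.ext (mul_smul g g' x.1) }
  letI := Fintype.ofFinite (Quotient (MulAction.orbitRel Γ {x // S x}))
  rw [Nat.card_congr (MulAction.selfEquivSigmaOrbits Γ {x // S x}), Nat.card_sigma]
  refine Finset.dvd_sum fun q _ => ?_
  rw [Nat.card_coe_set_eq, ← MulAction.index_stabilizer Γ q.out]
  exact Subgroup.index_dvd_of_le fun g hg =>
    h q.out.1 q.out.2 (MulAction.mem_stabilizer_iff.2
      (congrArg Subtype.val (MulAction.mem_stabilizer_iff.1 hg)))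

open scoped Classical in
/-- The group of stable linear characters, counted. -/
theorem index_dvd_card_height (hM : Cfsg.IsPModular p M)
    (hF : Cfsg.IsBlockFusionSystemOn p M B P e₀ F) :
    (F.focalSubgroup.subgroupOf P).index ∣
        Nat.card {χ : Cfsg.IrrCharacter G // χ ∈ B ∧ Cfsg.blockHeight p B (χ : G → ℂ) = 0} ∧
      ∀ h, ((P ⊓ CG[P] ⊓ F.focalSubgroup).subgroupOf (P ⊓ CG[P])).index ∣
        Nat.card {χ : Cfsg.IrrCharacter G // χ ∈ B ∧ Cfsg.blockHeight p B (χ : G → ℂ) = h} := by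
  set K := F.focalSubgroup.subgroupOf P with hK
  haveI := normal_focal_subgroupOf hF
  letI : CommGroup (P ⧸ K) :=
    { (inferInstance : Group (P ⧸ K)) with
      mul_comm := (Subgroup.Normal.quotient_commutative_iff_commutator_le.2
        (commutator_le_focal hF)).is_comm.comm }
  haveI : NeZero (Monoid.exponent (P ⧸ K)) := ⟨Monoid.exponent_ne_zero_of_finite⟩
  letI := lamAction hM hF
  have hdeg : ∀ (l : (P ⧸ K) →* ℂˣ) (χ : B) (h : ℕ),
      Cfsg.blockHeight p B ((χ : Cfsg.IrrCharacter G) : G → ℂ) = h →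
      Cfsg.blockHeight p B (((l • χ : B) : Cfsg.IrrCharacter G) : G → ℂ) = h := by
    intro l χ h hh
    rw [← hh]
    simp only [Cfsg.blockHeight, Cfsg.charDegree, (smul_spec hM hF l χ).2]
  have hcongr : ∀ h, Nat.card {χ : B // Cfsg.blockHeight p B ((χ : Cfsg.IrrCharacter G) : G → ℂ) = h} =
      Nat.card {χ : Cfsg.IrrCharacter G // χ ∈ B ∧ Cfsg.blockHeight p B (χ : G → ℂ) = h} := fun h =>
    Nat.card_congr (Equiv.subtypeSubtypeEquivSubtypeInter (fun χ => χ ∈ B)
      fun χ : Cfsg.IrrCharacter G => Cfsg.blockHeight p B (χ : G → ℂ) = h)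
  constructor
  · rw [← hcongr, Subgroup.index_eq_card,
      ← CommGroup.card_monoidHom_of_hasEnoughRootsOfUnity (P ⧸ K) ℂ, ← Subgroup.index_bot]
    exact index_dvd_card_of_stabilizer_le ⊥ _ (fun l χ => hdeg l χ 0)
      fun χ h0 l hl => Subgroup.mem_bot.2 (eq_one_of_fixed_height_zero hM hF l χ h0 hl)
  intro h
  set Z := P ⊓ CG[P]
  let f : Z →* P ⧸ K := (QuotientGroup.mk' K).comp (Subgroup.inclusion inf_le_left)
  have hker : f.ker = (P ⊓ CG[P] ⊓ F.focalSubgroup).subgroupOf Z := by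
    ext z
    simp only [f, MonoidHom.mem_ker, MonoidHom.comp_apply, QuotientGroup.mk'_apply,
      QuotientGroup.eq_one_iff, Subgroup.mem_subgroupOf, Subgroup.mem_inf, hK,
      Subgroup.coe_inclusion]
    exact ⟨fun hz => ⟨z.2, hz⟩, fun hz => hz.2⟩
  rw [← hcongr, ← hker, Subgroup.index_ker]
  have hR : (MonoidHom.domRestrictHom f.range ℂˣ).ker.index = Nat.card f.range := by
    have h1 := Subgroup.card_mul_index (MonoidHom.domRestrictHom f.range ℂˣ).ker
    rw [CommGroup.card_domRestrictHom_ker, CommGroup.card_monoidHom_of_hasEnoughRootsOfUnity,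
      ← Subgroup.card_mul_index f.range, Subgroup.index_eq_card] at h1
    exact Nat.eq_of_mul_eq_mul_left Nat.card_pos (h1.trans (mul_comm _ _))
  rw [← hR]
  refine index_dvd_card_of_stabilizer_le _ _ (fun l χ => hdeg l χ h) fun χ _ l hl => ?_
  refine MonoidHom.mem_ker.2 (MonoidHom.ext fun z => ?_)
  obtain ⟨_, z, rfl⟩ := z
  exact eq_one_of_fixed_central hM hF l χ hl (x := Subgroup.inclusion inf_le_left z) z.2.2

end Cfsg.Agent.Blocks.Star
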