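import Cfsg.Agent.Blocks.Star.NilpotentSum
import Cfsg.Agent.Blocks.Star.Action
import Cfsg.Agent.Blocks.Star.AlgInt
import Cfsg.Agent.BrauerPairs.FirstMain

/-!
# The characters of a nilpotent block

For a character of height zero `χ` of a nilpotent block with defect group `P` the twists `χ * η`
by the irreducible characters `η` of `P` are exactly the characters of the block.
-/

namespace Cfsg.Agent.Blocks.Star

open Cfsg.Agent Cfsg.Agent.Blocks
open scoped ComplexConjugate

universe u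

variable {G : Type u} [Group G] [Fintype G] {p : ℕ} {M : Ideal Cfsg.AlgInt}
  {B : Set (Cfsg.IrrCharacter G)} {P : Subgroup G}
  {e₀ : Set (Cfsg.IrrCharacter (Subgroup.centralizer (P : Set G)))}

local notation "CG[" Q "]" => Subgroup.centralizer ((Q : Subgroup G) : Set G)
local notation "sbc" => Cfsg.subgroupBlockCoeff

/-- The squared norm of a section. -/
noncomputable def sectNorm (p : ℕ) (χ : G → ℂ) (u : G) (e : G → ℂ) : ℂ :=
  ∑ y ∈ regC p u, sect χ u e y * conj (sect χ u e y)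

theorem sectNorm_conjF {χ : G → ℂ} (hχ : Cfsg.IsClassFunction G χ) (u v : G) (e : G → ℂ) :
    sectNorm p χ (v * u * v⁻¹) (conjF v e) = sectNorm p χ u e := by
  classical
  refine Finset.sum_bij' (fun y _ => v⁻¹ * y * v) (fun y _ => v * y * v⁻¹) ?_ ?_ ?_ ?_ ?_
  · intro y hy
    simp only [regC, Finset.mem_filter, Finset.mem_univ, true_and] at hy ⊢
    refine ⟨?_, mem_zpowers_centralizer.1
      ((mem_zpowers_centralizer_conj u v y).1 (mem_zpowers_centralizer.2 hy.2))⟩
    rw [show v⁻¹ * y * v = v⁻¹ * y * v⁻¹⁻¹ by rw [inv_inv],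
      show orderOf (v⁻¹ * y * v⁻¹⁻¹) = orderOf y from
        orderOf_injective (MulAut.conj v⁻¹).toMonoidHom (MulAut.conj v⁻¹).injective y]
    exact hy.1
  · intro y hy
    simp only [regC, Finset.mem_filter, Finset.mem_univ, true_and] at hy ⊢
    refine ⟨?_, mem_zpowers_centralizer.1 ((mem_zpowers_centralizer_conj u v _).2 (by
      rw [show v⁻¹ * (v * y * v⁻¹) * v = y by group]; exact mem_zpowers_centralizer.2 hy.2))⟩
    rw [show orderOf (v * y * v⁻¹) = orderOf y from
      orderOf_injective (MulAut.conj v).toMonoidHom (MulAut.conj v).injective y]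
    exact hy.1
  · intro y _; group
  · intro y _; group
  · intro y _
    show sect χ (v * u * v⁻¹) (conjF v e) y * _ = _
    have h : sect χ (v * u * v⁻¹) (conjF v e) y = sect χ u e (v⁻¹ * y * v) := by
      rw [← sect_conjF hχ u (v⁻¹ * y * v) v e, show v * (v⁻¹ * y * v) * v⁻¹ = y by group]
    rw [h]

theorem isCM_sect {u : G} {e : G → ℂ} (he : e ∈ Bk M u) (χ : Cfsg.IrrCharacter G) (y : G) :
    IsCM (sect (χ : G → ℂ) u e y) := by
  obtain ⟨b, -, rfl⟩ := mem_Bk.1 he
  refine IsCM.sum _ fun g _ => IsCM.mul ?_ (IsCM.of_char (Char.IsIrr.isCharacter χ.2) _)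
  by_cases hg : g ∈ CG[Subgroup.zpowers u]
  · rw [BrauerPairs.sbc_of_mem b hg]; exact isCM_blockCoeff b _
  · rw [BrauerPairs.sbc_of_notMem b hg]; exact IsCM.zero

/-- The normalised norm of the section of `x ∈ P`. -/
noncomputable def tval (p : ℕ) (P : Subgroup G) (χ : G → ℂ) (x : G) (e : G → ℂ) : ℂ :=
  pWeight P x * sectNorm p χ x e

theorem conj_pWeight (P : Subgroup G) (x : G) : conj (pWeight P x) = pWeight P x := by
  simp [pWeight]

section

variable (hM : Cfsg.IsPModular p M) (hmax : Cfsg.IsMaximalBrauerPair p M B P e₀)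
  (hnil : Cfsg.IsNilpotentBlock p M B)
include hM hmax hnil

theorem tval_spec {χ : Cfsg.IrrCharacter G} (hχ : χ ∈ B)
    (h0 : Cfsg.blockHeight p B (χ : G → ℂ) = 0) {x : G} {e : G → ℂ}
    (h : Below p M P e₀ x e) :
    IsIntegral ℤ (tval p P (χ : G → ℂ) x e) ∧
      ∀ σ : ℂ →+* ℂ, ∃ r : ℝ, 0 < r ∧ σ (tval p P (χ : G → ℂ) x e) = (r : ℂ) := by
  classical
  haveI := Fact.mk hM.1
  obtain ⟨b, hb, rfl⟩ := h
  have hx : x ∈ P := BlockChar.le_of_subpairLE hb (Subgroup.mem_zpowers x)
  have hpair := (BrauerPairs.isBrauerPairOf_iff_of_subpairLE hM hb B).1 hmax.1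
  have hu : ∃ k, orderOf x = p ^ k := by
    obtain ⟨k, hk⟩ := IsPGroup.iff_orderOf.1 hmax.1.1.1 ⟨x, hx⟩
    exact ⟨k, by rw [show x = ((⟨x, hx⟩ : P) : G) from rfl, Subgroup.orderOf_coe, hk]⟩
  letI := Fintype.ofFinite CG[Subgroup.zpowers x]
  have hH := mem_zpowers_centralizer' (G := G) x
  have hd : Nat.card (P ⊓ CG[Subgroup.zpowers x] : Subgroup G) = p ^ Cfsg.blockDefect p b := by
    rw [← BlockChar.card_defectGroup hM hpair.1.2
      (BrauerPairs.isDefectGroup_of_nilpotent hM hmax hnil hb)]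
    exact (Nat.card_congr (Subgroup.subgroupOfEquivOfLe inf_le_right).toEquiv).symm
  have heq : tval p P (χ : G → ℂ) x (sbc CG[Subgroup.zpowers x] b) = contrib p x b χ χ := by
    rw [tval, pWeight, hd, contrib_eq_sum_regular hH, sectNorm]
    congr 1
    rw [show regC p x = Finset.univ.filter (fun g : G => ¬ p ∣ orderOf g ∧ x * g = g * x) from
      Finset.ext fun g => by simp [regC], Finset.sum_filter]
    rw [← Finset.sum_subset (Finset.subset_univ
      (Finset.univ.filter fun g => g ∈ CG[Subgroup.zpowers x])) fun g _ hg => by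
        rw [if_neg]
        intro hg'
        exact hg (Finset.mem_filter.2 ⟨Finset.mem_univ _, mem_zpowers_centralizer.2 hg'.2⟩),
      Finset.sum_subtype (p := fun g => g ∈ CG[Subgroup.zpowers x]) _ (by simp)]
    refine Finset.sum_congr rfl fun c _ => ?_
    rw [← sect_eq_blockPart, ← Subgroup.orderOf_coe]
    by_cases hc : p ∣ orderOf (c : G) <;> simp [hc, mem_zpowers_centralizer.1 c.2]
  have hne : tval p P (χ : G → ℂ) x (sbc CG[Subgroup.zpowers x] b) ≠ 0 := by
    intro h
    have hind := (mem_inducing_iff_pair hM hpair.1.1 hpair.2.1 hpair.1.2).2 hpair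
    have h1 := (contrib_memLocalIdeal_iff hH hM hu hind hχ hχ).1
      (by rw [← heq, h]; exact memLocalIdeal_zero hM)
    exact h1.elim (fun h => h h0) (fun h => h h0)
  refine ⟨heq ▸ isIntegral_contrib hH hM hu χ χ, fun σ => ?_⟩
  have hσ : σ (tval p P (χ : G → ℂ) x (sbc CG[Subgroup.zpowers x] b)) =
      ((((Nat.card (P ⊓ CG[Subgroup.zpowers x] : Subgroup G) : ℝ) /
          (Nat.card CG[Subgroup.zpowers x] : ℝ)) *
        ∑ y ∈ regC p x,
          Complex.normSq (σ (sect (χ : G → ℂ) x (sbc CG[Subgroup.zpowers x] b) y)) : ℝ) : ℂ) := by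
    have hcm : ∀ y, σ (conj (sect (χ : G → ℂ) x (sbc CG[Subgroup.zpowers x] b) y)) =
        conj (σ (sect (χ : G → ℂ) x (sbc CG[Subgroup.zpowers x] b) y)) :=
      fun y => isCM_sect (sbc_mem_Bk hpair.1.2) χ y σ
    rw [tval, pWeight, sectNorm, map_mul, map_div₀, map_natCast, map_natCast, map_sum,
      Complex.ofReal_mul, Complex.ofReal_div, Complex.ofReal_natCast, Complex.ofReal_natCast,
      Complex.ofReal_sum]
    congr 1
    refine Finset.sum_congr rfl fun y _ => ?_
    rw [map_mul, hcm, Complex.mul_conj]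
  refine ⟨_, lt_of_le_of_ne (mul_nonneg (by positivity) (Finset.sum_nonneg fun y _ =>
    Complex.normSq_nonneg _)) fun h => ?_, hσ⟩
  rw [← h, Complex.ofReal_zero] at hσ
  exact hne ((map_eq_zero σ).1 hσ)

theorem isWeight_of_class {f : G → ℂ} (hgen : Cfsg.IsGeneralizedCharacter P (fun x : P => f x)) :
    IsWeight p M (fWeight p M P e₀ f) ∧ IsStable p M P e₀ f := by
  have hst : IsStable p M P e₀ f := isStable_of_nilpotent hM hmax hnil fun q hq x hx => by
    letI := Fintype.ofFinite P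
    have h := Char.IsGen.isClassFunction hgen ⟨x, hx⟩ ⟨q, hq⟩
    simpa using h
  exact ⟨isWeight_fWeight hM hmax hgen hst, hst⟩

theorem fWeight_spec {f : G → ℂ} (hst : IsStable p M P e₀ f) {u : G}
    {b : Set (Cfsg.IrrCharacter CG[Subgroup.zpowers u])}
    (h : Cfsg.IsBrauerPairOf p M B (Subgroup.zpowers u) b) :
    ∃ g, g * u * g⁻¹ ∈ P ∧
      fWeight p M P e₀ f u (sbc CG[Subgroup.zpowers u] b) = f (g * u * g⁻¹) := by
  obtain ⟨g, hg⟩ := (exists_below_iff hM hmax b).2 h
  exact ⟨g, hg.mem, fWeight_eq hst hg⟩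

open scoped Classical in
/-- The inner product of two twists of a height zero character. -/
theorem sum_twist_mul_conj {χ : Cfsg.IrrCharacter G} (hχ : χ ∈ B) (ex : P → G → ℂ)
    (hex : ∀ x : P, Below p M P e₀ (x : G) (ex x)) {f f' : G → ℂ}
    (hf : Cfsg.IsGeneralizedCharacter P (fun x : P => f x))
    (hf' : Cfsg.IsGeneralizedCharacter P (fun x : P => f' x)) :
    (Nat.card P : ℂ) * ∑ g, Phi p M (fWeight p M P e₀ f) (χ : G → ℂ) g *
        conj (Phi p M (fWeight p M P e₀ f') (χ : G → ℂ) g) =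
      (Nat.card G : ℂ) * ∑ x : P, f x * conj (f' x) * tval p P (χ : G → ℂ) x (ex x) := by
  obtain ⟨hW, hst⟩ := isWeight_of_class hM hmax hnil hf
  obtain ⟨hW', hst'⟩ := isWeight_of_class hM hmax hnil hf'
  rw [sum_Phi_mul_conj hM]
  refine (sum_subsections hM hmax hnil ex hex
    (fun u e => fWeight p M P e₀ f u e * conj (fWeight p M P e₀ f' u e) *
      sectNorm p (χ : G → ℂ) u e) (fun u v e _ _ => ?_) (fun u hu e he hne => ?_)).trans ?_
  · rw [hW.conj, hW'.conj, sectNorm_conjF (Char.isClassFunction_of_isIrr χ.2)]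
  · obtain ⟨b, hb, rfl⟩ := mem_Bk.1 he
    obtain ⟨y, hy, hy0⟩ : ∃ y ∈ regC p u,
        sect (χ : G → ℂ) u (sbc CG[Subgroup.zpowers u] b) y ≠ 0 := by
      by_contra! h
      refine hne ?_
      rw [sectNorm, Finset.sum_eq_zero fun y hy => by rw [h y hy, zero_mul], mul_zero]
    exact (exists_below_iff hM hmax b).2 (pair_of_sect_ne_zero hM hmax.1.2.1 hχ hu hb hy hy0)
  · congr 1
    refine Finset.sum_congr rfl fun x _ => ?_
    rw [fWeight_of_below hst (hex x), fWeight_of_below hst' (hex x), tval]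
    ring

/-- The values of a twist on the `p`-regular elements. -/
theorem twist_regular {χ : Cfsg.IrrCharacter G} (hχ : χ ∈ B) {f : G → ℂ}
    (hf : Cfsg.IsGeneralizedCharacter P (fun x : P => f x)) {y : G} (hy : ¬ p ∣ orderOf y) :
    Phi p M (fWeight p M P e₀ f) (χ : G → ℂ) y = f 1 * (χ : G → ℂ) y := by
  haveI := Fact.mk hM.1
  obtain ⟨-, hst⟩ := isWeight_of_class hM hmax hnil hf
  have hy' : y ∈ regC p (1 : G) := by simp [regC, hy]
  have h1 : ∃ k, orderOf (1 : G) = p ^ k := ⟨0, by simp⟩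
  conv_lhs => rw [← one_mul y]
  conv_rhs => rw [← one_mul y, apply_section hM χ h1 hy', Finset.mul_sum]
  rw [Phi_apply_section hM.1 _ _ h1 hy']
  refine Finset.sum_congr rfl fun e he => ?_
  by_cases h : sect (χ : G → ℂ) 1 e y = 0
  · rw [h, mul_zero, mul_zero]
  obtain ⟨b, hb, rfl⟩ := mem_Bk.1 he
  obtain ⟨g, -, hg⟩ := fWeight_spec hM hmax hnil hst
    (pair_of_sect_ne_zero hM hmax.1.2.1 hχ h1 hb hy' h)
  rw [hg]
  simp

end

end Cfsg.Agent.Blocks.Star
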