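import Cfsg.Agent.Blocks.Star.FStable
import Cfsg.Agent.BlockThms.DefectGroup

/-!
# Which sections a character of a block meets

A character of `B` only meets subsections of `B`; characters of height zero meet all of them, and
every character meets the major subsections.
-/

namespace Cfsg.Agent.Blocks.Star

open Cfsg.Agent Cfsg.Agent.Blocks
open scoped ComplexConjugate

universe u

variable {G : Type u} [Group G] [Fintype G] {p : ℕ} {M : Ideal Cfsg.AlgInt}
  {B : Set (Cfsg.IrrCharacter G)}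

local notation "CG[" Q "]" => Subgroup.centralizer ((Q : Subgroup G) : Set G)
local notation "sbc" => Cfsg.subgroupBlockCoeff

theorem mem_inducing_iff_pair (hM : Cfsg.IsPModular p M) {u : G}
    (hu : IsPGroup p (Subgroup.zpowers u)) [Fintype CG[Subgroup.zpowers u]]
    (hB : Cfsg.IsPBlock M B) {b : Set (Cfsg.IrrCharacter CG[Subgroup.zpowers u])}
    (hb : Cfsg.IsPBlock M b) :
    Cfsg.IsInducedBlock M CG[Subgroup.zpowers u] b B ↔
      Cfsg.IsBrauerPairOf p M B (Subgroup.zpowers u) b := by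
  classical
  have hH : ∀ a : G, a ∈ CG[Subgroup.zpowers u] ↔
      ∀ v ∈ Subgroup.zpowers u, v * a = a * v := fun a => Subgroup.mem_centralizer_iff
  constructor
  · intro hind
    refine ⟨⟨hu, hb⟩, hB, fun ξ hξ => ?_⟩
    have h := memLocalIdeal_omega_res_blockCoeff_sub hM hu hH hB ξ
    rw [if_pos ((mem_inducing_iff hM hu hH hB hb hξ).2 hind), ← BrauerPairs.brauerOmega_eq] at h
    exact h
  · intro hp
    obtain ⟨ξ, hξ⟩ := IsPBlock.nonempty hM hb
    refine (mem_inducing_iff hM hu hH hB hb hξ).1 fun hd => ?_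
    have h := hp.2.2 ξ hξ
    rw [BrauerPairs.brauerOmega_eq] at h
    exact not_memLocalIdeal_one hM (by simpa using memLocalIdeal_sub hM hd h)

theorem sect_eq_blockPart {u : G} [Fintype CG[Subgroup.zpowers u]] (χ : Cfsg.IrrCharacter G)
    (b : Set (Cfsg.IrrCharacter CG[Subgroup.zpowers u])) (y : CG[Subgroup.zpowers u]) :
    sect (χ : G → ℂ) u (sbc CG[Subgroup.zpowers u] b) y =
      Cfsg.blockPart b (fun c : CG[Subgroup.zpowers u] => (χ : G → ℂ) (u * (c : G))) y := by
  classical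
  rw [sect_eq_sum, Cfsg.blockPart, finsum_mem_eq_finite_toFinset_sum _ (Set.toFinite b)]
  refine Finset.sum_congr rfl fun η _ => ?_
  rw [shiftCoef]
  congr! 2

theorem isPGroup_zpowers_of_orderOf {u : G} (hu : ∃ k, orderOf u = p ^ k) :
    IsPGroup p (Subgroup.zpowers u) := by
  obtain ⟨k, hk⟩ := hu
  exact IsPGroup.of_card (n := k) (by rw [Nat.card_zpowers, hk])

theorem mem_zpowers_centralizer_of_regC {u y : G} (hy : y ∈ regC p u) :
    y ∈ CG[Subgroup.zpowers u] ∧ ¬ p ∣ orderOf y := by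
  simp only [regC, Finset.mem_filter] at hy
  exact ⟨mem_zpowers_centralizer.2 hy.2.2, hy.2.1⟩

/-- A character only meets subsections of its block. -/
theorem pair_of_sect_ne_zero (hM : Cfsg.IsPModular p M) (hB : Cfsg.IsPBlock M B)
    {χ : Cfsg.IrrCharacter G} (hχ : χ ∈ B) {u : G} (hu : ∃ k, orderOf u = p ^ k)
    {b : Set (Cfsg.IrrCharacter CG[Subgroup.zpowers u])} (hb : Cfsg.IsPBlock M b) {y : G}
    (hy : y ∈ regC p u) (h : sect (χ : G → ℂ) u (sbc CG[Subgroup.zpowers u] b) y ≠ 0) :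
    Cfsg.IsBrauerPairOf p M B (Subgroup.zpowers u) b := by
  classical
  letI := Fintype.ofFinite CG[Subgroup.zpowers u]
  obtain ⟨hyC, hyr⟩ := mem_zpowers_centralizer_of_regC hy
  by_contra hn
  refine h ?_
  rw [show y = ((⟨y, hyC⟩ : CG[Subgroup.zpowers u]) : G) from rfl, sect_eq_blockPart,
    blockPart_eq_kernel, sum_section_kernel_eq_zero hM hu (mem_zpowers_centralizer' u) hB hχ hb
      (fun hi => hn ((mem_inducing_iff_pair hM (isPGroup_zpowers_of_orderOf hu) hB hb).1 hi))
      (by rwa [← Subgroup.orderOf_coe]), mul_zero]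

/-- A character of height zero meets every subsection of its block. -/
theorem exists_sect_ne_zero_of_height_zero (hM : Cfsg.IsPModular p M) {χ : Cfsg.IrrCharacter G}
    (hχ : χ ∈ B) (h0 : Cfsg.blockHeight p B (χ : G → ℂ) = 0) {u : G}
    (hu : ∃ k, orderOf u = p ^ k) {b : Set (Cfsg.IrrCharacter CG[Subgroup.zpowers u])}
    (hp : Cfsg.IsBrauerPairOf p M B (Subgroup.zpowers u) b) :
    ∃ y ∈ regC p u, sect (χ : G → ℂ) u (sbc CG[Subgroup.zpowers u] b) y ≠ 0 := by
  classical
  letI := Fintype.ofFinite CG[Subgroup.zpowers u]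
  by_contra hcon
  push Not at hcon
  have hind := (mem_inducing_iff_pair hM hp.1.1 hp.2.1 hp.1.2).2 hp
  have hH := mem_zpowers_centralizer' (G := G) u
  have h := contrib_memLocalIdeal_iff (x := u) hH hM hu hind hχ hχ
  have h1 : contrib p u b χ χ = 0 := by
    rw [contrib_eq_sum_regular hH, Finset.sum_eq_zero fun c _ => ?_, mul_zero]
    split_ifs with hc
    · rfl
    · have hz := hcon (c : G) (Finset.mem_filter.2 ⟨Finset.mem_univ _,
        by rwa [Subgroup.orderOf_coe], mem_zpowers_centralizer.1 c.2⟩)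
      rw [sect_eq_blockPart] at hz
      rw [hz, zero_mul]
  rw [h1] at h
  exact (h.1 (memLocalIdeal_zero hM)).elim (fun h => h h0) (fun h => h h0)

theorem memLocalRing_indFun (hM : Cfsg.IsPModular p M) (H : Subgroup G) {θ : H → ℂ}
    (hθ : ∀ h, Cfsg.MemLocalRing M (θ h)) (hc : Cfsg.IsClassFunction H θ) (g : G) :
    Cfsg.MemLocalRing M (Cfsg.indFun H θ g) := by
  classical
  set F : G → ℂ := fun x => Cfsg.extendByZero H θ (x⁻¹ * g * x) with hF
  have hFR : ∀ x, Cfsg.MemLocalRing M (F x) := fun x => by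
    by_cases h : x⁻¹ * g * x ∈ H
    · simp only [hF, Char.extendByZero_of_mem H θ h]; exact hθ _
    · simp only [hF, Char.extendByZero_of_not_mem H θ h]; exact (localRing hM).zero_mem
  have hinv : ∀ x, ∀ k : H, F (x * k) = F x := by
    intro x k
    have e : (x * (k : G))⁻¹ * g * (x * k) = (k : G)⁻¹ * (x⁻¹ * g * x) * k := by group
    by_cases h : x⁻¹ * g * x ∈ H
    · have h' : (k : G)⁻¹ * (x⁻¹ * g * x) * k ∈ H := H.mul_mem (H.mul_mem (H.inv_mem k.2) h) k.2
      simp only [hF, e, Char.extendByZero_of_mem H θ h, Char.extendByZero_of_mem H θ h']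
      have h2 := hc ⟨_, h⟩ k⁻¹
      rw [← h2]
      congr 1
      exact Subtype.ext (by simp)
    · have h' : (k : G)⁻¹ * (x⁻¹ * g * x) * k ∉ H := fun h' => h (by
        have := H.mul_mem (H.mul_mem k.2 h') (H.inv_mem k.2)
        rwa [show (k : G) * ((k : G)⁻¹ * (x⁻¹ * g * x) * k) * (k : G)⁻¹ = x⁻¹ * g * x by group] at this)
      simp only [hF, e, Char.extendByZero_of_not_mem H θ h, Char.extendByZero_of_not_mem H θ h']
  letI := Fintype.ofFinite (G ⧸ H)
  letI := Fintype.ofFinite H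
  have hsum : ∑ x, F x = (Nat.card H : ℂ) * ∑ q : G ⧸ H, F q.out := by
    rw [Finset.mul_sum]
    have hbij : Function.Bijective (fun z : (G ⧸ H) × H => z.1.out * (z.2 : G)) := by
      constructor
      · rintro ⟨q, k⟩ ⟨q', k'⟩ h
        have hq : q = q' := by
          have h1 := congrArg (fun x : G => (x : G ⧸ H)) h
          simpa [QuotientGroup.mk_mul_of_mem] using h1
        subst hq
        exact Prod.ext rfl (Subtype.ext (mul_left_cancel h))
      · intro x
        refine ⟨⟨(x : G ⧸ H), ⟨(x : G ⧸ H).out⁻¹ * x, ?_⟩⟩, mul_inv_cancel_left _ _⟩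
        exact QuotientGroup.eq.1 (QuotientGroup.out_eq' _)
    rw [← Fintype.sum_bijective _ hbij (fun z => F z.1.out) F fun z => (hinv _ _).symm,
      Fintype.sum_prod_type]
    refine Finset.sum_congr rfl fun q _ => ?_
    show ∑ _y : H, F q.out = _
    rw [Finset.sum_const, Finset.card_univ, nsmul_eq_mul, Nat.card_eq_fintype_card]
  rw [Cfsg.indFun, hsum, inv_mul_cancel_left₀ (Nat.cast_ne_zero.2 Nat.card_pos.ne')]
  exact (localRing hM).sum_mem fun q _ => hFR _

/-- Every character meets the subsections with full defect. -/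
theorem sect_one_ne_zero (hM : Cfsg.IsPModular p M) {χ : Cfsg.IrrCharacter G} (hχ : χ ∈ B)
    {u : G} (hu : ∃ k, orderOf u = p ^ k) {b : Set (Cfsg.IrrCharacter CG[Subgroup.zpowers u])}
    (hp : Cfsg.IsBrauerPairOf p M B (Subgroup.zpowers u) b)
    (hd : Cfsg.blockDefect p B ≤ Cfsg.blockDefect p b) :
    sect (χ : G → ℂ) u (sbc CG[Subgroup.zpowers u] b) 1 ≠ 0 := by
  classical
  letI := Fintype.ofFinite CG[Subgroup.zpowers u]
  have hB := hp.2.1
  have hb := hp.1.2
  have hH := mem_zpowers_centralizer' (G := G) u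
  have hind := (mem_inducing_iff_pair hM hp.1.1 hB hb).2 hp
  set z : CG[Subgroup.zpowers u] := ⟨u, self_mem_centralizer hH⟩ with hz
  have hzc := mem_center_of_centralizer hH z.2
  set θ : CG[Subgroup.zpowers u] → ℂ := fun c => Cfsg.blockCoeff b (z⁻¹ * c) with hθ
  have hθc : Cfsg.IsClassFunction CG[Subgroup.zpowers u] θ := by
    intro c k
    simp only [hθ]
    rw [show z⁻¹ * (k * c * k⁻¹) = k * (z⁻¹ * c) * k⁻¹ by
      have h1 : k * z⁻¹ = z⁻¹ * k := Subgroup.mem_center_iff.1 (Subgroup.inv_mem _ hzc) k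
      rw [← mul_assoc k z⁻¹, h1]; group]
    exact isClassFunction_blockCoeff b _ k
  have hθR : ∀ c, Cfsg.MemLocalRing M (θ c) := fun c => memLocalRing_blockCoeff hM hb _
  set f := Cfsg.indFun CG[Subgroup.zpowers u] θ with hf
  have hfc : Cfsg.IsClassFunction G f := Char.isClassFunction_indFun _ θ
  have hfR : ∀ g, Cfsg.MemLocalRing M (f g) := memLocalRing_indFun hM _ hθR hθc
  have hn : (Nat.card CG[Subgroup.zpowers u] : ℂ) ≠ 0 := Nat.cast_ne_zero.2 Nat.card_pos.ne'
  have hnG : (Nat.card G : ℂ) ≠ 0 := Nat.cast_ne_zero.2 Nat.card_pos.ne'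
  have homega : ∀ φ : Cfsg.IrrCharacter G, omega (φ : G → ℂ) f * (φ : G → ℂ) 1 =
      (CG[Subgroup.zpowers u].index : ℂ) *
        sect (φ : G → ℂ) u (sbc CG[Subgroup.zpowers u] b) 1 := by
    intro φ
    rw [omega, div_mul_cancel₀ _ (Char.IsIrr.one_ne_zero φ.2)]
    have hcl : Cfsg.IsClassFunction G fun g => conj ((φ : G → ℂ) g) := fun a c => by
      simp only [Char.isClassFunction_of_isIrr φ.2 a c]
    have e := Char.classInner_indFun_left CG[Subgroup.zpowers u] θ hcl
    rw [Cfsg.classInner, Cfsg.classInner, inv_mul_eq_iff_eq_mul₀ hnG] at e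
    simp only [Complex.conj_conj] at e
    rw [← hf] at e
    rw [e, ← Subgroup.card_mul_index CG[Subgroup.zpowers u], Nat.cast_mul]
    rw [show sect (φ : G → ℂ) u (sbc CG[Subgroup.zpowers u] b) 1 =
      ∑ c : CG[Subgroup.zpowers u], θ c * (φ : G → ℂ) (c : G) from ?_]
    · field_simp
    · rw [sect, ← Finset.sum_subset (Finset.subset_univ
        (Finset.univ.filter fun g => g ∈ CG[Subgroup.zpowers u])) fun g _ hg => by
          rw [BrauerPairs.sbc_of_notMem b fun h => hg (Finset.mem_filter.2 ⟨Finset.mem_univ _, h⟩),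
            zero_mul],
        Finset.sum_subtype (p := fun g => g ∈ CG[Subgroup.zpowers u]) _ (by simp)]
      refine Fintype.sum_equiv (Equiv.mulLeft z) _ _ fun c => ?_
      simp only [hθ, Equiv.coe_mulLeft, inv_mul_cancel_left, BrauerPairs.sbc_apply, Subgroup.coe_mul,
        mul_one, hz]
  intro h0
  obtain ⟨χ₀, hχ₀, hh₀⟩ := BlockThms.exists_height_zero hM hB
  have hωχ : omega (χ : G → ℂ) f = 0 := by
    have := homega χ
    rw [h0, mul_zero, mul_eq_zero] at this
    exact this.resolve_right (Char.IsIrr.one_ne_zero χ.2)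
  have hω₀ : Cfsg.MemLocalIdeal M (omega (χ₀ : G → ℂ) f) := by
    have := memLocalIdeal_omega_sub hM χ₀.2 χ.2 hfc hfR (IsPBlock.sameBlock hM hB hχ₀ hχ)
    rwa [hωχ, sub_zero] at this
  -- at a character of height zero the value is a unit
  set R := ∑ η ∈ (Set.toFinite b).toFinset,
    shiftScalar hH η * ((resMult χ₀ η * BlockChar.redDeg p b η : ℕ) : ℂ) with hR
  have hRu : ¬ Cfsg.MemLocalIdeal M R := by
    intro hR'
    refine (resMult_redDeg_unit_iff (x := u) hH hM hind hχ₀).1 ?_ hh₀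
    have hdiff : Cfsg.MemLocalIdeal M (R - ∑ η ∈ (Set.toFinite b).toFinset,
        ((resMult χ₀ η * BlockChar.redDeg p b η : ℕ) : ℂ)) := by
      rw [hR, ← Finset.sum_sub_distrib]
      refine memLocalIdeal_sum hM _ fun η _ => ?_
      rw [← sub_one_mul]
      exact memLocalIdeal_mul_right hM (shiftScalar_congr hH hM η hu).2 (memLocalRing_natCast hM _)
    simpa using memLocalIdeal_sub hM hR' hdiff
  have hsect : sect (χ₀ : G → ℂ) u (sbc CG[Subgroup.zpowers u] b) 1 =
      ((p ^ BlockChar.minVal p b : ℕ) : ℂ) * R := by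
    rw [show (1 : G) = ((1 : CG[Subgroup.zpowers u]) : G) from rfl, sect_eq_sum, hR, Finset.mul_sum]
    refine Finset.sum_congr rfl fun η hη => ?_
    rw [shiftCoef_eq hH, (CharArith.irr_degree_spec η).1,
      (BlockChar.redDeg_mul hM.1 ((Set.Finite.mem_toFinset _).1 hη)).1]
    push_cast
    ring
  obtain ⟨hdeg, -, -⟩ := BlockChar.redDeg_mul (B := B) hM.1 hχ₀
  have hru : ¬ p ∣ BlockChar.redDeg p B χ₀ := (BlockChar.not_dvd_redDeg_iff hM.1 hχ₀).2 hh₀
  have hfac : CG[Subgroup.zpowers u].index.factorization p +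
      (Nat.card CG[Subgroup.zpowers u]).factorization p = (Nat.card G).factorization p := by
    rw [← Subgroup.card_mul_index CG[Subgroup.zpowers u],
      Nat.factorization_mul Nat.card_pos.ne' Subgroup.index_ne_zero_of_finite, Finsupp.add_apply,
      add_comm]
  set i := CG[Subgroup.zpowers u].index
  have hi : i = p ^ i.factorization p * (i / p ^ i.factorization p) :=
    (Nat.ordProj_mul_ordCompl_eq_self i p).symm
  set q := i / p ^ i.factorization p with hq
  have hqu : ¬ p ∣ q := Nat.not_dvd_ordCompl hM.1 Subgroup.index_ne_zero_of_finite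
  have h1 := homega χ₀
  rw [hsect, (CharArith.irr_degree_spec χ₀).1, hdeg] at h1
  have hiC : (i : ℂ) = (p : ℂ) ^ i.factorization p * (q : ℂ) := by exact_mod_cast hi
  have hle : i.factorization p + BlockChar.minVal p b ≤ BlockChar.minVal p B := by
    have e1 := BlockChar.blockDefect_eq (G := G) (B := B) (p := p)
    have e2 := BlockChar.blockDefect_eq (B := b) (p := p)
    obtain ⟨η₀, hη₀⟩ := IsPBlock.nonempty hM hb
    have e3 := (BlockChar.minVal_le (p := p) hη₀).trans (BlockChar.degree_val_le η₀)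
    have e4 := (BlockChar.minVal_le (p := p) hχ₀).trans (BlockChar.degree_val_le χ₀)
    omega
  obtain ⟨t, ht⟩ := Nat.exists_eq_add_of_le hle
  rw [ht] at h1
  simp only [Nat.cast_mul, Nat.cast_pow] at h1
  have hp0 : (p : ℂ) ^ (i.factorization p + BlockChar.minVal p b) ≠ 0 :=
    pow_ne_zero _ (Nat.cast_ne_zero.2 hM.1.ne_zero)
  have h2 : omega (χ₀ : G → ℂ) f * ((p : ℂ) ^ t * (BlockChar.redDeg p B χ₀ : ℂ)) = (q : ℂ) * R := by
    refine mul_left_cancel₀ hp0 ?_
    rw [hiC] at h1
    linear_combination h1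
  have h3 : Cfsg.MemLocalIdeal M ((q : ℂ) * R) := h2 ▸ memLocalIdeal_mul_right hM hω₀
    ((localRing hM).mul_mem ((localRing hM).pow_mem (memLocalRing_natCast hM p) t)
      (memLocalRing_natCast hM _))
  rcases memLocalIdeal_of_mul hM (memLocalRing_natCast hM q)
    ((localRing hM).sum_mem fun η _ => (localRing hM).mul_mem
      (memLocalRing_of_isIntegral hM (shiftScalar_congr hH hM η hu).1) (memLocalRing_natCast hM _)) h3
    with h | h
  · exact hqu ((memLocalIdeal_natCast_iff hM q).1 h)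
  · exact hRu h

open scoped Classical in
/-- A subsection below a maximal pair at a central element has full defect. -/
theorem blockDefect_le_of_central [Fact p.Prime] (hM : Cfsg.IsPModular p M) {P : Subgroup G}
    {e₀ : Set (Cfsg.IrrCharacter CG[P])} (hmax : Cfsg.IsMaximalBrauerPair p M B P e₀) {u : G}
    (hu : u ∈ P) (huc : ∀ x ∈ P, u * x = x * u)
    {b : Set (Cfsg.IrrCharacter CG[Subgroup.zpowers u])}
    (hle : Cfsg.SubpairLE p M (Subgroup.zpowers u) b P e₀) :
    Cfsg.blockDefect p B ≤ Cfsg.blockDefect p b := by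
  have hPe := hmax.1.1
  have hP := hPe.1
  have hzP : Subgroup.zpowers u ≤ P := Subgroup.zpowers_le.2 hu
  have hPH : P ≤ CG[Subgroup.zpowers u] := fun x hx => mem_zpowers_centralizer.2 (huc x hx)
  obtain ⟨b', hb', -⟩ := BrauerPairs.existsUnique_normalSubpair hM hPe hzP
    (hPH.trans (Subgroup.centralizer_le_normalizer _))
  obtain rfl : b = b' := (BrauerPairs.existsUnique_subpairLE hM hPe hzP).unique hle
    (Relation.ReflTransGen.single (show Cfsg.NormalSubpairRel p M ⟨_, b'⟩ ⟨P, e₀⟩ from hb'))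
  obtain ⟨⟨-, hb⟩, -, -, hPN, hst, hω⟩ := hb'
  have hFR := BrauerPairs.memLocalRing_sbc hM hb
  obtain ⟨ξ, hξ⟩ := IsPBlock.nonempty hM hPe.2
  obtain ⟨y, hy, hyu⟩ : ∃ y ∈ CG[P], ¬ Cfsg.MemLocalIdeal M (sbc CG[Subgroup.zpowers u] b y) := by
    by_contra hno
    have h2 := BrauerPairs.brauerOmega_congr hM (P := P)
      (BrauerPairs.isInv_sbc_centralizer hzP b) (fun _ _ _ => rfl : BrauerPairs.IsInv _ (0 : G → ℂ))
      (fun x hx => by simpa using not_not.1 fun h' => hno ⟨x, hx, h'⟩) ξ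
    rw [show Cfsg.brauerOmega P (0 : G → ℂ) (ξ : CG[P] → ℂ) = 0 by
      simp [BrauerPairs.brauerOmega_eq, omega], sub_zero] at h2
    exact not_memLocalIdeal_one hM (by simpa using memLocalIdeal_sub hM h2 (hω ξ hξ))
  have hyH : y ∈ CG[Subgroup.zpowers u] :=
    Subgroup.centralizer_le (SetLike.coe_subset_coe.2 hzP) hy
  rw [BrauerPairs.sbc_of_mem b hyH] at hyu
  obtain ⟨D, hD⟩ := DefectThms.exists_defectGroup hM hb
  set P' := P.subgroupOf CG[Subgroup.zpowers u]
  have hP' : IsPGroup p P' := hP.of_equiv (Subgroup.subgroupOfEquivOfLe hPH).symm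
  obtain ⟨S, hS, hPS⟩ := DefectThms.exists_le_isSylC (g := (⟨y, hyH⟩ : CG[Subgroup.zpowers u]))
    hP' fun x hx => Subgroup.mem_centralizer_singleton_iff.2 (Subtype.ext
      (Subgroup.mem_centralizer_iff.1 hy x hx))
  obtain ⟨g, hg, hDg⟩ := DefectThms.isDefectGroup_iff.1 hD
  obtain ⟨k, hk⟩ := DefectThms.exists_conj_le_of_unit_coeff hM hb hg hDg hyu hS
  refine (Nat.pow_le_pow_iff_right hM.1.one_lt).1 ?_
  rw [← BlockChar.card_defectGroup hM hmax.1.2.1 (BrauerPairs.isDefectGroup_of_maximal hM hmax),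
    ← BlockChar.card_defectGroup hM hb hD]
  calc Nat.card P = Nat.card P' := (Nat.card_congr (Subgroup.subgroupOfEquivOfLe hPH).toEquiv).symm
    _ ≤ Nat.card S := Subgroup.card_le_of_le hPS
    _ = Nat.card (S.map (MulAut.conj k).toMonoidHom) := (DefectThms.card_map_conj S k).symm
    _ ≤ Nat.card D := Subgroup.card_le_of_le hk

end Cfsg.Agent.Blocks.Star
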