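import Cfsg.Agent.Blocks.Modular
import Cfsg.Agent.Char.Monomial
import Cfsg.Agent.Char.Induced
import Cfsg.Agent.Char.Gen
import Cfsg.Agent.Char.Brauer
import Mathlib.LinearAlgebra.Matrix.Charpoly.Eigs
import Mathlib.FieldTheory.IsAlgClosed.Spectrum
import Mathlib.RingTheory.IntegralClosure.IsIntegralClosure.Basic
import Mathlib.RingTheory.Polynomial.ScaleRoots
import Mathlib.Analysis.Complex.Polynomial.Basic
import Mathlib.GroupTheory.Nilpotent

/-!
# Divisibility of twisted sums of character values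

For an invariant element `T` of the group ring over the local ring and a linear character `μ` of a
subgroup `F`, the trace of `T` on the `μ`-part of a representation is local: so
`∑ μ(r) tr(r T)` is divisible by the order of `F`.
-/

namespace Cfsg.Agent.Blocks.Star

open Cfsg.Agent Cfsg.Agent.Blocks
open Polynomial
open scoped ComplexConjugate

universe u

variable {G : Type u} [Group G] {p : ℕ} {M : Ideal Cfsg.AlgInt}

/-- The local ring is integrally closed. -/
theorem memLocalRing_of_isIntegral_localRing (hM : Cfsg.IsPModular p M) {z : ℂ}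
    (hz : IsIntegral (localRing hM) z) : Cfsg.MemLocalRing M z := by
  classical
  obtain ⟨q, hq, hqz⟩ := hz
  have hden : ∀ c : localRing hM, ∃ b : Cfsg.AlgInt, b ∉ M ∧ IsIntegral ℤ ((b : ℂ) * (c : ℂ)) := by
    intro c
    obtain ⟨a, b, hb, e⟩ := (mem_localRing (hM := hM)).1 c.2
    exact ⟨b, hb, by rw [← e, mul_div_cancel₀ _ (coe_ne_zero_of_notMem hb)]; exact a.2⟩
  choose b hb hbi using hden
  set B : Cfsg.AlgInt := ∏ i ∈ q.support, b (q.coeff i) with hB
  have hBM : B ∉ M := by
    intro h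
    have := isPrime hM
    obtain ⟨i, -, hi⟩ := Ideal.IsPrime.prod_mem_iff.1 h
    exact hb _ hi
  set Bl : localRing hM := ⟨(B : ℂ), memLocalRing_coe hM B⟩ with hBl
  set q' := (q.scaleRoots Bl).map (localRing hM).subtype with hq'
  have hcoef : ∀ i, IsIntegral ℤ (q'.coeff i) := by
    intro i
    rw [hq', coeff_map, coeff_scaleRoots]
    by_cases h0 : q.coeff i = 0
    · rw [h0, zero_mul, map_zero]; exact isIntegral_zero
    rcases Nat.eq_zero_or_pos (q.natDegree - i) with h | h
    · have hi : i = q.natDegree := le_antisymm (le_natDegree_of_ne_zero h0) (by omega)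
      rw [h, pow_zero, mul_one, hi, hq.coeff_natDegree, map_one]
      exact isIntegral_one
    · obtain ⟨d, hd⟩ : ∃ d, q.natDegree - i = d + 1 := ⟨_, (Nat.sub_add_cancel h).symm⟩
      have hs : i ∈ q.support := mem_support_iff.2 h0
      rw [hd, pow_succ', map_mul, map_mul, map_pow]
      simp only [Subring.coe_subtype, hBl]
      have hsplit : (B : ℂ) = (b (q.coeff i) : ℂ) *
          ((∏ j ∈ q.support.erase i, b (q.coeff j) : Cfsg.AlgInt) : ℂ) := by
        rw [hB, ← Finset.mul_prod_erase _ _ hs, Subalgebra.coe_mul]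
      conv => arg 2; arg 2; arg 1; rw [hsplit]
      rw [show (q.coeff i : ℂ) * ((b (q.coeff i) : ℂ) *
          ((∏ j ∈ q.support.erase i, b (q.coeff j) : Cfsg.AlgInt) : ℂ) * (B : ℂ) ^ d) =
        (b (q.coeff i) : ℂ) * (q.coeff i : ℂ) *
          (((∏ j ∈ q.support.erase i, b (q.coeff j) : Cfsg.AlgInt) : ℂ) * (B : ℂ) ^ d) by ring]
      exact (hbi _).mul ((SetLike.coe_mem _ : _ ∈ Cfsg.AlgInt) |>.mul (B.2.pow d))
  have hmon : q'.Monic := (monic_scaleRoots_iff Bl |>.2 hq).map _
  have hlifts : q' ∈ lifts (algebraMap Cfsg.AlgInt ℂ) := (lifts_iff_coeff_lifts q').2 fun i =>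
    ⟨⟨_, hcoef i⟩, rfl⟩
  obtain ⟨q'', hmap, -, hq''⟩ := lifts_and_natDegree_eq_and_monic hlifts hmon
  have hroot : q'.eval ((B : ℂ) * z) = 0 := by
    rw [hq', eval_map]
    exact scaleRoots_eval₂_eq_zero (localRing hM).subtype (s := Bl) hqz
  have hint : IsIntegral Cfsg.AlgInt ((B : ℂ) * z) :=
    ⟨q'', hq'', by rw [← eval_map, hmap, hroot]⟩
  have hA : IsIntegral ℤ ((B : ℂ) * z) := by
    have : Algebra.IsIntegral ℤ Cfsg.AlgInt :=
      inferInstanceAs (Algebra.IsIntegral ℤ (integralClosure ℤ ℂ))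
    exact isIntegral_trans _ hint
  exact ⟨⟨_, hA⟩, B, hBM, mul_div_cancel_left₀ z (coe_ne_zero_of_notMem hBM)⟩

/-- The trace on an isotypic part of an invariant element of the group ring is local. -/
theorem memLocalRing_twisted_sum [Fintype G] (hM : Cfsg.IsPModular p M) {χ : G → ℂ}
    (hχ : Cfsg.IsCharacter G χ) (F : Subgroup G) [Fintype F] (μ : F →* ℂˣ) {h : G → ℂ}
    (hloc : ∀ g, Cfsg.MemLocalRing M (h g))
    (hinv : ∀ r ∈ F, ∀ g, h (r * g * r⁻¹) = h g) :
    Cfsg.MemLocalRing M
      ((Nat.card F : ℂ)⁻¹ * ∑ r : F, (μ r : ℂ) * ∑ g, h g * χ ((r : G) * g)) := by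
  classical
  obtain ⟨m, ρ, rfl⟩ := hχ
  let R : G →* Matrix (Fin m) (Fin m) ℂ :=
    (LinearMap.toMatrixAlgEquiv'.toRingEquiv.toMonoidHom).comp ρ
  have htr : ∀ g, ρ.character g = (R g).trace := by
    intro g
    show LinearMap.trace ℂ _ (ρ g) = _
    rw [LinearMap.trace_eq_matrix_trace ℂ (Pi.basisFun ℂ (Fin m)),
      LinearMap.toMatrix_eq_toMatrix']
    rfl
  set n : ℂ := (Nat.card F : ℂ) with hn
  have hn0 : n ≠ 0 := Nat.cast_ne_zero.2 Nat.card_pos.ne'
  set T : Matrix (Fin m) (Fin m) ℂ := ∑ g, h g • R g with hT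
  set S : Matrix (Fin m) (Fin m) ℂ := ∑ r : F, (μ r : ℂ) • R r with hS
  set E : Matrix (Fin m) (Fin m) ℂ := n⁻¹ • S with hE
  have hμS : ∀ r : F, (μ r : ℂ) • (R r * S) = S := by
    intro r
    rw [hS, Finset.mul_sum, Finset.smul_sum]
    refine Fintype.sum_equiv (Equiv.mulLeft r) _ _ fun s => ?_
    rw [mul_smul_comm, smul_smul, ← map_mul R, Equiv.coe_mulLeft, map_mul μ, Units.val_mul,
      Subgroup.coe_mul]
  have hSS : S * S = n • S := by
    calc S * S = ∑ r : F, (μ r : ℂ) • (R r * S) := by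
          conv_lhs => arg 1; rw [hS]
          rw [Finset.sum_mul]
          exact Finset.sum_congr rfl fun r _ => smul_mul_assoc _ _ _
      _ = n • S := by
          rw [Finset.sum_congr rfl fun r _ => hμS r, Finset.sum_const, Finset.card_univ, hn,
            Nat.card_eq_fintype_card, Nat.cast_smul_eq_nsmul]
  have hEE : E * E = E := by
    rw [hE, smul_mul_smul_comm, hSS, smul_smul, mul_assoc, inv_mul_cancel₀ hn0, mul_one]
  have hrT : ∀ r : F, R r * T = T * R r := by
    intro r
    rw [hT, Finset.mul_sum, Finset.sum_mul]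
    refine Fintype.sum_equiv (MulAut.conj (r : G)).toEquiv _ _ fun g => ?_
    show R r * h g • R g = h ((r : G) * g * (r : G)⁻¹) • R ((r : G) * g * (r : G)⁻¹) * R r
    rw [mul_smul_comm, smul_mul_assoc, hinv r r.2, ← map_mul, ← map_mul, inv_mul_cancel_right]
  have hET : Commute E T := by
    show E * T = T * E
    rw [hE, smul_mul_assoc, mul_smul_comm, hS, Finset.sum_mul, Finset.mul_sum]
    congr 1
    exact Finset.sum_congr rfl fun r _ => by rw [smul_mul_assoc, mul_smul_comm, hrT]
  have hint : IsIntegral (localRing hM) T := by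
    let L := MonoidAlgebra.lift (localRing hM) (Matrix (Fin m) (Fin m) ℂ) G R
    let e : MonoidAlgebra (localRing hM) G :=
      ∑ g, MonoidAlgebra.single g (⟨h g, hloc g⟩ : localRing hM)
    have he : L e = T := by
      simp only [L, e, map_sum, MonoidAlgebra.lift_single]
      rfl
    rw [← he]
    exact (IsIntegral.of_finite (localRing hM) e).map L
  obtain ⟨q, hq, hqT⟩ := hint
  set A := E * T with hA
  have hpow : ∀ k : ℕ, A ^ (k + 1) = E * T ^ (k + 1) := by
    intro k
    rw [hA, hET.mul_pow, (show IsIdempotentElem E from hEE).pow_succ_eq]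
  have hann : ∀ P : (localRing hM)[X], aeval A (X * P) = E * aeval T (X * P) := by
    intro P
    induction P using Polynomial.induction_on' with
    | add a b ha hb => rw [mul_add, map_add, map_add, ha, hb, mul_add]
    | monomial k c =>
      rw [X_mul_monomial, aeval_monomial, aeval_monomial, hpow, ← mul_assoc,
        Algebra.commutes c E, mul_assoc]
  have hroots : ∀ z ∈ A.charpoly.roots, IsIntegral (localRing hM) z := by
    intro z hz
    refine ⟨X * q, monic_X.mul hq, ?_⟩
    rcases isEmpty_or_nonempty (Fin m) with hm | hm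
    · simp at hz
    have h1 : z ∈ spectrum ℂ A :=
      Matrix.mem_spectrum_iff_isRoot_charpoly.2 (isRoot_of_mem_roots hz)
    have h2 := spectrum.subset_polynomial_aeval A
      ((X * q).map (algebraMap (localRing hM) ℂ)) ⟨z, h1, rfl⟩
    have hqT' : aeval T q = 0 := hqT
    rw [aeval_map_algebraMap, hann, map_mul, hqT', mul_zero, mul_zero, spectrum.zero_eq,
      Set.mem_singleton_iff] at h2
    rw [← eval_map]
    exact h2
  have htrace : A.trace = n⁻¹ * ∑ r : F, (μ r : ℂ) * ∑ g, h g * ρ.character ((r : G) * g) := by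
    rw [hA, hE, smul_mul_assoc, Matrix.trace_smul, smul_eq_mul, hS, Finset.sum_mul,
      Matrix.trace_sum]
    congr 1
    refine Finset.sum_congr rfl fun r _ => ?_
    rw [smul_mul_assoc, Matrix.trace_smul, smul_eq_mul, hT, Finset.mul_sum, Matrix.trace_sum]
    congr 1
    refine Finset.sum_congr rfl fun g _ => ?_
    rw [mul_smul_comm, Matrix.trace_smul, smul_eq_mul, htr, map_mul]
  rw [← htrace, Matrix.trace_eq_sum_roots_charpoly]
  exact (localRing hM).multiset_sum_mem _ fun z hz =>
    memLocalRing_of_isIntegral_localRing hM (hroots z hz)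

/-- The same for a generalized character of a `p`-subgroup. -/
theorem memLocalRing_twisted_sum_gen [Fintype G] [Fact p.Prime] (hM : Cfsg.IsPModular p M)
    {χ : G → ℂ} (hχ : Cfsg.IsCharacter G χ) (R : Subgroup G) [Fintype R] (hR : IsPGroup p R)
    {η : R → ℂ} (hη : Cfsg.IsGeneralizedCharacter R η) {h : G → ℂ}
    (hloc : ∀ g, Cfsg.MemLocalRing M (h g))
    (hinv : ∀ r ∈ R, ∀ g, h (r * g * r⁻¹) = h g) :
    Cfsg.MemLocalRing M
      ((Nat.card R : ℂ)⁻¹ * ∑ r : R, η r * ∑ g, h g * χ ((r : G) * g)) := by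
  classical
  set f : R → ℂ := fun r => ∑ g, h g * χ ((r : G) * g) with hf
  have hfc : Cfsg.IsClassFunction R f := by
    intro r s
    simp only [hf]
    refine Fintype.sum_equiv (MulAut.conj (s : G)⁻¹).toEquiv _ _ fun g => ?_
    show _ = h ((s : G)⁻¹ * g * (s : G)⁻¹⁻¹) * _
    rw [hinv _ (R.inv_mem s.2)]
    congr 1
    have hc := Char.isClassFunction_of_isCharacter hχ
    show χ _ = χ ((r : G) * ((s : G)⁻¹ * g * (s : G)⁻¹⁻¹))
    rw [← hc ((r : G) * ((s : G)⁻¹ * g * (s : G)⁻¹⁻¹)) (s : G)]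
    simp only [Subgroup.coe_mul, Subgroup.coe_inv]
    congr 1
    group
  have hirr : ∀ ξ : Cfsg.IrrCharacter R,
      Cfsg.MemLocalRing M ((Nat.card R : ℂ)⁻¹ * ∑ r : R, (ξ : R → ℂ) r * f r) := by
    intro ξ
    haveI : Group.IsNilpotent R := hR.isNilpotent
    obtain ⟨F, lam, hlam⟩ := Char.exists_monomial ξ.2
    have hcf : Cfsg.IsClassFunction R fun r => conj (f r) := fun a b => by simp only [hfc a b]
    have e := Char.classInner_indFun_left F (fun a => (lam a : ℂ)) hcf
    rw [← hlam, Cfsg.classInner, Cfsg.classInner] at e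
    simp only [Complex.conj_conj] at e
    rw [e]
    let F' : Subgroup G := F.map R.subtype
    let eq := F.equivMapOfInjective _ R.subtype_injective
    have := memLocalRing_twisted_sum hM hχ F' (lam.comp eq.symm.toMonoidHom) hloc
      fun r hr => hinv r (by obtain ⟨s, -, rfl⟩ := hr; exact s.2)
    convert this using 2
    · rw [Nat.card_congr eq.toEquiv]
    · refine Fintype.sum_equiv eq.toEquiv _ _ fun a => ?_
      simp only [hf, MulEquiv.toEquiv_eq_coe, EquivLike.coe_coe, MonoidHom.comp_apply,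
        MulEquiv.coe_toMonoidHom, MulEquiv.symm_apply_apply]
      rfl
  have hchar : ∀ ψ, Cfsg.IsCharacter R ψ →
      Cfsg.MemLocalRing M ((Nat.card R : ℂ)⁻¹ * ∑ r : R, ψ r * f r) := by
    intro ψ hψ
    obtain ⟨c, -, he, -⟩ := Char.IsChar.exists_mult hψ
    rw [he]
    simp only [Finset.sum_apply, Pi.smul_apply, smul_eq_mul, Finset.sum_mul]
    rw [Finset.sum_comm, Finset.mul_sum]
    refine (localRing hM).sum_mem fun ξ _ => ?_
    simp only [mul_assoc, ← Finset.mul_sum]
    rw [mul_left_comm]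
    exact (localRing hM).mul_mem (memLocalRing_natCast hM _) (hirr ξ)
  obtain ⟨a, b, ha, hb, rfl⟩ := hη
  show Cfsg.MemLocalRing M ((Nat.card R : ℂ)⁻¹ * ∑ r : R, (a - b) r * f r)
  simp only [Pi.sub_apply, sub_mul, Finset.sum_sub_distrib, mul_sub]
  exact (localRing hM).sub_mem (hchar a ha) (hchar b hb)

end Cfsg.Agent.Blocks.Star
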