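import Cfsg.Agent.Blocks.Averaging
import Mathlib.NumberTheory.NumberField.Cyclotomic.Basic

/-!
# Means over the conjugates of an integral polynomial in a 2-power root of unity
-/

namespace Cfsg.Agent.Blocks.Star

open Cfsg.Agent Cfsg.Agent.Blocks Polynomial
open scoped ComplexConjugate

variable {n : ℕ} {ζ : ℂ}

local notation "K[" n "]" => (ZMod (2 ^ (n + 1)))ˣ

/-- The value at the `k`-th conjugate. -/
noncomputable def evK (ζ : ℂ) (f : ℤ[X]) (k : K[n]) : ℂ :=
  aeval (ζ ^ (k : ZMod (2 ^ (n + 1))).val) f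

theorem evK_one (f : ℤ[X]) : evK ζ f (1 : K[n]) = aeval ζ f := by
  have : Fact (1 < 2 ^ (n + 1)) := ⟨Nat.one_lt_two_pow (Nat.succ_ne_zero n)⟩
  rw [evK, Units.val_one, ZMod.val_one, pow_one]

theorem odd_val (k : K[n]) : Odd (k : ZMod (2 ^ (n + 1))).val := by
  have h := ZMod.val_coe_unit_coprime k
  rw [Nat.coprime_pow_right_iff (Nat.succ_pos n), Nat.coprime_two_right] at h
  exact h

theorem half_pow (hζ : IsPrimitiveRoot ζ (2 ^ (n + 1))) : ζ ^ 2 ^ n = -1 := by
  have h1 := hζ.pow (pow_pos two_pos (n + 1)) (pow_succ 2 n)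
  exact h1.eq_neg_one_of_two_right

/-- A relation holds at all the conjugates. -/
theorem evK_eq_zero (hζ : IsPrimitiveRoot ζ (2 ^ (n + 1))) {f : ℤ[X]} (hf : aeval ζ f = 0)
    (k : K[n]) : evK ζ f k = 0 := by
  have hk := hζ.pow_of_coprime _ (ZMod.val_coe_unit_coprime k)
  have h1 := minpoly.isIntegrallyClosed_dvd (hζ.isIntegral (pow_pos two_pos _)) hf
  rw [← cyclotomic_eq_minpoly hζ (pow_pos two_pos _),
    cyclotomic_eq_minpoly hk (pow_pos two_pos _)] at h1
  obtain ⟨g, rfl⟩ := h1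
  rw [evK, map_mul, minpoly.aeval, zero_mul]

/-- Division by a natural number inside the ring of integers. -/
theorem exists_div (hζ : IsPrimitiveRoot ζ (2 ^ (n + 1))) {N : ℕ} (hN : N ≠ 0) {f : ℤ[X]}
    {α : ℂ} (hα : IsIntegral ℤ α) (hf : aeval ζ f = (N : ℂ) * α) :
    ∃ g : ℤ[X], aeval ζ g = α ∧ ∀ k : K[n], evK ζ f k = (N : ℂ) * evK ζ g k := by
  haveI := Fact.mk Nat.prime_two
  let L := CyclotomicField (2 ^ (n + 1)) ℚ
  haveI : IsCyclotomicExtension {2 ^ (n + 1)} ℚ L :=
    CyclotomicField.isCyclotomicExtension (2 ^ (n + 1)) ℚ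
  have hw : IsPrimitiveRoot (IsCyclotomicExtension.zeta (2 ^ (n + 1)) ℚ L) (2 ^ (n + 1)) :=
    IsCyclotomicExtension.zeta_spec _ ℚ L
  set w := IsCyclotomicExtension.zeta (2 ^ (n + 1)) ℚ L
  have hirr : Irreducible (cyclotomic (2 ^ (n + 1)) ℚ) := cyclotomic.irreducible_rat (pow_pos two_pos _)
  obtain ⟨σ, hσ⟩ : ∃ σ : L →ₐ[ℚ] ℂ, σ w = ζ := by
    refine ⟨(hw.powerBasis ℚ).lift ζ ?_, ?_⟩
    · rw [hw.powerBasis_gen ℚ, ← cyclotomic_eq_minpoly_rat hw (pow_pos two_pos _),
        cyclotomic_eq_minpoly_rat hζ (pow_pos two_pos _), minpoly.aeval]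
    · have h := PowerBasis.lift_gen (hw.powerBasis ℚ) ζ (by
        rw [hw.powerBasis_gen ℚ, ← cyclotomic_eq_minpoly_rat hw (pow_pos two_pos _),
          cyclotomic_eq_minpoly_rat hζ (pow_pos two_pos _), minpoly.aeval])
      exact (congrArg _ (hw.powerBasis_gen ℚ).symm).trans h
  have hev : ∀ g : ℤ[X], σ (aeval w g) = aeval ζ g := fun g => by
    rw [← hσ]
    exact (aeval_algHom_apply (σ.restrictScalars ℤ) w g).symm
  have hNC : (N : ℂ) ≠ 0 := Nat.cast_ne_zero.2 hN
  have hx : σ (aeval w f / (N : L)) = α := by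
    rw [map_div₀, hev, map_natCast, hf, mul_div_cancel_left₀ _ hNC]
  have hxi : IsIntegral ℤ (aeval w f / (N : L)) := by
    rw [← hx] at hα
    exact (isIntegral_algHom_iff (σ.restrictScalars ℤ) σ.injective).1 hα
  have hcl := IsCyclotomicExtension.Rat.isIntegralClosure_adjoin_singleton_of_prime_pow hw
  obtain ⟨y, hy⟩ := hcl.isIntegral_iff.1 hxi
  have hy2 : (y : L) ∈ (aeval w : ℤ[X] →ₐ[ℤ] L).range :=
    Algebra.adjoin_singleton_eq_range_aeval ℤ w ▸ y.2
  rw [AlgHom.mem_range] at hy2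
  obtain ⟨g, hg⟩ := hy2
  have hga : aeval ζ g = α := by
    rw [← hev, ← hx, hg]
    exact congrArg σ hy
  refine ⟨g, hga, fun k => sub_eq_zero.1 ?_⟩
  have h := evK_eq_zero hζ (f := f - C (N : ℤ) * g) (by simp [hga, hf]) k
  simpa [evK] using h

/-- The sum over the conjugates of an integral combination of powers. -/
theorem sum_evK (hζ : IsPrimitiveRoot ζ (2 ^ (n + 1))) (f : ℤ[X]) {N : ℕ} (hN : f.natDegree < N) :
    ∑ k : K[n], evK ζ f k =
      ((∑ j ∈ Finset.range N, f.coeff j * rootSign (ζ ^ j) : ℤ) : ℂ) * Fintype.card K[n] := by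
  simp only [evK, aeval_eq_sum_range' hN]
  rw [Finset.sum_comm, Int.cast_sum, Finset.sum_mul]
  refine Finset.sum_congr rfl fun j _ => ?_
  simp only [zsmul_eq_mul]
  rw [← Finset.mul_sum, Int.cast_mul, mul_assoc]
  congr 1
  rw [← sum_units_pow_two (m := n + 1) (z := ζ ^ j)
    (by rw [← pow_mul, mul_comm, pow_mul, hζ.pow_eq_one, one_pow])]
  exact Finset.sum_congr rfl fun k _ => by rw [← pow_mul, ← pow_mul, mul_comm]

/-- The mean over the conjugates is an integer. -/
theorem exists_mean (hζ : IsPrimitiveRoot ζ (2 ^ (n + 1))) (f : ℤ[X]) :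
    ∃ e : ℤ, ∑ k : K[n], evK ζ f k = (e : ℂ) * Fintype.card K[n] :=
  ⟨_, sum_evK hζ f (Nat.lt_succ_self _)⟩

theorem rootSign_pow (hζ : IsPrimitiveRoot ζ (2 ^ (n + 1))) (i : ℕ) (hi : i < 2 ^ (n + 1)) :
    rootSign (ζ ^ i) = if i = 0 then 1 else if i = 2 ^ n then -1 else 0 := by
  have h2 : 2 ^ (n + 1) = 2 * 2 ^ n := pow_succ' 2 n
  have hhalf := half_pow hζ
  have hn := pow_pos (M₀ := ℕ) two_pos n
  by_cases h0 : i = 0
  · simp [h0, rootSign]
  by_cases hd : i = 2 ^ n
  · rw [hd, hhalf, rootSign, if_neg (by norm_num), if_pos rfl, if_neg (pow_ne_zero _ two_ne_zero),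
      if_pos rfl]
  rw [if_neg h0, if_neg hd, rootSign, if_neg, if_neg]
  · intro h
    exact hd (hζ.pow_inj hi (by omega) (h.trans hhalf.symm))
  · intro h
    exact h0 (hζ.pow_inj hi (by omega) (h.trans (pow_zero ζ).symm))

/-- For real conjugates the mean is congruent to the value. -/
theorem mean_even {M : Ideal Cfsg.AlgInt} (hM : Cfsg.IsPModular 2 M)
    (hζ : IsPrimitiveRoot ζ (2 ^ (n + 1))) (f : ℤ[X])
    (hreal : ∀ k : K[n], conj (evK ζ f k) = evK ζ f k)
    (hmem : Cfsg.MemLocalIdeal M (aeval ζ f)) {e : ℤ}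
    (he : ∑ k : K[n], evK ζ f k = (e : ℂ) * Fintype.card K[n]) : Even e := by
  set d := 2 ^ n with hddef
  have hd : 0 < d := pow_pos two_pos n
  have h2 : 2 ^ (n + 1) = 2 * d := pow_succ' 2 n
  have hmon : (X ^ d + 1 : ℤ[X]).Monic := monic_X_pow_add (by simpa using hd)
  set r := f %ₘ (X ^ d + 1) with hr
  have hdeg : r.natDegree < d := by
    have hdd : (X ^ d + 1 : ℤ[X]).natDegree = d := by
      simpa using natDegree_X_pow_add_C (R := ℤ) (n := d) (r := 1)
    have h := natDegree_modByMonic_lt f hmon (by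
      intro h
      rw [h, natDegree_one] at hdd
      omega)
    rwa [hdd] at h
  have hev : ∀ k : K[n], evK ζ f k = evK ζ r k := fun k => by
    conv_lhs => rw [← modByMonic_add_div f (X ^ d + 1)]
    rw [evK, evK, map_add, map_mul, map_add, map_pow, aeval_X, map_one, ← pow_mul, mul_comm _ d,
      pow_mul, half_pow hζ, (odd_val k).neg_one_pow]
    simp [evK, hr]
  have hone : aeval ζ f = aeval ζ r := by
    rw [← evK_one (n := n) f, ← evK_one (n := n) r, hev]
  have hq : ∀ k : K[n], (ζ ^ (k : ZMod (2 ^ (n + 1))).val) ^ (2 * d) = 1 := fun k => by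
    rw [← pow_mul, mul_comm, pow_mul, ← h2, hζ.pow_eq_one, one_pow]
  -- the moments
  have hmom : ∀ m, m < 2 * d → ∑ k : K[n], evK ζ (r * X ^ m) k =
      ((∑ j ∈ Finset.range d, r.coeff j * rootSign (ζ ^ ((j + m) % (2 * d))) : ℤ) : ℂ) *
        Fintype.card K[n] := by
    intro m _
    simp only [evK, map_mul, aeval_eq_sum_range' hdeg, map_pow, aeval_X, Finset.sum_mul]
    rw [Finset.sum_comm, Int.cast_sum, Finset.sum_mul]
    refine Finset.sum_congr rfl fun j _ => ?_
    simp only [zsmul_eq_mul, mul_assoc]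
    rw [← Finset.mul_sum, Int.cast_mul, mul_assoc]
    congr 1
    rw [← sum_units_pow_two (m := n + 1) (z := ζ ^ ((j + m) % (2 * d)))
      (by rw [← pow_mul, mul_comm, pow_mul, hζ.pow_eq_one, one_pow])]
    refine Finset.sum_congr rfl fun k _ => ?_
    rw [← pow_add, ← pow_mul ζ, ← pow_mul ζ, mul_comm ((j + m) % (2 * d)), pow_mul ζ, pow_mul ζ]
    exact pow_eq_pow_mod _ (hq k)
  have hanti : ∀ m, 1 ≤ m → m < d → r.coeff (d - m) = -r.coeff m := by
    intro m hm1 hm
    have hA : ∑ j ∈ Finset.range d, r.coeff j * rootSign (ζ ^ ((j + m) % (2 * d))) =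
        -r.coeff (d - m) := by
      rw [Finset.sum_eq_single (d - m)]
      · rw [Nat.mod_eq_of_lt (by omega), rootSign_pow hζ _ (by omega), if_neg (by omega),
          if_pos (by omega)]
        ring
      · intro j hj hne
        rw [Finset.mem_range] at hj
        rw [Nat.mod_eq_of_lt (by omega), rootSign_pow hζ _ (by omega), if_neg (by omega),
          if_neg (by omega), mul_zero]
      · exact fun h => absurd (Finset.mem_range.2 (by omega)) h
    have hB : ∑ j ∈ Finset.range d, r.coeff j * rootSign (ζ ^ ((j + (2 * d - m)) % (2 * d))) =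
        r.coeff m := by
      rw [Finset.sum_eq_single m]
      · rw [show m + (2 * d - m) = 2 * d by omega, Nat.mod_self, rootSign_pow hζ _ (by omega),
          if_pos rfl, mul_one]
      · intro j hj hne
        rw [Finset.mem_range] at hj
        rcases lt_or_gt_of_ne hne with h | h
        · rw [Nat.mod_eq_of_lt (by omega), rootSign_pow hζ _ (by omega), if_neg (by omega),
            if_neg (by omega), mul_zero]
        · rw [show j + (2 * d - m) = (j - m) + 2 * d by omega, Nat.add_mod_right,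
            Nat.mod_eq_of_lt (by omega), rootSign_pow hζ _ (by omega), if_neg (by omega),
            if_neg (by omega), mul_zero]
      · exact fun h => absurd (Finset.mem_range.2 hm) h
    have hc : conj (∑ k : K[n], evK ζ (r * X ^ m) k) = ∑ k : K[n], evK ζ (r * X ^ (2 * d - m)) k := by
      rw [map_sum]
      refine Finset.sum_congr rfl fun k _ => ?_
      simp only [evK, map_mul, map_pow, aeval_X]
      rw [show conj (aeval (ζ ^ (k : ZMod (2 ^ (n + 1))).val) r) =
        aeval (ζ ^ (k : ZMod (2 ^ (n + 1))).val) r from by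
          have := hreal k
          rwa [hev k] at this]
      congr 1
      rw [← map_pow conj, ← map_pow conj]
      set z := ζ ^ (k : ZMod (2 ^ (n + 1))).val
      have hz1 : ‖z‖ = 1 := Complex.norm_eq_one_of_pow_eq_one (hq k) (by omega)
      rw [map_pow, ← Complex.inv_eq_conj hz1, inv_pow]
      refine (eq_inv_of_mul_eq_one_left ?_).symm
      rw [← pow_add, show 2 * d - m + m = 2 * d by omega]
      exact hq k
    rw [hmom m (by omega), hmom (2 * d - m) (by omega), hA, hB, map_mul, map_intCast,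
      Complex.conj_natCast] at hc
    have h := Int.cast_injective (α := ℂ)
      (mul_right_cancel₀ (Nat.cast_ne_zero.2 Fintype.card_ne_zero) hc)
    omega
  -- the value is congruent to the constant coefficient
  have hS : ∑ j ∈ Finset.Ico 1 d, r.coeff j = 0 := by
    have h : ∑ j ∈ Finset.Ico 1 d, r.coeff j = ∑ j ∈ Finset.Ico 1 d, -r.coeff j :=
      Finset.sum_nbij' (fun j => d - j) (fun j => d - j)
        (fun j hj => by simp only [Finset.mem_coe, Finset.mem_Ico] at hj ⊢; omega)
        (fun j hj => by simp only [Finset.mem_coe, Finset.mem_Ico] at hj ⊢; omega)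
        (fun j hj => by simp only [Finset.mem_coe, Finset.mem_Ico] at hj; omega)
        (fun j hj => by simp only [Finset.mem_coe, Finset.mem_Ico] at hj; omega)
        (fun j hj => by
          simp only [Finset.mem_Ico] at hj
          rw [hanti j hj.1 hj.2, neg_neg])
    rw [Finset.sum_neg_distrib] at h
    omega
  have he0 : e = r.coeff 0 := by
    have h1 : ∑ k : K[n], evK ζ r k = (r.coeff 0 : ℂ) * Fintype.card K[n] := by
      rw [sum_evK hζ r hdeg]
      congr 2
      rw [Finset.sum_eq_single 0]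
      · simp [rootSign]
      · intro j hj hne
        rw [Finset.mem_range] at hj
        rw [rootSign_pow hζ _ (by omega), if_neg hne, if_neg (by omega), mul_zero]
      · exact fun h => absurd (Finset.mem_range.2 hd) h
    rw [Finset.sum_congr rfl fun k _ => hev k, h1] at he
    exact (Int.cast_injective (α := ℂ)
      (mul_right_cancel₀ (Nat.cast_ne_zero.2 Fintype.card_ne_zero) he)).symm
  have hsum : ((∑ j ∈ Finset.range d, r.coeff j : ℤ) : ℂ) = (e : ℂ) := by
    rw [Finset.range_eq_Ico, Finset.sum_eq_sum_Ico_succ_bot hd, hS, add_zero, he0]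
  have hdiff : Cfsg.MemLocalIdeal M (aeval ζ r - (e : ℂ)) := by
    rw [← hsum, aeval_eq_sum_range' hdeg, Int.cast_sum, ← Finset.sum_sub_distrib]
    refine memLocalIdeal_sum hM _ fun j _ => ?_
    rw [zsmul_eq_mul, ← mul_sub_one]
    refine memLocalIdeal_mul_left hM (memLocalRing_of_isIntegral hM (isIntegral_intCast _)) ?_
    have h1 : (ζ ^ j) ^ 2 ^ (n + 1) = 1 := by
      rw [← pow_mul, mul_comm, pow_mul, hζ.pow_eq_one, one_pow]
    exact (memLocalIdeal_coe_iff hM _).2 (sub_one_mem_of_pow_prime_pow hM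
      (z := ⟨_, isIntegral_of_pow_eq_one (pow_pos two_pos _) h1⟩) (k := n + 1)
      (Subtype.ext (by simpa using h1)))
  rw [hone] at hmem
  have h3 := memLocalIdeal_sub hM hmem hdiff
  rw [sub_sub_cancel] at h3
  exact even_iff_two_dvd.2 ((memLocalIdeal_intCast_iff hM e).1 h3)

/-- A non-zero value has mean square at least one. -/
theorem card_le_sum_normSq (hζ : IsPrimitiveRoot ζ (2 ^ (n + 1))) {f : ℤ[X]}
    (hne : aeval ζ f ≠ 0) :
    (Fintype.card K[n] : ℝ) ≤ ∑ k : K[n], Complex.normSq (evK ζ f k) := by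
  have e : ∀ k : K[n], evK ζ f k = ∑ j ∈ Finset.range (f.natDegree + 1),
      (f.coeff j : ℂ) * (ζ ^ j) ^ (k : ZMod (2 ^ (n + 1))).val := fun k => by
    rw [evK, aeval_eq_sum_range' (Nat.lt_succ_self _)]
    exact Finset.sum_congr rfl fun j _ => by rw [zsmul_eq_mul, ← pow_mul, ← pow_mul, mul_comm j]
  simp only [e]
  refine card_units_le_sum_normSq _ _ _ (fun i _ => by
    rw [← pow_mul, mul_comm, pow_mul, hζ.pow_eq_one, one_pow]) fun k h => hne ?_
  rw [← e] at h
  -- transfer back along the inverse exponent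
  have hk := hζ.pow_of_coprime _ (ZMod.val_coe_unit_coprime k)
  have h1 := minpoly.isIntegrallyClosed_dvd (hk.isIntegral (pow_pos two_pos _)) h
  rw [← cyclotomic_eq_minpoly hk (pow_pos two_pos _),
    cyclotomic_eq_minpoly hζ (pow_pos two_pos _)] at h1
  obtain ⟨g, hg⟩ := h1
  rw [hg, map_mul, minpoly.aeval, zero_mul]

end Cfsg.Agent.Blocks.Star
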