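import Cfsg.Agent.Blocks.Star.MajorPair
import Cfsg.Agent.Blocks.Star.TwoPowMean

/-!
# The means of the diagonal contributions of a major subsection of a 2-block

The mean `a χ` over the Galois conjugates is a positive integer at most `2 ^ d`, odd at height
zero and a multiple of `2 ^ (h + 1)` at height `h > 0`.
-/

namespace Cfsg.Agent.Blocks.Star

open Cfsg.Agent Cfsg.Agent.Blocks Polynomial
open scoped ComplexConjugate

universe u

variable {G : Type u} [Group G] [Fintype G] {M : Ideal Cfsg.AlgInt}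
  {B : Set (Cfsg.IrrCharacter G)} {x : G} {H : Subgroup G} [Fintype H]
  {b : Set (Cfsg.IrrCharacter H)}

open scoped Classical in
/-- The means. -/
theorem major_means (hM : Cfsg.IsPModular 2 M) (hH : ∀ a : G, a ∈ H ↔ x * a = a * x)
    (hx : ∃ k, orderOf x = 2 ^ k) (hind : Cfsg.IsInducedBlock M H b B)
    (hd : Cfsg.blockDefect 2 b = Cfsg.blockDefect 2 B) :
    ∃ a : Cfsg.IrrCharacter G → ℤ,
      (∀ χ ∈ B, 0 < a χ ∧ a χ ≤ 2 ^ Cfsg.blockDefect 2 B ∧
        (Cfsg.blockHeight 2 B (χ : G → ℂ) = 0 → Odd (a χ) ∧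
          (a χ = 1 → ∑ φ ∈ B.toFinite.toFinset, (4 : ℤ) ^ Cfsg.blockHeight 2 B (φ : G → ℂ) ≤
            2 ^ Cfsg.blockDefect 2 B) ∧
          (a χ = 2 ^ Cfsg.blockDefect 2 B - 1 →
            (B.toFinite.toFinset.card : ℤ) ≤ 2 ^ Cfsg.blockDefect 2 B)) ∧
        (Cfsg.blockHeight 2 B (χ : G → ℂ) ≠ 0 →
          (2 : ℤ) ^ (Cfsg.blockHeight 2 B (χ : G → ℂ) + 1) ∣ a χ ∧
            a χ < 2 ^ Cfsg.blockDefect 2 B)) ∧
      ∑ χ ∈ B.toFinite.toFinset, a χ = (Cfsg.blockRank 2 b : ℤ) * 2 ^ Cfsg.blockDefect 2 B := by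
  obtain ⟨n, hn⟩ := hx
  set ζ : ℂ := Complex.exp (2 * Real.pi * Complex.I / ((2 ^ (n + 1) : ℕ) : ℂ))
  have hζ : IsPrimitiveRoot ζ (2 ^ (n + 1)) :=
    Complex.isPrimitiveRoot_exp _ (pow_ne_zero _ two_ne_zero)
  let K := (ZMod (2 ^ (n + 1)))ˣ
  let P : K → Cfsg.IrrCharacter G → Cfsg.IrrCharacter G → ℂ := fun k χ φ =>
    contrib 2 (x ^ (k : ZMod (2 ^ (n + 1))).val) b χ φ
  have hcop : ∀ k : K, (k : ZMod (2 ^ (n + 1))).val.Coprime (orderOf x) := fun k => by
    rw [hn]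
    exact (ZMod.val_coe_unit_coprime k).coprime_dvd_right (pow_dvd_pow 2 (Nat.le_succ n))
  have hHk := fun k : K => centralizer_pow hH (hcop k)
  have hxk : ∀ k : K, ∃ m, orderOf (x ^ (k : ZMod (2 ^ (n + 1))).val) = 2 ^ m := fun k =>
    ⟨n, by rw [(hcop k).symm.orderOf_pow, hn]⟩
  have hx' : ∃ k, orderOf x = 2 ^ k := ⟨n, hn⟩
  have hxq : x ^ 2 ^ (n + 1) = 1 :=
    orderOf_dvd_iff_pow_eq_one.1 (hn ▸ pow_dvd_pow 2 (Nat.le_succ n))
  -- the polynomials
  have hf : ∀ χ φ : Cfsg.IrrCharacter G, ∃ f : ℤ[X], ∀ k : K, evK ζ f k = P k χ φ := by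
    intro χ φ
    have hroot : ∀ i, ∃ m, ζ ^ m = pairRoot hH i := fun i => by
      obtain ⟨m, -, hm⟩ := hζ.eq_pow_of_pow_eq_one (pairRoot_pow hH i hxq)
      exact ⟨m, hm⟩
    choose m hm using hroot
    refine ⟨∑ i ∈ (Set.toFinite b).toFinset ×ˢ (Set.toFinite b).toFinset,
      C (pairCoef 2 b χ φ i) * X ^ m i, fun k => ?_⟩
    show _ = contrib 2 _ b χ φ
    rw [contrib_pow_eq hH hM χ φ (hcop k), evK, map_sum]
    refine Finset.sum_congr rfl fun i _ => ?_
    rw [map_mul, map_pow, aeval_X, aeval_C, ← hm i, ← pow_mul, ← pow_mul,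
      mul_comm (k : ZMod (2 ^ (n + 1))).val]
    simp
  have hone : ∀ χ φ : Cfsg.IrrCharacter G, P 1 χ φ = contrib 2 x b χ φ := fun χ φ => by
    have : Fact (1 < 2 ^ (n + 1)) := ⟨Nat.one_lt_two_pow (Nat.succ_ne_zero n)⟩
    show contrib 2 (x ^ ((1 : K) : ZMod (2 ^ (n + 1))).val) b χ φ = _
    rw [Units.val_one, ZMod.val_one, pow_one]
  have hg : ∀ χ ∈ B, ∀ φ ∈ B, ∃ g : ℤ[X],
      (Cfsg.MemLocalIdeal M (aeval ζ g) ↔ Cfsg.blockHeight 2 B (φ : G → ℂ) ≠ 0) ∧
      ∀ k : K, P k χ φ = ((2 ^ Cfsg.blockHeight 2 B (χ : G → ℂ) : ℕ) : ℂ) * evK ζ g k := by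
    intro χ hχ φ hφ
    obtain ⟨f, hf⟩ := hf χ φ
    obtain ⟨α, hα, heq, hiff⟩ := major_pair hM hx' hH hind hd hχ hφ
    obtain ⟨g, hga, hgk⟩ := exists_div hζ (pow_ne_zero _ two_ne_zero) hα
      (f := f) (by rw [← evK_one (n := n), hf, hone, heq])
    exact ⟨g, by rw [hga]; exact hiff, fun k => by rw [← hgk, hf]⟩
  obtain ⟨χ₀, hχ₀, h₀⟩ := BlockThms.exists_height_zero hM hind.2.1
  set N : ℤ := 2 ^ Cfsg.blockDefect 2 B with hNdef
  have hNR : ((2 ^ Cfsg.blockDefect 2 b : ℕ) : ℝ) = (N : ℝ) := by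
    rw [hd, hNdef]; push_cast; rfl
  set S := B.toFinite.toFinset
  have hmemS : ∀ {φ}, φ ∈ S ↔ φ ∈ B := fun {φ} => Set.Finite.mem_toFinset _
  have hrow : ∀ (k : K) (χ : Cfsg.IrrCharacter G),
      ∑ φ ∈ S, Complex.normSq (P k χ φ) = (N : ℝ) * (P k χ χ).re := fun k χ => by
    rw [← hNR]
    exact sum_normSq_contrib_row (hHk k) hM (hxk k) hind
  have hN0 : (0 : ℝ) < (N : ℝ) := by rw [hNdef]; push_cast; positivity
  have hne : ∀ (k : K), ∀ χ ∈ B, P k χ χ₀ ≠ 0 := by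
    intro k χ hχ h
    obtain ⟨g, hiff, hgk⟩ := hg χ hχ χ₀ hχ₀
    have hg0 : aeval ζ g ≠ 0 := fun h' => hiff.1 (h' ▸ memLocalIdeal_zero hM) h₀
    rw [hgk k, mul_eq_zero] at h
    refine hg0 ?_
    have hz := h.resolve_left (Nat.cast_ne_zero.2 (pow_ne_zero _ two_ne_zero))
    have hk := hζ.pow_of_coprime _ (ZMod.val_coe_unit_coprime k)
    have h1 := minpoly.isIntegrallyClosed_dvd (hk.isIntegral (pow_pos two_pos _)) hz
    rw [← cyclotomic_eq_minpoly hk (pow_pos two_pos _),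
      cyclotomic_eq_minpoly hζ (pow_pos two_pos _)] at h1
    obtain ⟨g', rfl⟩ := h1
    rw [map_mul, minpoly.aeval, zero_mul]
  have hre : ∀ (k : K), ∀ χ ∈ B, 0 < (P k χ χ).re ∧ (P k χ χ).re ≤ (N : ℝ) ∧
      (χ ≠ χ₀ → (P k χ χ).re < (N : ℝ)) := by
    intro k χ hχ
    have hp : 0 < (N : ℝ) * (P k χ χ).re := hrow k χ ▸ Finset.sum_pos'
      (fun φ _ => Complex.normSq_nonneg _) ⟨χ₀, hmemS.2 hχ₀, Complex.normSq_pos.2 (hne k χ hχ)⟩
    have hsq : (P k χ χ).re * (P k χ χ).re ≤ Complex.normSq (P k χ χ) := by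
      rw [Complex.normSq_apply]; linarith [mul_self_nonneg (P k χ χ).im]
    refine ⟨pos_of_mul_pos_right hp hN0.le, ?_, fun hne' => ?_⟩
    · have h1 := Finset.single_le_sum (f := fun φ => Complex.normSq (P k χ φ))
        (fun φ _ => Complex.normSq_nonneg _) (hmemS.2 hχ)
      rw [hrow k χ] at h1
      exact le_of_mul_le_mul_right (hsq.trans h1) (pos_of_mul_pos_right hp hN0.le)
    · have h1 : Complex.normSq (P k χ χ) + Complex.normSq (P k χ χ₀) ≤ (N : ℝ) * (P k χ χ).re := by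
        rw [← hrow k χ, ← Finset.sum_pair (f := fun φ => Complex.normSq (P k χ φ)) hne']
        exact Finset.sum_le_sum_of_subset_of_nonneg
          (by intro φ hφ; rcases Finset.mem_insert.1 hφ with rfl | h
              · exact hmemS.2 hχ
              · exact Finset.mem_singleton.1 h ▸ hmemS.2 hχ₀)
          fun φ _ _ => Complex.normSq_nonneg _
      have h2 := Complex.normSq_pos.2 (hne k χ hχ)
      refine lt_of_mul_lt_mul_right ?_ (pos_of_mul_pos_right hp hN0.le).le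
      linarith
  -- the means
  have hmean : ∀ χ : Cfsg.IrrCharacter G, ∃ a : ℤ, χ ∈ B →
      ∃ g : ℤ[X], ∃ e : ℤ, a = 2 ^ Cfsg.blockHeight 2 B (χ : G → ℂ) * e ∧
        ∑ k : K, (P k χ χ).re = (a : ℝ) * Fintype.card K ∧
        ((Cfsg.blockHeight 2 B (χ : G → ℂ) ≠ 0 → Even e) ∧
          (Cfsg.blockHeight 2 B (χ : G → ℂ) = 0 → Odd e)) := by
    intro χ
    by_cases hχ : χ ∈ B
    swap
    · exact ⟨0, fun h => absurd h hχ⟩
    obtain ⟨g, hiff, hgk⟩ := hg χ hχ χ hχ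
    obtain ⟨e, he⟩ := exists_mean (n := n) hζ g
    refine ⟨2 ^ Cfsg.blockHeight 2 B (χ : G → ℂ) * e, fun _ => ⟨g, e, rfl, ?_, ?_⟩⟩
    · rw [← Complex.re_sum, Finset.sum_congr rfl fun k _ => hgk k, ← Finset.mul_sum, he,
        show ((2 ^ Cfsg.blockHeight 2 B (χ : G → ℂ) : ℕ) : ℂ) * ((e : ℂ) * (Fintype.card K : ℂ)) =
          (((2 ^ Cfsg.blockHeight 2 B (χ : G → ℂ) * e : ℤ) : ℝ) * (Fintype.card K : ℝ) : ℝ) by
            push_cast; ring,
        Complex.ofReal_re]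
    have hreal : ∀ k : K, conj (evK ζ g k) = evK ζ g k := fun k => by
      have h := contrib_conj (hHk k) hM (b := b) (p := 2) χ χ
      have h' : conj (P k χ χ) = P k χ χ := h
      rw [hgk k, map_mul, Complex.conj_natCast] at h'
      exact mul_left_cancel₀ (Nat.cast_ne_zero.2 (pow_ne_zero _ two_ne_zero)) h'
    refine ⟨fun hh => mean_even hM hζ g hreal (hiff.2 hh) he, fun hh => ?_⟩
    have hnm : ¬ Cfsg.MemLocalIdeal M (aeval ζ g) := fun h => hiff.1 h hh
    have hsum : Cfsg.MemLocalIdeal M (aeval ζ g - ((g.eval 1 : ℤ) : ℂ)) := by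
      rw [aeval_eq_sum_range, Polynomial.eval_eq_sum_range, Int.cast_sum, ← Finset.sum_sub_distrib]
      refine memLocalIdeal_sum hM _ fun j _ => ?_
      rw [zsmul_eq_mul, one_pow, mul_one, ← mul_sub_one]
      refine memLocalIdeal_mul_left hM (memLocalRing_of_isIntegral hM (isIntegral_intCast _)) ?_
      have h1 : (ζ ^ j) ^ 2 ^ (n + 1) = 1 := by
        rw [← pow_mul, mul_comm, pow_mul, hζ.pow_eq_one, one_pow]
      exact (memLocalIdeal_coe_iff hM _).2 (sub_one_mem_of_pow_prime_pow hM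
        (z := ⟨_, isIntegral_of_pow_eq_one (pow_pos two_pos _) h1⟩) (k := n + 1)
        (Subtype.ext (by simpa using h1)))
    have hodd : Odd (g.eval 1) := by
      rcases Int.even_or_odd (g.eval 1) with h | h
      · refine absurd ?_ hnm
        simpa using memLocalIdeal_add hM hsum
          ((memLocalIdeal_intCast_iff hM _).2 (even_iff_two_dvd.1 h))
      · exact h
    have hmem : Cfsg.MemLocalIdeal M (aeval ζ (g + C 1)) := by
      have h1 := memLocalIdeal_add hM hsum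
        ((memLocalIdeal_intCast_iff hM _).2 (even_iff_two_dvd.1 (hodd.add_odd odd_one)))
      convert h1 using 1
      push_cast
      simp only [map_add, aeval_C]
      simp
      ring
    have hevk : ∀ k : K, evK ζ (g + C 1) k = evK ζ g k + 1 := fun k => by simp [evK]
    have heven : Even (e + 1) := mean_even hM hζ (g + C 1) (fun k => by
      rw [hevk, map_add, hreal k, map_one]) hmem (by
      rw [Finset.sum_congr rfl fun k _ => hevk k, Finset.sum_add_distrib, he, Finset.sum_const,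
        Finset.card_univ, nsmul_eq_mul, Int.cast_add, Int.cast_one]
      ring)
    exact Int.not_even_iff_odd.1 fun h => absurd heven (Int.not_even_iff_odd.2 (h.add_odd odd_one))
  choose a ha using hmean
  have hK : (0 : ℝ) < Fintype.card K := Nat.cast_pos.2 Fintype.card_pos
  have hsumK : ∀ (c : ℝ), ∑ _k : K, c = c * Fintype.card K := fun c => by
    rw [Finset.sum_const, Finset.card_univ, nsmul_eq_mul, mul_comm]
  have hlow : ∀ χ ∈ B, Cfsg.blockHeight 2 B (χ : G → ℂ) = 0 → ∀ φ ∈ B,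
      (4 : ℝ) ^ Cfsg.blockHeight 2 B (φ : G → ℂ) * Fintype.card K ≤
        ∑ k : K, Complex.normSq (P k χ φ) := by
    intro χ hχ hh φ hφ
    obtain ⟨g, hiff, hgk⟩ := hg φ hφ χ hχ
    have hg0 : aeval ζ g ≠ 0 := fun h => hiff.1 (h ▸ memLocalIdeal_zero hM) hh
    have h1 := card_le_sum_normSq (n := n) hζ hg0
    calc (4 : ℝ) ^ Cfsg.blockHeight 2 B (φ : G → ℂ) * Fintype.card K
        ≤ (4 : ℝ) ^ Cfsg.blockHeight 2 B (φ : G → ℂ) * ∑ k : K, Complex.normSq (evK ζ g k) :=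
          mul_le_mul_of_nonneg_left h1 (by positivity)
      _ = ∑ k : K, Complex.normSq (P k χ φ) := by
          rw [Finset.mul_sum]
          refine Finset.sum_congr rfl fun k _ => ?_
          rw [← Complex.normSq_conj (P k χ φ), show conj (P k χ φ) = P k φ χ from
            contrib_conj (hHk k) hM χ φ, hgk k, map_mul, Complex.normSq_natCast]
          push_cast
          rw [← mul_pow]
          norm_num
  refine ⟨a, fun χ hχ => ?_, ?_⟩
  · obtain ⟨g, e, hae, hsum, heven, hoddE⟩ := ha χ hχ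
    have hpos : 0 < a χ := by
      have h1 : (0 : ℝ) < (a χ : ℝ) * Fintype.card K :=
        hsum ▸ Finset.sum_pos (fun k _ => (hre k χ hχ).1) Finset.univ_nonempty
      exact_mod_cast pos_of_mul_pos_left h1 hK.le
    have hle : a χ ≤ N := by
      have h1 : (a χ : ℝ) * Fintype.card K ≤ (N : ℝ) * Fintype.card K := by
        rw [← hsum, ← hsumK]
        exact Finset.sum_le_sum fun k _ => (hre k χ hχ).2.1
      exact_mod_cast le_of_mul_le_mul_right h1 hK
    have hrows : ∑ φ ∈ S, ∑ k : K, Complex.normSq (P k χ φ) =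
        (N : ℝ) * ((a χ : ℝ) * Fintype.card K) := by
      rw [Finset.sum_comm, Finset.sum_congr rfl fun k _ => hrow k χ, ← Finset.mul_sum, hsum]
    refine ⟨hpos, hle, fun hh => ⟨?_, fun h1 => ?_, fun h1 => ?_⟩, fun hh => ⟨?_, ?_⟩⟩
    · rw [hae, hh, pow_zero, one_mul]
      exact hoddE hh
    · have h2 : ∑ φ ∈ S, (4 : ℝ) ^ Cfsg.blockHeight 2 B (φ : G → ℂ) * Fintype.card K ≤
          (N : ℝ) * Fintype.card K := by
        refine (Finset.sum_le_sum fun φ hφ => hlow χ hχ hh φ (hmemS.1 hφ)).trans_eq ?_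
        rw [hrows, h1, Int.cast_one, one_mul]
      rw [← Finset.sum_mul] at h2
      exact_mod_cast le_of_mul_le_mul_right h2 hK
    · have h2 : ((a χ : ℝ)) ^ 2 * Fintype.card K ≤ ∑ k : K, Complex.normSq (P k χ χ) := by
        calc ((a χ : ℝ)) ^ 2 * Fintype.card K
            = 2 * (a χ : ℝ) * ∑ k : K, (P k χ χ).re - ∑ _k : K, (a χ : ℝ) ^ 2 := by
              rw [hsum, hsumK]; ring
          _ = ∑ k : K, (2 * (a χ : ℝ) * (P k χ χ).re - (a χ : ℝ) ^ 2) := by
              rw [Finset.sum_sub_distrib, Finset.mul_sum]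
          _ ≤ ∑ k : K, Complex.normSq (P k χ χ) := Finset.sum_le_sum fun k _ => by
              rw [Complex.normSq_apply]
              nlinarith [mul_self_nonneg ((P k χ χ).re - (a χ : ℝ)),
                mul_self_nonneg (P k χ χ).im]
      rw [← Finset.add_sum_erase S _ (hmemS.2 hχ)] at hrows
      have h3 : ((S.erase χ).card : ℝ) * Fintype.card K ≤
          ∑ φ ∈ S.erase χ, ∑ k : K, Complex.normSq (P k χ φ) := by
        rw [← nsmul_eq_mul, ← Finset.sum_const]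
        refine Finset.sum_le_sum fun φ hφ => le_trans ?_
          (hlow χ hχ hh φ (hmemS.1 (Finset.mem_of_mem_erase hφ)))
        exact le_mul_of_one_le_left hK.le (one_le_pow₀ (by norm_num))
      rw [Finset.card_erase_of_mem (hmemS.2 hχ),
        Nat.cast_sub (Finset.card_pos.2 ⟨χ, hmemS.2 hχ⟩), Nat.cast_one] at h3
      have h4 : ((S.card : ℝ) - 1) * Fintype.card K ≤ ((N : ℝ) - 1) * Fintype.card K := by
        rw [show (a χ : ℝ) = (N : ℝ) - 1 by rw [h1]; push_cast; ring] at h2 hrows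
        linarith
      have h5 := le_of_mul_le_mul_right h4 hK
      have h6 : (S.card : ℝ) ≤ (N : ℝ) := by linarith
      exact_mod_cast h6
    · rw [hae, pow_succ]
      exact mul_dvd_mul_left _ (even_iff_two_dvd.1 (heven hh))
    · have h1 : (a χ : ℝ) * Fintype.card K < (N : ℝ) * Fintype.card K := by
        rw [← hsum, ← hsumK]
        exact Finset.sum_lt_sum_of_nonempty Finset.univ_nonempty fun k _ =>
          (hre k χ hχ).2.2 fun h => hh (h ▸ h₀)
      exact_mod_cast lt_of_mul_lt_mul_right h1 hK.le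
  · have h1 : ((∑ χ ∈ S, a χ : ℤ) : ℝ) * Fintype.card K =
        (((Cfsg.blockRank 2 b : ℤ) * N : ℤ) : ℝ) * Fintype.card K := by
      rw [Int.cast_sum, Finset.sum_mul,
        Finset.sum_congr rfl fun χ hχ => by
          obtain ⟨g, e, -, hsum, -⟩ := ha χ (hmemS.1 hχ)
          exact hsum.symm,
        Finset.sum_comm, ← hsumK]
      refine Finset.sum_congr rfl fun k _ => ?_
      rw [← Complex.re_sum, ← finsum_mem_eq_finite_toFinset_sum _ B.toFinite,
        sum_contrib_self (hHk k) hM (hxk k) hind, Complex.mul_re, Complex.natCast_re,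
        Complex.natCast_im, zero_mul, sub_zero, Complex.natCast_re, hNR]
      push_cast
      ring
    exact_mod_cast mul_right_cancel₀ hK.ne' h1

open scoped Classical in
/-- At most three Brauer characters in a major subsection of a 2-block. -/
theorem major_rank_le_three (hM : Cfsg.IsPModular 2 M) (hH : ∀ a : G, a ∈ H ↔ x * a = a * x)
    (hx : ∃ k, orderOf x = 2 ^ k) (hind : Cfsg.IsInducedBlock M H b B)
    (hd : Cfsg.blockDefect 2 b = Cfsg.blockDefect 2 B) (hl : Cfsg.blockRank 2 b ≤ 3) :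
    3 * (B.toFinite.toFinset.filter fun χ : Cfsg.IrrCharacter G =>
        Cfsg.blockHeight 2 B (χ : G → ℂ) = 0).card +
      2 * ∑ χ ∈ B.toFinite.toFinset.filter (fun χ : Cfsg.IrrCharacter G =>
        1 ≤ Cfsg.blockHeight 2 B (χ : G → ℂ)), 2 ^ Cfsg.blockHeight 2 B (χ : G → ℂ) ≤
      3 * 2 ^ Cfsg.blockDefect 2 B := by
  obtain ⟨a, ha, hsum⟩ := major_means hM hH hx hind hd
  set S := B.toFinite.toFinset
  set ht := fun χ : Cfsg.IrrCharacter G => Cfsg.blockHeight 2 B (χ : G → ℂ)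
  let w : Cfsg.IrrCharacter G → ℕ := fun χ => if ht χ = 0 then 3 else 2 * 2 ^ ht χ
  have hw : 3 * (S.filter fun χ => ht χ = 0).card +
      2 * ∑ χ ∈ S.filter (fun χ => 1 ≤ ht χ), 2 ^ ht χ = ∑ χ ∈ S, w χ := by
    rw [← Finset.sum_filter_add_sum_filter_not S (fun χ => ht χ = 0) w,
      Finset.sum_congr rfl (g := fun _ => 3) fun χ hχ => if_pos (Finset.mem_filter.1 hχ).2,
      Finset.sum_const, smul_eq_mul, mul_comm _ 3, Finset.mul_sum,
      show S.filter (fun χ => 1 ≤ ht χ) = S.filter (fun χ => ¬ ht χ = 0) from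
        Finset.filter_congr fun χ _ => Nat.one_le_iff_ne_zero]
    congr 1
    exact Finset.sum_congr rfl fun χ hχ => (if_neg (Finset.mem_filter.1 hχ).2).symm
  show 3 * (S.filter fun χ => ht χ = 0).card +
    2 * ∑ χ ∈ S.filter (fun χ => 1 ≤ ht χ), 2 ^ ht χ ≤ _
  rw [hw]
  have hmemS : ∀ {φ}, φ ∈ S ↔ φ ∈ B := fun {φ} => Set.Finite.mem_toFinset _
  suffices h : (∑ χ ∈ S, (w χ : ℤ)) ≤ 3 * 2 ^ Cfsg.blockDefect 2 B by exact_mod_cast h
  by_cases h1 : ∃ χ ∈ B, ht χ = 0 ∧ a χ = 1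
  · obtain ⟨χ, hχ, hh, ha1⟩ := h1
    refine le_trans ?_ (mul_le_mul_of_nonneg_left (((ha χ hχ).2.2.1 hh).2.1 ha1) (by norm_num))
    rw [Finset.mul_sum]
    refine Finset.sum_le_sum fun φ _ => ?_
    simp only [w]
    split_ifs with h
    · show (3 : ℤ) ≤ 3 * 4 ^ ht φ
      linarith [one_le_pow₀ (show (1 : ℤ) ≤ 4 by norm_num) (n := ht φ)]
    · push_cast
      show (2 : ℤ) * 2 ^ ht φ ≤ 3 * 4 ^ ht φ
      have h4 : (2 : ℤ) ^ ht φ ≤ 4 ^ ht φ := pow_le_pow_left₀ (by norm_num) (by norm_num) _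
      linarith [pow_nonneg (show (0 : ℤ) ≤ 4 by norm_num) (ht φ)]
  · push Not at h1
    refine le_trans (Finset.sum_le_sum fun φ hφ => ?_) (hsum.trans_le (by gcongr; exact_mod_cast hl))
    obtain ⟨hpos, -, h0, hne⟩ := ha φ (hmemS.1 hφ)
    simp only [w]
    split_ifs with h
    · obtain ⟨⟨c, hc⟩, -⟩ := h0 h
      have := h1 φ (hmemS.1 hφ) h
      push_cast
      omega
    · push_cast
      have := Int.le_of_dvd hpos (hne h).1
      rw [pow_succ'] at this
      exact this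

open scoped Classical in
/-- At most three characters more than Brauer characters in a major subsection of a 2-block. -/
theorem major_corank_le_three (hM : Cfsg.IsPModular 2 M) (hH : ∀ a : G, a ∈ H ↔ x * a = a * x)
    (hx : ∃ k, orderOf x = 2 ^ k) (hind : Cfsg.IsInducedBlock M H b B)
    (hd : Cfsg.blockDefect 2 b = Cfsg.blockDefect 2 B)
    (hl : B.toFinite.toFinset.card ≤ Cfsg.blockRank 2 b + 3) :
    B.toFinite.toFinset.card ≤ 2 ^ Cfsg.blockDefect 2 B := by
  obtain ⟨a, ha, hsum⟩ := major_means hM hH hx hind hd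
  set S := B.toFinite.toFinset
  set N : ℤ := 2 ^ Cfsg.blockDefect 2 B with hN
  suffices h : (S.card : ℤ) ≤ N by rw [hN] at h; exact_mod_cast h
  have hmemS : ∀ {φ}, φ ∈ S ↔ φ ∈ B := fun {φ} => Set.Finite.mem_toFinset _
  by_contra hcon
  have key : ∀ φ ∈ S, a φ + 3 ≤ N := by
    intro φ hφ
    obtain ⟨hpos, hle, h0, hne⟩ := ha φ (hmemS.1 hφ)
    by_cases h : Cfsg.blockHeight 2 B (φ : G → ℂ) = 0
    · obtain ⟨⟨c, hc⟩, h1, hN1⟩ := h0 h
      by_cases hd0 : Cfsg.blockDefect 2 B = 0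
      · refine absurd (le_trans ?_ (h1 ?_)) hcon
        · rw [Finset.card_eq_sum_ones, Nat.cast_sum]
          exact Finset.sum_le_sum fun χ _ => by simpa using one_le_pow₀ (show (1 : ℤ) ≤ 4 by norm_num)
        · rw [hN, hd0, pow_zero] at hle
          omega
      · obtain ⟨m, hm⟩ := Nat.exists_eq_succ_of_ne_zero hd0
        have hNe : N = 2 * 2 ^ m := by rw [hN, hm, pow_succ']
        have : a φ ≠ N - 1 := fun h' => hcon (hN1 h')
        omega
    · obtain ⟨hdvd, hlt⟩ := hne h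
      set j := Cfsg.blockHeight 2 B (φ : G → ℂ)
      have h4 : (4 : ℤ) ∣ 2 ^ (j + 1) := by
        have : (2 : ℤ) ^ 2 ∣ 2 ^ (j + 1) := pow_dvd_pow 2 (by omega)
        simpa using this
      have hjd : j + 1 < Cfsg.blockDefect 2 B := by
        have := (Int.le_of_dvd hpos hdvd).trans_lt hlt
        rw [hN] at this
        exact (pow_lt_pow_iff_right₀ (by norm_num : (1 : ℤ) < 2)).1 this
      obtain ⟨c, hc⟩ := h4.trans hdvd
      obtain ⟨c', hc'⟩ : (4 : ℤ) ∣ N := h4.trans (by rw [hN]; exact pow_dvd_pow 2 hjd.le)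
      omega
  have h1 : ∑ φ ∈ S, (a φ + 3) ≤ ∑ _φ ∈ S, N := Finset.sum_le_sum key
  rw [Finset.sum_add_distrib, hsum, Finset.sum_const, Finset.sum_const, nsmul_eq_mul, nsmul_eq_mul]
    at h1
  have hl' : (S.card : ℤ) * N ≤ ((Cfsg.blockRank 2 b : ℤ) + 3) * N :=
    mul_le_mul_of_nonneg_right (by exact_mod_cast hl) (by rw [hN]; positivity)
  exact hcon (by linarith)

end Cfsg.Agent.Blocks.Star
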