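import Cfsg.Agent.Blocks.Star.MajorNorm
import Cfsg.Agent.BlockChar.Cyclic.OrdOrth
import Cfsg.Agent.BlockChar.Defect

/-!
# The contributions of a major subsection
-/

namespace Cfsg.Agent.Blocks.Star

open Cfsg.Agent Cfsg.Agent.Blocks
open scoped ComplexConjugate

universe u

variable {G : Type u} [Group G] [Fintype G] {p : ℕ} {M : Ideal Cfsg.AlgInt}
  {B : Set (Cfsg.IrrCharacter G)}

local notation "CG[" Q "]" => Subgroup.centralizer ((Q : Subgroup G) : Set G)
local notation "sbc" => Cfsg.subgroupBlockCoeff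

theorem sum_sect_eq_contrib {u : G} [Fintype CG[Subgroup.zpowers u]]
    (b : Set (Cfsg.IrrCharacter CG[Subgroup.zpowers u])) (χ ψ : Cfsg.IrrCharacter G) :
    ((p ^ Cfsg.blockDefect p b : ℕ) : ℂ) / (Nat.card CG[Subgroup.zpowers u] : ℂ) *
        (∑ y ∈ regC p u, sect (χ : G → ℂ) u (sbc CG[Subgroup.zpowers u] b) y *
          conj (sect (ψ : G → ℂ) u (sbc CG[Subgroup.zpowers u] b) y)) =
      contrib p u b χ ψ := by
  classical
  rw [contrib_eq_sum_regular (mem_zpowers_centralizer' u)]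
  congr 1
  rw [show regC p u = Finset.univ.filter (fun g : G => ¬ p ∣ orderOf g ∧ u * g = g * u) from
    Finset.ext fun g => by simp [regC], Finset.sum_filter]
  rw [← Finset.sum_subset (Finset.subset_univ
    (Finset.univ.filter fun g => g ∈ CG[Subgroup.zpowers u])) fun g _ hg => by
      rw [if_neg]
      intro hg'
      exact hg (Finset.mem_filter.2 ⟨Finset.mem_univ _, mem_zpowers_centralizer.2 hg'.2⟩),
    Finset.sum_subtype (p := fun g => g ∈ CG[Subgroup.zpowers u]) _ (by simp)]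
  refine Finset.sum_congr rfl fun c _ => ?_
  rw [← sect_eq_blockPart, ← sect_eq_blockPart, ← Subgroup.orderOf_coe]
  by_cases hc : p ∣ orderOf (c : G) <;> simp [hc, mem_zpowers_centralizer.1 c.2]

open scoped Classical in
/-- The divisibility of the contributions of a major subsection. -/
theorem major_pair_omega (hM : Cfsg.IsPModular p M) {u : G}
    (hu : ∃ k, orderOf u = p ^ k) [Fintype CG[Subgroup.zpowers u]]
    {b : Set (Cfsg.IrrCharacter CG[Subgroup.zpowers u])}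
    (hind : Cfsg.IsInducedBlock M CG[Subgroup.zpowers u] b B)
    (hd : Cfsg.blockDefect p b = Cfsg.blockDefect p B) :
    ∃ (m : ℕ) (Ω : Cfsg.IrrCharacter G → Cfsg.IrrCharacter G → ℂ)
      (r : Cfsg.IrrCharacter G → ℕ), ¬ p ∣ m ∧ ∀ χ ∈ B, ¬ p ∣ r χ ∧ ∀ ψ ∈ B,
        IsIntegral ℤ (Ω χ ψ) ∧ (m : ℂ) * contrib p u b χ ψ =
          ((p ^ Cfsg.blockHeight p B (χ : G → ℂ) : ℕ) : ℂ) * ((r χ : ℂ) * Ω χ ψ) ∧
        ∀ χ' ∈ B, Cfsg.MemLocalIdeal M (Ω χ ψ - Ω χ' ψ) := by
  haveI := Fact.mk hM.1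
  have hp := hM.1
  have hB := hind.2.1
  have hH := mem_zpowers_centralizer' (G := G) u
  set e := sbc CG[Subgroup.zpowers u] b with he
  have heB : e ∈ Bk M u := sbc_mem_Bk hind.1
  set C := Nat.card CG[Subgroup.zpowers u] with hC
  have hCne : (C : ℂ) ≠ 0 := Nat.cast_ne_zero.2 Nat.card_pos.ne'
  set W := orbitInd u e with hW
  refine ⟨Nat.card G / p ^ (Nat.card G).factorization p,
    fun χ ψ => omega (χ : G → ℂ) fun g => conj (Phi p M W (ψ : G → ℂ) g),
    fun χ => BlockChar.redDeg p B χ / p ^ Cfsg.blockHeight p B (χ : G → ℂ),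
    Nat.not_dvd_ordCompl hp Nat.card_pos.ne', fun χ hχ => ⟨?_, fun ψ hψ => ?_⟩⟩
  · obtain ⟨-, hv, hb0⟩ := BlockChar.redDeg_mul (B := B) hp hχ
    show ¬ p ∣ BlockChar.redDeg p B χ / p ^ Cfsg.blockHeight p B (χ : G → ℂ)
    rw [← hv]
    exact Nat.not_dvd_ordCompl hp hb0.ne'
  have hΦc : Cfsg.IsClassFunction G fun g => conj (Phi p M W (ψ : G → ℂ) g) := fun g v =>
    congrArg conj (isClassFunction_Phi_of_conj (fun u' v e' => orbitInd_conj u e u' v e')
      (Char.isClassFunction_of_isIrr ψ.2) g v)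
  have hΦi : ∀ g, IsIntegral ℤ (conj (Phi p M W (ψ : G → ℂ) g)) := fun g => by
    refine IsIntegral.map (starRingEnd ℂ).toIntAlgHom (IsIntegral.sum _ fun e' he' => IsIntegral.mul ?_
      (isIntegral_sect hM (orderOf_pPartOf hp g) he' ψ
      (by simp [regC, not_dvd_orderOf_pPrimePartOf hp, (commute_pPartOf_pPrimePartOf g).eq])))
    rw [hW, orbitInd]
    split_ifs
    · exact isIntegral_one
    · exact isIntegral_zero
  refine ⟨isIntegral_omega_of_values χ.2 hΦc hΦi, ?_, fun χ' hχ' =>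
    memLocalIdeal_omega_sub hM χ.2 χ'.2 hΦc (fun g => memLocalRing_of_isIntegral hM (hΦi g))
      (IsPBlock.sameBlock hM hB hχ hχ')⟩
  set S := ∑ y ∈ regC p u, sect (χ : G → ℂ) u e y * conj (sect (ψ : G → ℂ) u e y) with hS
  set t := ((p ^ Cfsg.blockDefect p B : ℕ) : ℂ) / (C : ℂ) * S with ht
  rw [show contrib p u b χ ψ = t by rw [ht, hC, hS, he, ← hd, sum_sect_eq_contrib]]
  let Φbar : G → ℂ := fun g => conj (Phi p M W (ψ : G → ℂ) g)
  set Ω := omega (χ : G → ℂ) Φbar
  -- the inner product with `χ`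
  have hinner : (χ : G → ℂ) 1 * Ω = (Nat.card G : ℂ) / (C : ℂ) * S := by
    have h1 : ∑ g, (χ : G → ℂ) g * Φbar g = (χ : G → ℂ) 1 * Ω := by
      simp only [Ω, omega]
      rw [mul_div_cancel₀ _ (Char.IsIrr.one_ne_zero χ.2)]
      exact Finset.sum_congr rfl fun g _ => mul_comm _ _
    have hone : Phi p M (fun _ _ => 1) (χ : G → ℂ) = (χ : G → ℂ) :=
      funext fun g => Phi_eq_self hM χ g fun _ _ _ => rfl
    have h2 := sum_Phi_mul_conj hM (fun _ _ => 1) W χ ψ
    rw [hone] at h2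
    rw [← h1, h2, Finset.sum_sigma']
    set T := (Finset.univ.filter (fun u : G => ∃ k, orderOf u = p ^ k)).sigma fun u => Bk M u
    let φ : G → (_ : G) × (G → ℂ) := fun g => ⟨g * u * g⁻¹, conjF g e⟩
    have hφT : ∀ g, φ g ∈ T := fun g => by
      refine Finset.mem_sigma.2 ⟨Finset.mem_filter.2 ⟨Finset.mem_univ _, ?_⟩,
        conjF_mem_Bk heB g⟩
      obtain ⟨k, hk⟩ := hu
      exact ⟨k, by
        rw [← hk]
        exact orderOf_injective (MulAut.conj g).toMonoidHom (MulAut.conj g).injective u⟩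
    have hfib : ∀ w ∈ Finset.univ.image φ,
        (Finset.univ.filter fun g => φ g = w).card = C := by
      intro w hw
      obtain ⟨g₀, -, rfl⟩ := Finset.mem_image.1 hw
      rw [hC, Nat.card_eq_fintype_card, ← Finset.card_univ]
      refine Finset.card_bij' (fun g hg => ⟨g₀⁻¹ * g, ?_⟩) (fun c _ => g₀ * (c : G))
        (fun _ _ => Finset.mem_univ _) (fun c _ => ?_) (fun g _ => mul_inv_cancel_left g₀ g)
        (fun c _ => Subtype.ext (inv_mul_cancel_left g₀ (c : G)))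
      · have h := congrArg Sigma.fst (Finset.mem_filter.1 hg).2
        have h' : g * u * g⁻¹ = g₀ * u * g₀⁻¹ := h
        refine mem_zpowers_centralizer.2 ?_
        calc u * (g₀⁻¹ * g) = g₀⁻¹ * (g₀ * u * g₀⁻¹) * g := by group
          _ = g₀⁻¹ * g * u := by rw [← h']; group
      · have hc : (c : G) * u * (c : G)⁻¹ = u := by
          rw [← mem_zpowers_centralizer.1 c.2, mul_inv_cancel_right]
        refine Finset.mem_filter.2 ⟨Finset.mem_univ _, Sigma.ext ?_ (heq_of_eq ?_)⟩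
        · show g₀ * (c : G) * u * (g₀ * (c : G))⁻¹ = g₀ * u * g₀⁻¹
          calc g₀ * (c : G) * u * (g₀ * (c : G))⁻¹ = g₀ * ((c : G) * u * (c : G)⁻¹) * g₀⁻¹ := by
                group
            _ = g₀ * u * g₀⁻¹ := by rw [hc]
        · show conjF (g₀ * (c : G)) e = conjF g₀ e
          rw [← conjF_conjF]
          congr 1
          funext z
          have := isInv_Bk heB _ (CG[Subgroup.zpowers u].inv_mem c.2) z
          simpa [conjF] using this
    have hval : ∀ z ∈ T, (1 : ℂ) * conj (W z.1 z.2) * ∑ y ∈ regC p z.1,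
        sect (χ : G → ℂ) z.1 z.2 y * conj (sect (ψ : G → ℂ) z.1 z.2 y) =
        if z ∈ Finset.univ.image φ then S else 0 := by
      intro z _
      by_cases hz : z ∈ Finset.univ.image φ
      · obtain ⟨g, -, rfl⟩ := Finset.mem_image.1 hz
        rw [if_pos hz, hW, orbitInd, if_pos ⟨g, rfl, rfl⟩, map_one, one_mul, one_mul, hS]
        exact BlockChar.Cyclic.sect_mul_conjF χ ψ u g e
      · rw [if_neg hz, hW, orbitInd, if_neg, map_zero, mul_zero, zero_mul]
        rintro ⟨g, h1, h2⟩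
        exact hz (Finset.mem_image.2 ⟨g, Finset.mem_univ _, Sigma.ext h1.symm (heq_of_eq h2.symm)⟩)
    rw [Finset.sum_congr rfl hval, ← Finset.sum_filter, Finset.sum_const, nsmul_eq_mul]
    congr 1
    rw [eq_div_iff hCne, Finset.filter_mem_eq_inter,
      Finset.inter_eq_right.2 (fun z hz => by
        obtain ⟨g, -, rfl⟩ := Finset.mem_image.1 hz
        exact hφT g), Nat.card_eq_fintype_card, ← Finset.card_univ,
      Finset.card_eq_sum_card_image φ, Finset.sum_congr rfl hfib, Finset.sum_const, smul_eq_mul,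
      Nat.cast_mul]
  obtain ⟨hdeg, hv, hb0⟩ := BlockChar.redDeg_mul (B := B) hp hχ
  set ht' := Cfsg.blockHeight p B (χ : G → ℂ)
  set r := BlockChar.redDeg p B χ
  set b' := r / p ^ ht'
  have hbb : p ^ ht' * b' = r := Nat.mul_div_cancel' (hv ▸ Nat.ordProj_dvd _ _)
  set m := Nat.card G / p ^ (Nat.card G).factorization p
  have hsum : Cfsg.blockDefect p B + BlockChar.minVal p B = (Nat.card G).factorization p := by
    have h1 := (BlockChar.minVal_le (p := p) hχ).trans (BlockChar.degree_val_le χ)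
    rw [BlockChar.blockDefect_eq]
    omega
  have hG : (Nat.card G : ℂ) = (p : ℂ) ^ (Nat.card G).factorization p * (m : ℂ) := by
    exact_mod_cast (Nat.ordProj_mul_ordCompl_eq_self (Nat.card G) p).symm
  have hp0 : (p : ℂ) ≠ 0 := Nat.cast_ne_zero.2 hp.ne_zero
  rw [(CharArith.irr_degree_spec χ).1, hdeg, ← hbb, hG, ← hsum] at hinner
  rw [ht]
  push_cast at hinner ⊢
  refine mul_left_cancel₀ (pow_ne_zero (BlockChar.minVal p B) hp0) ?_
  linear_combination -hinner

/-- The contribution of a major subsection is divisible by the height part of the first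
character, and the quotient is in the ideal exactly when the height of the second is positive. -/
theorem major_pair (hM : Cfsg.IsPModular p M) {x : G} (hx : ∃ k, orderOf x = p ^ k)
    {H : Subgroup G} [Fintype H] (hH : ∀ a : G, a ∈ H ↔ x * a = a * x)
    {b : Set (Cfsg.IrrCharacter H)} (hind : Cfsg.IsInducedBlock M H b B)
    (hd : Cfsg.blockDefect p b = Cfsg.blockDefect p B)
    {χ ψ : Cfsg.IrrCharacter G} (hχ : χ ∈ B) (hψ : ψ ∈ B) :
    ∃ a : ℂ, IsIntegral ℤ a ∧
      contrib p x b χ ψ = ((p ^ Cfsg.blockHeight p B (χ : G → ℂ) : ℕ) : ℂ) * a ∧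
      (Cfsg.MemLocalIdeal M a ↔ Cfsg.blockHeight p B (ψ : G → ℂ) ≠ 0) := by
  obtain rfl : H = CG[Subgroup.zpowers x] :=
    Subgroup.ext fun a => (hH a).trans mem_zpowers_centralizer.symm
  obtain ⟨m, Ω, r, hm, hspec⟩ := major_pair_omega hM hx hind hd
  obtain ⟨hr, hrest⟩ := hspec χ hχ
  obtain ⟨hΩ, heq, hcong⟩ := hrest ψ hψ
  set h := Cfsg.blockHeight p B (χ : G → ℂ)
  have hco : IsCoprime ((p : ℤ) ^ h) (m : ℤ) :=
    (Int.isCoprime_iff_gcd_eq_one.2 (by
      rw [Int.gcd_natCast_natCast]; exact hM.1.coprime_iff_not_dvd.2 hm)).pow_left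
  obtain ⟨y, z, hyz⟩ := hco
  have hq : ((p ^ h : ℕ) : ℂ) ≠ 0 := Nat.cast_ne_zero.2 (pow_ne_zero _ hM.1.ne_zero)
  set t := contrib p x b χ ψ
  set a := t / ((p ^ h : ℕ) : ℂ) with hadef
  have ha : a = (y : ℂ) * t + (z : ℂ) * ((r χ : ℂ) * Ω χ ψ) := by
    have hyz' : (y : ℂ) * ((p ^ h : ℕ) : ℂ) + (z : ℂ) * (m : ℂ) = 1 := by
      push_cast
      exact_mod_cast hyz
    rw [hadef, div_eq_iff hq]
    linear_combination -t * hyz' + (z : ℂ) * heq
  have hai : IsIntegral ℤ a := by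
    rw [ha]
    exact ((isIntegral_intCast _).mul (isIntegral_contrib hH hM hx χ ψ)).add
      ((isIntegral_intCast _).mul ((isIntegral_natCast _).mul hΩ))
  refine ⟨a, hai, (mul_div_cancel₀ t hq).symm, ?_⟩
  have hma : (m : ℂ) * a = (r χ : ℂ) * Ω χ ψ :=
    mul_left_cancel₀ hq (by rw [← heq, hadef]; field_simp)
  obtain ⟨χ₀, hχ₀, h0⟩ := BlockThms.exists_height_zero hM hind.2.1
  obtain ⟨hr₀, hrest₀⟩ := hspec χ₀ hχ₀
  obtain ⟨hΩ₀, heq₀, -⟩ := hrest₀ ψ hψ
  rw [h0, pow_zero, Nat.cast_one, one_mul] at heq₀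
  have hunit : ∀ (n : ℕ) (w : ℂ), ¬ p ∣ n → IsIntegral ℤ w →
      (Cfsg.MemLocalIdeal M ((n : ℂ) * w) ↔ Cfsg.MemLocalIdeal M w) := fun n w hn hw =>
    ⟨fun h => (memLocalIdeal_of_mul hM (memLocalRing_natCast hM n)
        (memLocalRing_of_isIntegral hM hw) h).resolve_left
        fun h' => hn ((memLocalIdeal_natCast_iff hM n).1 h'),
      fun h => memLocalIdeal_mul_left hM (memLocalRing_natCast hM n) h⟩
  rw [← hunit m a hm hai, hma, hunit _ _ hr hΩ]
  have hc := contrib_memLocalIdeal_iff hH hM hx hind hχ₀ hψ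
  rw [← hunit m _ hm (isIntegral_contrib hH hM hx χ₀ ψ), heq₀, hunit _ _ hr₀ hΩ₀] at hc
  refine Iff.trans ⟨fun h => ?_, fun h => ?_⟩ (hc.trans ⟨fun h => h.elim (fun h => absurd h0 h) id,
    Or.inr⟩)
  · simpa using memLocalIdeal_sub hM h (hcong χ₀ hχ₀)
  · simpa using memLocalIdeal_add hM h (hcong χ₀ hχ₀)

end Cfsg.Agent.Blocks.Star
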