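import Cfsg.Agent.Blocks.Star.MajorNorm
import Cfsg.Agent.BrauerPairs.Nilpotent
import Cfsg.Agent.BrauerPairs.Local
import Cfsg.Agent.BrauerPairs.FirstMain
import Cfsg.Agent.BlockChar.PPowerIndex
import Cfsg.Agent.Blocks.CoveringAll
import Cfsg.Agent.FusSys.Abelian

/-!
# A bound for the heights

For a maximal pair `(P, c)` with stabilizer `S` every height `h` satisfies
`p ^ h · |Z(P)| ≤ [S : P C(P)] p ^ d`.
-/

namespace Cfsg.Agent.Blocks.Star

open Cfsg.Agent Cfsg.Agent.Blocks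
open scoped ComplexConjugate

universe u

variable {G : Type u} [Group G] [Fintype G] {p : ℕ} {M : Ideal Cfsg.AlgInt}
  {B : Set (Cfsg.IrrCharacter G)} {P : Subgroup G}
  {c : Set (Cfsg.IrrCharacter (Subgroup.centralizer (P : Set G)))}

local notation "CG[" Q "]" => Subgroup.centralizer ((Q : Subgroup G) : Set G)
local notation "sbc" => Cfsg.subgroupBlockCoeff

/-- A map between central elements extends to an automorphism of `P`. -/
theorem exists_fixing_central (hM : Cfsg.IsPModular p M)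
    (hmax : Cfsg.IsMaximalBrauerPair p M B P c) {x g : G} (hxZ : x ∈ P ⊓ CG[P])
    {b : Set (Cfsg.IrrCharacter CG[Subgroup.zpowers x])}
    (hb : Cfsg.SubpairLE p M (Subgroup.zpowers x) b P c)
    (hgb : Cfsg.SubpairLE p M ((Subgroup.zpowers x).map (MulAut.conj g).toMonoidHom)
      (Cfsg.conjBlock (Subgroup.zpowers x) g b) P c) (hgx : g * x * g⁻¹ ∈ P ⊓ CG[P]) :
    ∃ t : G, BrauerPairs.conjPair t ⟨P, c⟩ = ⟨P, c⟩ ∧ t * x * t⁻¹ = g * x * g⁻¹ := by
  haveI := Fact.mk hM.1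
  obtain ⟨F, hF⟩ := BrauerPairs.exists_isBlockFusionSystemOn hM hmax
  have hsat := BrauerPairs.isSaturated_blockFusion hM hmax hF
  have hle : Subgroup.zpowers x ≤ P := Subgroup.zpowers_le.2 hxZ.1
  have hmor : FusSys.Mor F (Subgroup.zpowers x) fun q => g * q * g⁻¹ :=
    (BrauerPairs.mor_blockFusion hF).2 ⟨hle, g, fun q _ => rfl, b, hb, hgb⟩
  have hcomm : ∀ a ∈ P, ∀ q ∈ Subgroup.zpowers x, a * q = q * a := fun a ha q hq => by
    obtain ⟨k, rfl⟩ := hq
    exact ((show Commute a x from Subgroup.mem_centralizer_iff.1 hxZ.2 a ha).zpow_right k).eq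
  obtain ⟨Q, hQ⟩ := hmor.exists_iso
  have hc : F.IsFullyCentralized Q := by
    refine ⟨hQ.right_le, fun R _ => ?_⟩
    have e : Cfsg.FusionSystem.centralizerIn P Q = P := inf_eq_left.2 fun a ha =>
      Subgroup.mem_centralizer_iff.2 fun y hy => by
        obtain ⟨q, ⟨k, rfl⟩, rfl⟩ := hQ.exists_eq hy
        show g * x ^ k * g⁻¹ * a = a * (g * x ^ k * g⁻¹)
        rw [← conj_zpow]
        exact (((show Commute a (g * x * g⁻¹) from
          Subgroup.mem_centralizer_iff.1 hgx.2 a ha).zpow_right k).eq).symm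
    rw [e]
    exact Subgroup.card_le_of_le inf_le_left
  obtain ⟨f, hf, hfv⟩ := (FusSys.isReceptive_iff.1
    (FusSys.receptive_of_fullyCentralized hmax.1.1.1 hsat hc)).2 _ _ hQ
  have hnphi : P ≤ FusSys.nPhi P (Subgroup.zpowers x) fun q => g * q * g⁻¹ := by
    intro a ha
    refine ⟨ha, Subgroup.centralizer_le_normalizer _ (Subgroup.mem_centralizer_iff.2
      fun q hq => (hcomm a ha q hq).symm), 1, P.one_mem, fun q hq => ?_⟩
    rw [hcomm a ha q hq, mul_inv_cancel_right, one_mul, inv_one, mul_one]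
  have hf' := hf.mono hnphi
  obtain ⟨I, hI⟩ := hf'.exists_iso
  have hIP : I = P := Subgroup.eq_of_le_of_card_ge hI.right_le hI.card_eq.le
  rw [hIP] at hI
  obtain ⟨α, hα, hαv⟩ := hI.exists_mem_autGroup
  obtain ⟨t, ht, htv⟩ :=
    BrauerPairs.exists_fixing_of_autGroup hM hF le_rfl Relation.ReflTransGen.refl hα
  exact ⟨t, ht, ((htv x hxZ.1).symm.trans (hαv x hxZ.1)).trans (hfv x (Subgroup.mem_zpowers x))⟩

/-- Central subsections have the defect of the block. -/
theorem blockDefect_eq_of_central [Fact p.Prime] (hM : Cfsg.IsPModular p M)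
    (hmax : Cfsg.IsMaximalBrauerPair p M B P c) {x : G} (hxZ : x ∈ P ⊓ CG[P])
    {b : Set (Cfsg.IrrCharacter CG[Subgroup.zpowers x])}
    (hb : Cfsg.SubpairLE p M (Subgroup.zpowers x) b P c) :
    Cfsg.blockDefect p b = Cfsg.blockDefect p B := by
  classical
  have hpair := (BrauerPairs.isBrauerPairOf_iff_of_subpairLE hM hb B).1 hmax.1
  refine le_antisymm ?_ (blockDefect_le_of_central hM hmax hxZ.1
    (fun z hz => (Subgroup.mem_centralizer_iff.1 hxZ.2 z hz).symm) hb)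
  obtain ⟨D, hD⟩ := DefectThms.exists_defectGroup hM hpair.1.2
  obtain ⟨v, -, hv⟩ := BrauerPairs.exists_conj_defect_le hM hmax hb hpair.1 le_rfl
    (Subgroup.centralizer_le_normalizer _) (fun t => (BrauerPairs.sbc_apply b t).symm) hD
  refine (Nat.pow_le_pow_iff_right hM.1.one_lt).1 ?_
  rw [← BlockChar.card_defectGroup hM hpair.1.2 hD,
    ← BlockChar.card_defectGroup hM hmax.1.2.1 (BrauerPairs.isDefectGroup_of_maximal hM hmax)]
  calc Nat.card D = Nat.card (D.map (Subgroup.subtype _)) :=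
        Nat.card_congr (D.equivMapOfInjective _ (Subgroup.subtype_injective _)).toEquiv
    _ = Nat.card ((D.map (Subgroup.subtype _)).map (MulAut.conj v).toMonoidHom) :=
        (DefectThms.card_map_conj _ v).symm
    _ ≤ Nat.card P := Subgroup.card_le_of_le hv

open scoped Classical in
/-- The squared norm of a conjugate of a section. -/
noncomputable def sigmaNorm (p : ℕ) (σ : ℂ →+* ℂ) (χ : G → ℂ) (w : (_ : G) × (G → ℂ)) : ℝ :=
  ∑ y ∈ regC p w.1, Complex.normSq (σ (sect χ w.1 w.2 y))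

theorem sigmaNorm_nonneg (σ : ℂ →+* ℂ) (χ : G → ℂ) (w : (_ : G) × (G → ℂ)) :
    0 ≤ sigmaNorm p σ χ w :=
  Finset.sum_nonneg fun _ _ => Complex.normSq_nonneg _

theorem map_sectNorm {u : G} {e : G → ℂ} (he : e ∈ Bk M u) (χ : Cfsg.IrrCharacter G) (σ : ℂ →+* ℂ) :
    σ (sectNorm p (χ : G → ℂ) u e) = (sigmaNorm p σ (χ : G → ℂ) ⟨u, e⟩ : ℂ) := by
  rw [sectNorm, map_sum, sigmaNorm, Complex.ofReal_sum]
  refine Finset.sum_congr rfl fun y _ => ?_
  rw [map_mul, isCM_sect he χ y σ, Complex.mul_conj]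

open scoped Classical in
theorem sum_sigmaNorm (hM : Cfsg.IsPModular p M) (χ : Cfsg.IrrCharacter G) (σ : ℂ →+* ℂ) :
    ∑ w ∈ (Finset.univ.filter (fun u : G => ∃ k, orderOf u = p ^ k)).sigma fun u => Bk M u,
      sigmaNorm p σ (χ : G → ℂ) w = (Nat.card G : ℝ) := by
  have h := sum_Phi_mul_conj hM (fun _ _ => 1) (fun _ _ => 1) χ χ
  have hone : Phi p M (fun _ _ => 1) (χ : G → ℂ) = (χ : G → ℂ) :=
    funext fun g => Phi_eq_self hM χ g fun _ _ _ => rfl
  rw [hone] at h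
  simp only [map_one, one_mul] at h
  have h1 := Char.classInner_irr_self χ.2
  rw [Cfsg.classInner, inv_mul_eq_iff_eq_mul₀ (Nat.cast_ne_zero.2 Nat.card_pos.ne'), mul_one] at h1
  rw [h1, Finset.sum_sigma'] at h
  have h2 := congrArg σ h
  rw [map_natCast, map_sum] at h2
  rw [← Complex.ofReal_inj, Complex.ofReal_sum, Complex.ofReal_natCast, h2]
  exact Finset.sum_congr rfl fun w hw => (map_sectNorm (Finset.mem_sigma.1 hw).2 χ σ).symm

/-- A weighted sum over a map with bounded fibres. -/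
theorem sum_div_le_of_fibres {ι κ : Type*} [Fintype ι] [DecidableEq κ] (f : ι → κ) (t : Finset κ)
    (hf : ∀ i, f i ∈ t) (c : ι → ℝ) (hc : ∀ i, 0 < c i) (hcf : ∀ i j, f i = f j → c i = c j)
    (hcard : ∀ i, ((Finset.univ.filter fun j => f j = f i).card : ℝ) ≤ c i)
    (w : κ → ℝ) (hw : ∀ k, 0 ≤ w k) : ∑ i, w (f i) / c i ≤ ∑ k ∈ t, w k := by
  rw [← Finset.sum_fiberwise_of_maps_to (g := f) (t := t) fun i _ => hf i]
  refine Finset.sum_le_sum fun k _ => ?_
  by_cases hk : ∃ i, f i = k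
  · obtain ⟨i, rfl⟩ := hk
    rw [Finset.sum_congr rfl (g := fun _ => w (f i) / c i) fun j hj => by
      rw [(Finset.mem_filter.1 hj).2, hcf j i (Finset.mem_filter.1 hj).2], Finset.sum_const,
      nsmul_eq_mul, mul_div_assoc', div_le_iff₀ (hc i), mul_comm]
    exact mul_le_mul_of_nonneg_left (hcard i) (hw _)
  · rw [Finset.filter_false_of_mem fun i _ h => hk ⟨i, h⟩, Finset.sum_empty]
    exact hw k

open scoped Classical in
/-- The bound. -/
theorem height_bound (hM : Cfsg.IsPModular p M) (hmax : Cfsg.IsMaximalBrauerPair p M B P c)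
    (S H : Subgroup G) (hS : ∀ g : G, g ∈ S ↔ BrauerPairs.conjPair g ⟨P, c⟩ = ⟨P, c⟩)
    (hHS : H ≤ S) (hHZ : ∀ h ∈ H, ∀ x ∈ P ⊓ CG[P], h * x = x * h)
    {χ : Cfsg.IrrCharacter G} (hχ : χ ∈ B) :
    p ^ Cfsg.blockHeight p B (χ : G → ℂ) * Nat.card (P ⊓ CG[P] : Subgroup G) ≤
      H.relIndex S * p ^ Cfsg.blockDefect p B := by
  haveI := Fact.mk hM.1
  have hp := hM.1
  set Z := P ⊓ CG[P] with hZ
  choose bx hbx using fun x : Z => (BrauerPairs.existsUnique_subpairLE hM hmax.1.1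
    (Subgroup.zpowers_le.2 (x.2 : (x : G) ∈ P ⊓ CG[P]).1)).exists
  have hu : ∀ x : Z, ∃ k, orderOf (x : G) = p ^ k := fun x => by
    obtain ⟨k, hk⟩ := IsPGroup.iff_orderOf.1 hmax.1.1.1 ⟨x, (x.2 : (x : G) ∈ P ⊓ CG[P]).1⟩
    exact ⟨k, by rw [show (x : G) = ((⟨x, (x.2 : (x : G) ∈ P ⊓ CG[P]).1⟩ : P) : G) from rfl,
      Subgroup.orderOf_coe, hk]⟩
  have hpair : ∀ x : Z, Cfsg.IsBrauerPairOf p M B (Subgroup.zpowers (x : G)) (bx x) := fun x =>
    (BrauerPairs.isBrauerPairOf_iff_of_subpairLE hM (hbx x) B).1 hmax.1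
  choose a haint hanorm hapos using fun x : Z => major_norm_spec hM hχ (hu x) (hpair x)
    (blockDefect_eq_of_central hM hmax x.2 (hbx x))
  let ex : Z → G → ℂ := fun x => sbc CG[Subgroup.zpowers (x : G)] (bx x)
  let T := (Finset.univ.filter (fun u : G => ∃ k, orderOf u = p ^ k)).sigma fun u => Bk M u
  let φ : G × Z → (_ : G) × (G → ℂ) := fun z =>
    ⟨z.1 * (z.2 : G) * z.1⁻¹, conjF z.1 (ex z.2)⟩
  have hφT : ∀ z, φ z ∈ T := fun z => by
    refine Finset.mem_sigma.2 ⟨Finset.mem_filter.2 ⟨Finset.mem_univ _, ?_⟩,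
      conjF_mem_Bk (sbc_mem_Bk (hpair z.2).1.2) z.1⟩
    obtain ⟨k, hk⟩ := hu z.2
    exact ⟨k, by
      rw [← hk]
      exact orderOf_injective (MulAut.conj z.1).toMonoidHom (MulAut.conj z.1).injective (z.2 : G)⟩
  generalize he : H.relIndex S = e
  -- the fibres
  have hfib : ∀ z₀ : G × Z, (Finset.univ.filter fun z => φ z = φ z₀).card ≤
      Nat.card CG[Subgroup.zpowers (z₀.2 : G)] * e := by
    rintro ⟨g, x⟩
    have key : ∀ z ∈ Finset.univ.filter (fun z => φ z = φ (g, x)),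
        ∃ w : CG[Subgroup.zpowers (x : G)] × (S ⧸ H.subgroupOf S),
          z.1 = g * (w.1 : G) * ((w.2.out : S) : G)⁻¹ := by
      rintro ⟨g', x'⟩ hz
      obtain ⟨h1, h2⟩ := Sigma.mk.inj_iff.1 (Finset.mem_filter.1 hz).2
      have h2' : conjF g' (ex x') = conjF g (ex x) := eq_of_heq h2
      have h1' : g' * (x' : G) * g'⁻¹ = g * (x : G) * g⁻¹ := h1
      have e1 : g'⁻¹ * g * (x : G) * (g'⁻¹ * g)⁻¹ = x' := by
        calc g'⁻¹ * g * (x : G) * (g'⁻¹ * g)⁻¹ = g'⁻¹ * (g * (x : G) * g⁻¹) * g' := by group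
          _ = x' := by rw [← h1']; group
      have e2 : conjF (g'⁻¹ * g) (ex x) = ex x' := by
        rw [← conjF_conjF, ← h2', conjF_conjF, inv_mul_cancel, conjF_one]
      have hbel : Below p M P c (g'⁻¹ * g * (x : G) * (g'⁻¹ * g)⁻¹) (conjF (g'⁻¹ * g) (ex x)) := by
        rw [e1, e2]
        exact ⟨bx x', hbx x', rfl⟩
      obtain ⟨t, ht, htx⟩ := exists_fixing_central hM hmax x.2 (hbx x)
        ((below_conj_iff (bx x)).1 hbel) (by rw [e1]; exact x'.2)
      have htS : t ∈ S := (hS t).2 ht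
      set q : S ⧸ H.subgroupOf S := QuotientGroup.mk ⟨t, htS⟩ with hq
      have hqH : (q.out : G)⁻¹ * t ∈ H := by
        have := QuotientGroup.eq.1 (q.out_eq.trans hq)
        exact Subgroup.mem_subgroupOf.1 this
      set h := (q.out : G)⁻¹ * t
      refine ⟨(⟨g⁻¹ * g' * (q.out : G), mem_zpowers_centralizer.2 ?_⟩, q), ?_⟩
      · have hr : (q.out : G) = t * h⁻¹ := by
          simp only [h]
          group
        have hx' : (x' : G) = t * x * t⁻¹ := by rw [htx, e1]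
        have hh : h⁻¹ * x = x * h⁻¹ := hHZ _ (H.inv_mem hqH) x x.2
        calc (x : G) * (g⁻¹ * g' * (q.out : G))
            = g⁻¹ * (g * (x : G) * g⁻¹) * g' * (q.out : G) := by group
          _ = g⁻¹ * g' * ((x' : G) * (t * h⁻¹)) := by rw [← h1', hr]; group
          _ = g⁻¹ * g' * (t * (x * h⁻¹)) := by rw [hx']; group
          _ = g⁻¹ * g' * (q.out : G) * x := by rw [← hh, hr]; group
      · show g' = g * (g⁻¹ * g' * (q.out : G)) * ((q.out : S) : G)⁻¹
        group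
    choose w hw using key
    calc (Finset.univ.filter fun z => φ z = φ (g, x)).card
        ≤ (Finset.univ : Finset (CG[Subgroup.zpowers (x : G)] × (S ⧸ H.subgroupOf S))).card := by
          refine Finset.card_le_card_of_injOn (fun z => if hz : z ∈ Finset.univ.filter
            (fun z => φ z = φ (g, x)) then w z hz else (1, QuotientGroup.mk 1))
            (fun _ _ => Finset.mem_univ _) fun z hz z' hz' hww => ?_
          simp only [Finset.mem_coe] at hz hz'
          simp only [dif_pos hz, dif_pos hz'] at hww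
          have e1 : z.1 = z'.1 := by rw [hw z hz, hw z' hz', hww]
          refine Prod.ext e1 (Subtype.ext ?_)
          have h3 := (Sigma.mk.inj_iff.1
            ((Finset.mem_filter.1 hz).2.trans (Finset.mem_filter.1 hz').2.symm)).1
          rw [e1] at h3
          exact mul_left_cancel (mul_right_cancel h3)
      _ = Nat.card CG[Subgroup.zpowers (x : G)] * e := by
          rw [Finset.card_univ, Fintype.card_prod, ← Nat.card_eq_fintype_card,
            ← Nat.card_eq_fintype_card, ← he, Subgroup.relIndex, Subgroup.index_eq_card]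
  -- the bound for the conjugates
  set d := Cfsg.blockDefect p B
  set ht := Cfsg.blockHeight p B (χ : G → ℂ)
  have hph : (0 : ℝ) < ((p ^ ht : ℕ) : ℝ) := Nat.cast_pos.2 (pow_pos hp.pos _)
  have hepos : (0 : ℝ) < (e : ℝ) := Nat.cast_pos.2 (Nat.pos_of_ne_zero (by
    rw [← he, Subgroup.relIndex]; exact Subgroup.index_ne_zero_of_finite))
  have hGpos : (0 : ℝ) < (Nat.card G : ℝ) := Nat.cast_pos.2 Nat.card_pos
  have hbound : ∀ (σ : ℂ →+* ℂ) (r : Z → ℝ), (∀ x, σ (a x) = (r x : ℂ)) →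
      ((p ^ ht : ℕ) : ℝ) * ∑ x, r x ≤ (e : ℝ) * ((p ^ d : ℕ) : ℝ) := by
    intro σ r hr
    let N : (_ : G) × (G → ℂ) → ℝ := sigmaNorm p σ (χ : G → ℂ)
    let cn : G → ℝ := fun u => (Nat.card CG[Subgroup.zpowers u] : ℝ)
    have hx : ∀ x : Z, ((p ^ d : ℕ) : ℝ) / cn (x : G) * N ⟨(x : G), ex x⟩ =
        ((p ^ ht : ℕ) : ℝ) * r x := fun x => by
      have h := congrArg σ (hanorm x)
      rw [map_mul, map_div₀, map_natCast, map_natCast, map_mul, map_natCast, hr x,
        map_sectNorm (sbc_mem_Bk (hpair x).1.2) χ σ] at h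
      apply Complex.ofReal_injective
      rw [Complex.ofReal_mul, Complex.ofReal_div, Complex.ofReal_natCast, Complex.ofReal_natCast,
        Complex.ofReal_mul, Complex.ofReal_natCast]
      exact h
    have hconj : ∀ z : G × Z, N (φ z) = N ⟨(z.2 : G), ex z.2⟩ := fun z => by
      apply Complex.ofReal_injective
      show (sigmaNorm p σ (χ : G → ℂ) ⟨z.1 * (z.2 : G) * z.1⁻¹, conjF z.1 (ex z.2)⟩ : ℂ) = _
      rw [← map_sectNorm (conjF_mem_Bk (sbc_mem_Bk (hpair z.2).1.2) z.1) χ σ,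
        sectNorm_conjF (Char.isClassFunction_of_isIrr χ.2),
        map_sectNorm (sbc_mem_Bk (hpair z.2).1.2) χ σ]
    have hlow : ∑ z : G × Z, N (φ z) / (cn (z.2 : G) * (e : ℝ)) ≤ ∑ w ∈ T, N w := by
      refine sum_div_le_of_fibres φ T hφT _ (fun z => mul_pos (Nat.cast_pos.2 Nat.card_pos) hepos)
        (fun i j hij => ?_) (fun z => ?_) N (sigmaNorm_nonneg σ _)
      · show (Nat.card CG[Subgroup.zpowers (i.2 : G)] : ℝ) * _ =
          (Nat.card CG[Subgroup.zpowers (j.2 : G)] : ℝ) * _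
        rw [← card_zpowers_centralizer_conj (i.2 : G) i.1,
          ← card_zpowers_centralizer_conj (j.2 : G) j.1,
          show i.1 * (i.2 : G) * i.1⁻¹ = j.1 * (j.2 : G) * j.1⁻¹ from (Sigma.mk.inj_iff.1 hij).1]
      · show _ ≤ (Nat.card CG[Subgroup.zpowers (z.2 : G)] : ℝ) * _
        exact_mod_cast hfib z
    rw [show ∑ w ∈ T, N w = (Nat.card G : ℝ) from sum_sigmaNorm hM χ σ,
      Finset.sum_congr rfl (g := fun z : G × Z => N ⟨(z.2 : G), ex z.2⟩ / (cn (z.2 : G) * (e : ℝ)))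
        fun z _ => by rw [hconj z],
      Fintype.sum_prod_type] at hlow
    simp only [Finset.sum_const, Finset.card_univ, nsmul_eq_mul, ← Nat.card_eq_fintype_card] at hlow
    have hlow' : ∑ x : Z, N ⟨(x : G), ex x⟩ / (cn (x : G) * (e : ℝ)) ≤ 1 :=
      le_of_mul_le_mul_left (hlow.trans_eq (mul_one _).symm) hGpos
    calc ((p ^ ht : ℕ) : ℝ) * ∑ x, r x
        = (e : ℝ) * ((p ^ d : ℕ) : ℝ) * ∑ x : Z, N ⟨(x : G), ex x⟩ / (cn (x : G) * (e : ℝ)) := by
          rw [Finset.mul_sum, Finset.mul_sum]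
          refine Finset.sum_congr rfl fun x _ => ?_
          rw [← hx x]
          field_simp
      _ ≤ (e : ℝ) * ((p ^ d : ℕ) : ℝ) := mul_le_of_le_one_right (by positivity) hlow'
  -- arithmetic
  by_contra hcon
  have hlt : (e : ℝ) * ((p ^ d : ℕ) : ℝ) < ((p ^ ht : ℕ) : ℝ) * (Fintype.card Z : ℝ) := by
    rw [← Nat.card_eq_fintype_card]
    exact_mod_cast Nat.lt_of_not_le hcon
  have key : ∀ σ : ℂ →+* ℂ, ∃ r : Z → ℝ, (∀ x, σ (a x) = (r x : ℂ)) ∧ (∀ x, 0 < r x) ∧
      ∏ x, r x < 1 := by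
    intro σ
    choose r h1 h2 using fun x => hapos x σ
    refine ⟨r, h2, h1, ?_⟩
    have hb := hbound σ r h2
    have hsum : ∑ x, r x < (Fintype.card Z : ℝ) :=
      lt_of_mul_lt_mul_left (hb.trans_lt hlt) hph.le
    rw [← Real.log_neg_iff (Finset.prod_pos fun x _ => h1 x), Real.log_prod fun x _ => (h1 x).ne']
    refine lt_of_le_of_lt (Finset.sum_le_sum fun x _ => Real.log_le_sub_one_of_pos (h1 x)) ?_
    rw [Finset.sum_sub_distrib, Finset.sum_const, Finset.card_univ, nsmul_eq_mul, mul_one]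
    linarith
  have hconjle : ∀ σ : ℂ →+* ℂ, ‖σ (∏ x, a x)‖ < 1 := fun σ => by
    obtain ⟨r, hr, hrp, hlt1⟩ := key σ
    rw [map_prod, Finset.prod_congr rfl fun x _ => hr x, ← Complex.ofReal_prod, Complex.norm_real,
      Real.norm_of_nonneg (Finset.prod_nonneg fun x _ => (hrp x).le)]
    exact hlt1
  have hne : ∏ x, a x ≠ 0 := Finset.prod_ne_zero_iff.2 fun x _ => by
    obtain ⟨r, hr, he'⟩ := hapos x (RingHom.id ℂ)
    rw [RingHom.id_apply] at he'
    rw [he']
    exact Complex.ofReal_ne_zero.2 hr.ne'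
  have h1 := norm_eq_one_of_conjugates_le (IsIntegral.prod _ fun x _ => haint x) hne
    fun σ => (hconjle σ).le
  exact (hconjle (RingHom.id ℂ)).ne h1

end Cfsg.Agent.Blocks.Star
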