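import Cfsg.Agent.Blocks.Star.Nilpotent
import Cfsg.Agent.BrauerPairs.AbelianDefect

/-!
# The trace of a twist on a block with abelian defect group

For a linear character `l` of the abelian defect group `P`, invariant under the stabilizer `T` of
the maximal pair, the sum of `l x · l(b_x)` over the `T`-classes of `x ∈ P` is `k(B)` when `l` is
trivial and zero otherwise.
-/

namespace Cfsg.Agent.Blocks.Star

open Cfsg.Agent Cfsg.Agent.Blocks
open scoped ComplexConjugate

universe u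

variable {G : Type u} [Group G] [Fintype G] {p : ℕ} {M : Ideal Cfsg.AlgInt}
  {B : Set (Cfsg.IrrCharacter G)} {P : Subgroup G}
  {e₀ : Set (Cfsg.IrrCharacter (Subgroup.centralizer (P : Set G)))}

local notation "CG[" Q "]" => Subgroup.centralizer ((Q : Subgroup G) : Set G)
local notation "sbc" => Cfsg.subgroupBlockCoeff

theorem sectNorm_eq_contrib {u : G} [Fintype CG[Subgroup.zpowers u]]
    (b : Set (Cfsg.IrrCharacter CG[Subgroup.zpowers u])) (χ : Cfsg.IrrCharacter G) :
    ((p ^ Cfsg.blockDefect p b : ℕ) : ℂ) / (Nat.card CG[Subgroup.zpowers u] : ℂ) *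
        sectNorm p (χ : G → ℂ) u (sbc CG[Subgroup.zpowers u] b) =
      contrib p u b χ χ := by
  classical
  rw [contrib_eq_sum_regular (mem_zpowers_centralizer' u), sectNorm]
  congr 1
  rw [show regC p u = Finset.univ.filter (fun g : G => ¬ p ∣ orderOf g ∧ u * g = g * u) from
    Finset.ext fun g => by simp [regC], Finset.sum_filter]
  rw [← Finset.sum_subset (Finset.subset_univ
    (Finset.univ.filter fun g => g ∈ CG[Subgroup.zpowers u])) fun g _ hg => by
      rw [if_neg]
      intro hg'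
      exact hg (Finset.mem_filter.2 ⟨Finset.mem_univ _, mem_zpowers_centralizer.2 hg'.2⟩),
    Finset.sum_subtype (p := fun g => g ∈ CG[Subgroup.zpowers u]) _ (by simp)]
  refine Finset.sum_congr rfl fun c _ => ?_
  rw [← sect_eq_blockPart, ← Subgroup.orderOf_coe]
  by_cases hc : p ∣ orderOf (c : G) <;> simp [hc, mem_zpowers_centralizer.1 c.2]

open scoped Classical in
/-- The norms of the sections of a subsection of the block add up to `|C(u)| l(b)`. -/
theorem sum_sectNorm (hM : Cfsg.IsPModular p M) {u : G}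
    {b : Set (Cfsg.IrrCharacter CG[Subgroup.zpowers u])} (hu : ∃ k, orderOf u = p ^ k)
    (hpair : Cfsg.IsBrauerPairOf p M B (Subgroup.zpowers u) b) :
    ∑ χ ∈ B.toFinite.toFinset, sectNorm p (χ : G → ℂ) u (sbc CG[Subgroup.zpowers u] b) =
      (Nat.card CG[Subgroup.zpowers u] : ℂ) * (Cfsg.blockRank p b : ℂ) := by
  letI := Fintype.ofFinite CG[Subgroup.zpowers u]
  have h := sum_contrib_self (x := u) (mem_zpowers_centralizer' u) hM hu
    ((mem_inducing_iff_pair hM hpair.1.1 hpair.2.1 hpair.1.2).2 hpair)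
  rw [finsum_mem_eq_finite_toFinset_sum _ B.toFinite] at h
  simp only [← sectNorm_eq_contrib, ← Finset.mul_sum] at h
  have hd : ((p ^ Cfsg.blockDefect p b : ℕ) : ℂ) ≠ 0 :=
    Nat.cast_ne_zero.2 (pow_ne_zero _ hM.1.ne_zero)
  have hc : (Nat.card CG[Subgroup.zpowers u] : ℂ) ≠ 0 := Nat.cast_ne_zero.2 Nat.card_pos.ne'
  field_simp at h
  linear_combination h

open scoped Classical in
/-- The trace formula. -/
theorem abelian_trace_formula (hM : Cfsg.IsPModular p M)
    (hmax : Cfsg.IsMaximalBrauerPair p M B P e₀) (hab : ∀ x ∈ P, ∀ y ∈ P, x * y = y * x)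
    (T : Subgroup G)
    (hT : ∀ g : G, g ∈ T ↔ BrauerPairs.conjPair g ⟨P, e₀⟩ = ⟨P, e₀⟩) (l : P →* ℂˣ)
    (hl : ∀ t ∈ T, ∀ x y : P, (y : G) = t * x * t⁻¹ → l y = l x)
    (bx : ∀ x : P, Set (Cfsg.IrrCharacter CG[Subgroup.zpowers (x : G)]))
    (hbx : ∀ x : P, Cfsg.SubpairLE p M (Subgroup.zpowers (x : G)) (bx x) P e₀) :
    ∑ x : P, (Nat.card (T ⊓ CG[Subgroup.zpowers (x : G)] : Subgroup G) : ℂ) * (l x : ℂ) *
        (Cfsg.blockRank p (bx x) : ℂ) =
      if l = 1 then (Nat.card T : ℂ) * (Nat.card B : ℂ) else 0 := by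
  haveI := Fact.mk hM.1
  have hp := hM.1
  have hB := hmax.1.2.1
  set f : G → ℂ := fun g => if h : g ∈ P then (l ⟨g, h⟩ : ℂ) else 0 with hf
  have hfP : ∀ x : P, f x = (l x : ℂ) := fun x => by rw [hf]; exact dif_pos x.2
  have hgen : Cfsg.IsGeneralizedCharacter P (fun x : P => f x) := by
    simp only [hfP]
    exact Char.isGeneralized_of_isCharacter (Char.isCharacter_hom l)
  have hctrl : ∀ u g e, Below p M P e₀ u e → Below p M P e₀ (g * u * g⁻¹) (conjF g e) →
      ∃ t ∈ T, g * u * g⁻¹ = t * u * t⁻¹ := by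
    rintro u g _ ⟨b, hb, rfl⟩ hgu
    obtain ⟨y, hy, hyv⟩ := BrauerPairs.exists_fixing_extend hM hmax hab hb ((below_conj_iff b).1 hgu)
    exact ⟨y, (hT y).2 hy, (hyv u (Subgroup.mem_zpowers u)).symm⟩
  have hpres : ∀ t ∈ T, ∀ u e, Below p M P e₀ u e → Below p M P e₀ (t * u * t⁻¹) (conjF t e) := by
    rintro t ht u _ ⟨b, hb, rfl⟩
    have h1 := BrauerPairs.le_conjPair hM (a := ⟨Subgroup.zpowers u, b⟩) (b := ⟨P, e₀⟩) hb t
    rw [(hT t).1 ht] at h1
    exact (below_conj_iff b).2 h1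
  have hst : IsStable p M P e₀ f := by
    intro u g e hu hgu
    obtain ⟨t, ht, hte⟩ := hctrl u g e hu hgu
    exact ((hfP ⟨_, hgu.mem⟩).trans (by rw [hl t ht ⟨u, hu.mem⟩ ⟨_, hgu.mem⟩ hte])).trans
      (hfP ⟨u, hu.mem⟩).symm
  have hW : IsWeight p M (fWeight p M P e₀ f) := isWeight_fWeight hM hmax hgen hst
  set W := fWeight p M P e₀ f with hWdef
  -- values of the weight on the pairs of the block
  have hval : ∀ u, ∀ b, Cfsg.IsBrauerPairOf p M B (Subgroup.zpowers u) b →
      ∃ y : P, W u (sbc CG[Subgroup.zpowers u] b) = (l y : ℂ) ∧ (u = 1 → y = 1) := by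
    intro u b hb
    obtain ⟨g, hg⟩ := (exists_below_iff hM hmax b).2 hb
    exact ⟨⟨_, hg.mem⟩, by rw [hWdef, fWeight_eq hst hg, ← hfP],
      fun hu => Subtype.ext (by simp [hu])⟩
  have hsect : ∀ χ ∈ B, ∀ u, (∃ k, orderOf u = p ^ k) → ∀ e ∈ Bk M u, ∀ y ∈ regC p u,
      sect ((χ : Cfsg.IrrCharacter G) : G → ℂ) u e y ≠ 0 →
        ∃ b, sbc CG[Subgroup.zpowers u] b = e ∧
          Cfsg.IsBrauerPairOf p M B (Subgroup.zpowers u) b := fun χ hχ u hu e he y hy h => by
    obtain ⟨b, hb, rfl⟩ := mem_Bk.1 he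
    exact ⟨b, rfl, pair_of_sect_ne_zero hM hB hχ hu hb hy h⟩
  -- the twist of one character
  have hinner : ∀ χ ∈ B, Cfsg.classInner (Phi p M W (χ : G → ℂ)) (χ : G → ℂ) =
      if l = 1 then 1 else 0 := by
    intro χ hχ
    split_ifs with h1
    · have hself : Phi p M W (χ : G → ℂ) = (χ : G → ℂ) := funext fun g =>
        Phi_eq_self hM χ g fun e he h => by
          obtain ⟨b, rfl, hb⟩ := hsect χ hχ _ (orderOf_pPartOf hp g) e he _
            (by simp [regC, not_dvd_orderOf_pPrimePartOf hp,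
              (commute_pPartOf_pPrimePartOf g).eq]) h
          obtain ⟨y, hy, -⟩ := hval _ b hb
          rw [hy, h1]
          simp
      rw [hself, Char.classInner_irr_self χ.2]
    · obtain ⟨θ, hθ, -, -⟩ := exists_star hM hW χ
        (fun e he y hyr h => by
          obtain ⟨b, rfl, hb⟩ := hsect χ hχ 1 ⟨0, by simp⟩ e he y (by simp [regC, hyr]) h
          obtain ⟨z, hz, hz1⟩ := hval _ b hb
          rw [hz, hz1 rfl]
          simp)
        (fun u hu e he y hy h => by
          obtain ⟨b, rfl, hb⟩ := hsect χ hχ u hu e he y hy h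
          obtain ⟨z, hz, -⟩ := hval _ b hb
          have hroot : ‖(l z : ℂ)‖ = 1 :=
            Complex.norm_eq_one_of_pow_eq_one (n := Nat.card P) (by
              rw [← Units.val_pow_eq_pow_val, ← map_pow, pow_card_eq_one']
              simp) Nat.card_pos.ne'
          rw [hz, Complex.mul_conj, Complex.normSq_eq_norm_sq, hroot]
          simp)
      rw [← hθ, Char.classInner_irrChar, if_neg]
      intro hfix
      refine h1 (MonoidHom.ext fun x => ?_)
      subst hfix
      have hu : ∃ k, orderOf (x : G) = p ^ k := by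
        obtain ⟨k, hk⟩ := IsPGroup.iff_orderOf.1 hmax.1.1.1 x
        exact ⟨k, by rw [Subgroup.orderOf_coe, hk]⟩
      have hpair := (BrauerPairs.isBrauerPairOf_iff_of_subpairLE hM (hbx x) B).1 hmax.1
      have h1y : (1 : G) ∈ regC p (x : G) := by simp [regC, hp.ne_one]
      have hne := sect_one_ne_zero hM hχ hu hpair
        (blockDefect_le_of_central hM hmax x.2 (fun z hz => hab x x.2 z hz) (hbx x))
      have h2 := sect_star hM hθ hu (sbc_mem_Bk hpair.1.2) h1y
      rw [hWdef, fWeight_of_below hst ⟨bx x, hbx x, rfl⟩, hfP] at h2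
      exact Units.ext (mul_right_cancel₀ hne (h2.symm.trans (one_mul _).symm))
  -- summing over the block
  let F : G → (G → ℂ) → ℂ := fun u e =>
    W u e * ∑ χ ∈ B.toFinite.toFinset, sectNorm p ((χ : Cfsg.IrrCharacter G) : G → ℂ) u e
  have hGne : (Nat.card G : ℂ) ≠ 0 := Nat.cast_ne_zero.2 Nat.card_pos.ne'
  have hsum : ∑ u ∈ Finset.univ.filter (fun u : G => ∃ k, orderOf u = p ^ k),
      ∑ e ∈ Bk M u, F u e = (Nat.card G : ℂ) *
        ∑ χ ∈ B.toFinite.toFinset, Cfsg.classInner (Phi p M W (χ : G → ℂ)) (χ : G → ℂ) := by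
    have hone : ∀ χ : Cfsg.IrrCharacter G, Phi p M (fun _ _ => 1) (χ : G → ℂ) = (χ : G → ℂ) :=
      fun χ => funext fun g => Phi_eq_self hM χ g fun _ _ _ => rfl
    simp only [F, Cfsg.classInner, Finset.mul_sum, mul_inv_cancel_left₀ hGne]
    rw [Finset.sum_congr rfl fun u _ => Finset.sum_comm, Finset.sum_comm]
    refine Finset.sum_congr rfl fun χ _ => ?_
    have h := sum_Phi_mul_conj hM W (fun _ _ => 1) χ χ
    rw [hone χ] at h
    simp only [map_one, mul_one] at h
    rw [h]
    rfl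
  have hformula := sum_subsections_of_control hM hmax T hpres hctrl
    (fun x => sbc CG[Subgroup.zpowers (x : G)] (bx x)) (fun x => ⟨bx x, hbx x, rfl⟩) F
    (fun u v e _ _ => by
      simp only [F]
      rw [hW.conj]
      congr 1
      exact Finset.sum_congr rfl fun χ _ =>
        sectNorm_conjF (Char.isClassFunction_of_isIrr χ.2) u v e)
    (fun u hu e he hne => by
      obtain ⟨χ, hχ, hχne⟩ := Finset.exists_ne_zero_of_sum_ne_zero (right_ne_zero_of_mul hne)
      obtain ⟨y, hy, hy0⟩ := Finset.exists_ne_zero_of_sum_ne_zero hχne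
      obtain ⟨b, rfl, hb⟩ := hsect χ ((Set.Finite.mem_toFinset _).1 hχ) u hu e he y hy
        (left_ne_zero_of_mul hy0)
      exact (exists_below_iff hM hmax b).2 hb)
  rw [hsum] at hformula
  have hterm : ∀ x : P, pWeight T (x : G) * F (x : G) (sbc CG[Subgroup.zpowers (x : G)] (bx x)) =
      (Nat.card (T ⊓ CG[Subgroup.zpowers (x : G)] : Subgroup G) : ℂ) * (l x : ℂ) *
        (Cfsg.blockRank p (bx x) : ℂ) := fun x => by
    have hu : ∃ k, orderOf (x : G) = p ^ k := by
      obtain ⟨k, hk⟩ := IsPGroup.iff_orderOf.1 hmax.1.1.1 x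
      exact ⟨k, by rw [Subgroup.orderOf_coe, hk]⟩
    simp only [F]
    rw [sum_sectNorm hM hu ((BrauerPairs.isBrauerPairOf_iff_of_subpairLE hM (hbx x) B).1 hmax.1),
      hWdef, fWeight_of_below hst ⟨bx x, hbx x, rfl⟩, hfP, pWeight]
    field_simp
  simp only [hterm] at hformula
  rw [mul_left_comm] at hformula
  rw [← mul_left_cancel₀ hGne hformula,
    Finset.sum_congr rfl fun χ hχ => hinner χ ((Set.Finite.mem_toFinset _).1 hχ)]
  split_ifs
  · rw [Finset.sum_const, nsmul_eq_mul, mul_one, Nat.card_eq_card_finite_toFinset B.toFinite]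
  · rw [Finset.sum_const_zero, mul_zero]

end Cfsg.Agent.Blocks.Star
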