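import Cfsg.Agent.Blocks.Star.MajorLattice
import Cfsg.Agent.Blocks.Star.HeightBound
import Cfsg.Agent.Blocks.Star.AbelianTrace
import Cfsg.Agent.Blocks.Star.AbelianLocal
import Cfsg.Agent.BlockChar.Cyclic.IsoData
import Cfsg.Agent.BlockChar.RankOne
import Cfsg.Agent.BlockThms.QuotientDefect

/-!
# Blocks with abelian defect groups of rank at most three

A two-generated abelian defect group `⟨a, y⟩` gives `k(B) ≤ p ^ d` through the subsection at `a`,
whose block dominates a block with cyclic defect group.  With a third generator the subsection at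
a generator of largest order gives `k(B) ^ 3 ≤ p ^ (5 d)`.
-/

namespace Cfsg.Agent.Blocks.Star

open Cfsg.Agent Cfsg.Agent.Blocks
open scoped ComplexConjugate

universe u

variable {G : Type u} [Group G] [Fintype G] {p : ℕ} {M : Ideal Cfsg.AlgInt}
  {B : Set (Cfsg.IrrCharacter G)}

local notation "CG[" Q "]" => Subgroup.centralizer ((Q : Subgroup G) : Set G)
local notation "sbc" => Cfsg.subgroupBlockCoeff

/-- Totally positive algebraic integers have average at least one. -/
theorem card_le_of_totally_positive {ι : Type*} [Fintype ι] {t : ι → ℂ}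
    (hint : ∀ i, IsIntegral ℤ (t i))
    (hpos : ∀ (σ : ℂ →+* ℂ) (i), ∃ r : ℝ, 0 < r ∧ σ (t i) = (r : ℂ)) {R : ℕ}
    (hsum : ∑ i, t i = (R : ℂ)) : Fintype.card ι ≤ R := by
  classical
  by_contra hcon
  push Not at hcon
  have key : ∀ σ : ℂ →+* ℂ, ‖σ (∏ i, t i)‖ < 1 := by
    intro σ
    choose r h1 h2 using hpos σ
    have hs := congrArg σ hsum
    rw [map_sum, map_natCast, Finset.sum_congr rfl fun i _ => h2 i] at hs
    have hs' : ∑ i, r i = (R : ℝ) := by exact_mod_cast hs
    rw [map_prod, Finset.prod_congr rfl fun i _ => h2 i, ← Complex.ofReal_prod, Complex.norm_real,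
      Real.norm_of_nonneg (Finset.prod_nonneg fun i _ => (h1 i).le),
      ← Real.log_neg_iff (Finset.prod_pos fun i _ => h1 i), Real.log_prod fun i _ => (h1 i).ne']
    refine lt_of_le_of_lt (Finset.sum_le_sum fun i _ => Real.log_le_sub_one_of_pos (h1 i)) ?_
    rw [Finset.sum_sub_distrib, hs', Finset.sum_const, Finset.card_univ, nsmul_eq_mul, mul_one]
    have : (R : ℝ) < Fintype.card ι := Nat.cast_lt.2 hcon
    linarith
  have hne : ∏ i, t i ≠ 0 := Finset.prod_ne_zero_iff.2 fun i _ => by
    obtain ⟨r, hr, he⟩ := hpos (RingHom.id ℂ) i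
    rw [RingHom.id_apply] at he
    rw [he]
    exact Complex.ofReal_ne_zero.2 hr.ne'
  have h1 := norm_eq_one_of_conjugates_le (IsIntegral.prod _ fun i _ => hint i) hne
    fun σ => (key σ).le
  exact (key (RingHom.id ℂ)).ne h1

open scoped Classical in
/-- A major subsection bounds the block by its rank times the order of a defect group. -/
theorem major_card_le (hM : Cfsg.IsPModular p M) {x : G} (hx : ∃ k, orderOf x = p ^ k)
    {b : Set (Cfsg.IrrCharacter CG[Subgroup.zpowers x])}
    (hpair : Cfsg.IsBrauerPairOf p M B (Subgroup.zpowers x) b)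
    (hd : Cfsg.blockDefect p b = Cfsg.blockDefect p B) :
    Nat.card B ≤ Cfsg.blockRank p b * p ^ Cfsg.blockDefect p B := by
  choose a haint hanorm hapos using fun χ : B => major_norm_spec hM χ.2 hx hpair hd
  have hint : ∀ χ : B, IsIntegral ℤ
      (((p ^ Cfsg.blockHeight p B ((χ : Cfsg.IrrCharacter G) : G → ℂ) : ℕ) : ℂ) * a χ) :=
    fun χ => (isIntegral_natCast _).mul (haint χ)
  have hsum : ∑ χ : B, ((p ^ Cfsg.blockHeight p B ((χ : Cfsg.IrrCharacter G) : G → ℂ) : ℕ) : ℂ) *
      a χ = ((Cfsg.blockRank p b * p ^ Cfsg.blockDefect p B : ℕ) : ℂ) := by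
    rw [Finset.sum_congr rfl fun χ _ => (hanorm χ).symm, ← Finset.mul_sum,
      ← Finset.sum_subtype B.toFinite.toFinset (fun χ => Set.Finite.mem_toFinset _)
        (fun χ : Cfsg.IrrCharacter G => sectNorm p (χ : G → ℂ) x (sbc CG[Subgroup.zpowers x] b)),
      sum_sectNorm hM hx hpair]
    have hC : (Nat.card CG[Subgroup.zpowers x] : ℂ) ≠ 0 := Nat.cast_ne_zero.2 Nat.card_pos.ne'
    push_cast
    field_simp
  have h := card_le_of_totally_positive hint (fun σ χ => by
    obtain ⟨r, hr, he⟩ := hapos χ σ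
    exact ⟨(p ^ Cfsg.blockHeight p B ((χ : Cfsg.IrrCharacter G) : G → ℂ) : ℕ) * r,
      mul_pos (Nat.cast_pos.2 (pow_pos hM.1.pos _)) hr, by
        rw [map_mul, map_natCast, he]; push_cast; ring⟩) hsum
  rwa [← Nat.card_eq_fintype_card] at h

/-- Regular sums on a group and on its quotient by a central `p`-subgroup. -/
theorem regSum_quotient {H : Type u} [Group H] [Fintype H] (N : Subgroup H) [N.Normal]
    [Fintype (H ⧸ N)] (hp : p.Prime) (hN : IsPGroup p N) (hNc : N ≤ Subgroup.center H)
    (F : H ⧸ N → ℂ) :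
    BlockChar.regSum p (fun c : H => F (c : H ⧸ N)) = BlockChar.regSum p F := by
  classical
  simp only [BlockChar.regSum_eq_filter]
  convert BlockChar.sum_regular_quotient N hp hN hNc F using 2 <;> ext <;> simp [Cfsg.IsPRegular]

open scoped Classical in
/-- A major subsection whose block dominates a block with the data of a cyclic defect group. -/
theorem card_le_of_cyclic_quotient (hM : Cfsg.IsPModular p M) {x : G}
    (hx : ∃ k, orderOf x = p ^ k) {H : Subgroup G} [Fintype H]
    (hH : ∀ a : G, a ∈ H ↔ x * a = a * x) {b : Set (Cfsg.IrrCharacter H)}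
    (hind : Cfsg.IsInducedBlock M H b B) (hd : Cfsg.blockDefect p b = Cfsg.blockDefect p B)
    (N : Subgroup H) [N.Normal] (hN : IsPGroup p N) (hNc : N ≤ Subgroup.center H)
    [Fintype (H ⧸ N)] {b' : Set (Cfsg.IrrCharacter (H ⧸ N))} (hb' : Cfsg.IsPBlock M b')
    (hiff : ∀ η, η ∈ b' ↔ BlockChar.inflIrr N η ∈ b) {D' : Subgroup (H ⧸ N)} {e : ℕ}
    (d : BlockChar.Cyclic.IsoData p M b' D' e) (hl : Cfsg.blockRank p b' = e)
    (hD' : 1 < Nat.card D') : Nat.card B ≤ Nat.card N * Nat.card D' := by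
  have hp := hM.1
  have := Fact.mk hp
  have hbH : Cfsg.IsPBlock M b := hind.1
  obtain ⟨ne, hne⟩ : ∃ q : d.X ≃ Fin e, True :=
    ⟨(Finite.equivFinOfCardEq d.card_X), trivial⟩
  set X : Fin e → Cfsg.IrrCharacter (H ⧸ N) := fun i => (ne.symm i : Cfsg.IrrCharacter (H ⧸ N))
  have hX : ∀ i, X i ∈ d.X := fun i => (ne.symm i).2
  have hXb : ∀ i, X i ∈ b' := fun i => d.union ▸ Or.inl (hX i)
  set sg : Fin e → ℤ := fun i => d.sgn (X i)
  have hsq : ∀ i, sg i * sg i = 1 := fun i => by
    rcases d.sign_X _ (hX i) with h | h <;> simp [sg, h]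
  have heps : d.eps * d.eps = 1 := by rcases d.sign with h | h <;> simp [h]
  let ψq : Fin e → (H ⧸ N) → ℂ := fun i q => (sg i : ℂ) * (X i : (H ⧸ N) → ℂ) q
  let ψ : Fin e → H → ℂ := fun i c => ψq i (c : H ⧸ N)
  let Aq : Cfsg.IrrCharacter (H ⧸ N) → Fin e → ℤ := fun η i =>
    if η ∈ d.X then (if X i = η then sg i else 0) else if η ∈ d.Y then -d.eps else 0
  have hAq : ∀ η ∈ b', ∀ q : H ⧸ N, ¬ p ∣ orderOf q →
      (η : (H ⧸ N) → ℂ) q = ∑ i, (Aq η i : ℂ) * ψq i q := by
    intro η hη q hq
    rw [d.union] at hη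
    rcases hη with h | h
    · rw [Finset.sum_eq_single (ne ⟨η, h⟩)]
      · simp only [Aq, if_pos h, X, Equiv.symm_apply_apply, if_true, ψq, ← mul_assoc, ← Int.cast_mul]
        rw [hsq, Int.cast_one, one_mul]
      · intro i _ hi
        simp only [Aq, if_pos h]
        rw [if_neg, Int.cast_zero, zero_mul]
        intro hXi
        exact hi (ne.symm.injective (by rw [Equiv.symm_apply_apply]; exact Subtype.ext hXi))
      · exact fun h => absurd (Finset.mem_univ _) h
    · have hnX : η ∉ d.X := fun h' => d.disjoint.le_bot ⟨h', h⟩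
      have hrel := d.relation η h q hq
      have hsum : ∑ i, ψq i q = ∑ᶠ χ ∈ d.X, (d.sgn χ : ℂ) * (χ : (H ⧸ N) → ℂ) q := by
        rw [finsum_mem_eq_finite_toFinset_sum _ d.X.toFinite,
          Finset.sum_subtype (p := fun χ => χ ∈ d.X) _ (fun χ => Set.Finite.mem_toFinset _)]
        exact Fintype.sum_equiv ne.symm _ _ fun i => rfl
      simp only [Aq, if_neg hnX, if_pos h, Int.cast_neg, neg_mul]
      rw [Finset.sum_neg_distrib, ← Finset.mul_sum, hsum]
      have heps' : (d.eps : ℂ) * (d.eps : ℂ) = 1 := by exact_mod_cast heps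
      linear_combination (d.eps : ℂ) * hrel - (η : (H ⧸ N) → ℂ) q * heps'
  have hspanq : ∀ i, ∃ a : Cfsg.IrrCharacter (H ⧸ N) → ℂ, ∀ q : H ⧸ N, ¬ p ∣ orderOf q →
      ψq i q = ∑ η ∈ b'.toFinite.toFinset, a η * (η : (H ⧸ N) → ℂ) q := fun i =>
    ⟨fun η => if η = X i then (sg i : ℂ) else 0, fun q _ => by
      rw [Finset.sum_eq_single (X i)]
      · simp [ψq]
      · intro η _ hη; simp [hη]
      · exact fun h => absurd ((Set.Finite.mem_toFinset _).2 (hXb i)) h⟩
  have hliq : ∀ a : Fin e → ℂ, (∀ q : H ⧸ N, ¬ p ∣ orderOf q → ∑ i, a i * ψq i q = 0) → a = 0 := by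
    let R : Fin e → (H ⧸ N) → ℂ := fun i => Cfsg.pRegularPart p (ψq i)
    have hspan : Submodule.span ℂ ((fun χ : Cfsg.IrrCharacter (H ⧸ N) =>
        Cfsg.pRegularPart p (χ : (H ⧸ N) → ℂ)) '' b') ≤ Submodule.span ℂ (Set.range R) := by
      rw [Submodule.span_le]
      rintro _ ⟨η, hη, rfl⟩
      have : Cfsg.pRegularPart p (η : (H ⧸ N) → ℂ) = ∑ i, (Aq η i : ℂ) • R i := funext fun q => by
        simp only [R, Finset.sum_apply, Pi.smul_apply, smul_eq_mul, pRegularPart_apply]
        by_cases hq : p ∣ orderOf q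
        · simp [hq]
        · simp only [if_neg hq]; exact hAq η hη q hq
      show Cfsg.pRegularPart p (η : (H ⧸ N) → ℂ) ∈ Submodule.span ℂ (Set.range R)
      rw [this]
      exact Submodule.sum_mem _ fun i _ => Submodule.smul_mem _ _ (Submodule.subset_span ⟨i, rfl⟩)
    have hcard : Fintype.card (Fin e) ≤ Module.finrank ℂ (Submodule.span ℂ (Set.range R)) := by
      rw [Fintype.card_fin]
      conv_lhs => rw [← hl, Cfsg.blockRank]
      exact Submodule.finrank_mono hspan
    have hind' : LinearIndependent ℂ R := linearIndependent_iff_card_eq_finrank_span.2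
      (le_antisymm hcard (finrank_range_le_card R))
    intro a ha
    funext i
    refine Fintype.linearIndependent_iff.1 hind' a ?_ i
    funext q
    simp only [R, Finset.sum_apply, Pi.smul_apply, smul_eq_mul, pRegularPart_apply, Pi.zero_apply]
    by_cases hq : p ∣ orderOf q
    · simp [hq]
    · simp only [if_neg hq]; exact ha q hq
  -- lifting
  choose z hz0 hzval using fun φ : {φ : Cfsg.IrrCharacter H // φ ∈ b} =>
    BlockChar.exists_int_lift N hM hN hNc hbH hiff φ.2
  let A : Cfsg.IrrCharacter H → Fin e → ℤ := fun φ i =>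
    if h : φ ∈ b then ∑ η, z ⟨φ, h⟩ η * Aq η i else 0
  have hA : ∀ φ ∈ b, ∀ c : H, ¬ p ∣ orderOf c → (φ : H → ℂ) c = ∑ i, (A φ i : ℂ) * ψ i c := by
    intro φ hφ c hc
    rw [hzval ⟨φ, hφ⟩ c hc]
    simp only [A, dif_pos hφ, Int.cast_sum, Int.cast_mul, Finset.sum_mul]
    rw [Finset.sum_comm]
    refine Finset.sum_congr rfl fun η _ => ?_
    by_cases h0 : z ⟨φ, hφ⟩ η = 0
    · simp [h0]
    · rw [hAq η (hz0 ⟨φ, hφ⟩ η h0) _ (BlockChar.isPRegular_mk N hc), Finset.mul_sum]
      exact Finset.sum_congr rfl fun i _ => by simp only [ψ]; ring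
  have hli : ∀ a : Fin e → ℂ, (∀ c : H, ¬ p ∣ orderOf c → ∑ i, a i * ψ i c = 0) → a = 0 :=
    fun a ha => hliq a fun q hq => by
      obtain ⟨c, hc, rfl⟩ := BlockChar.exists_regular_lift N hp hq
      exact ha c hc
  have hspan : ∀ i, ∃ a : Cfsg.IrrCharacter H → ℂ, ∀ c : H, ¬ p ∣ orderOf c →
      ψ i c = ∑ φ ∈ b.toFinite.toFinset, a φ * (φ : H → ℂ) c := fun i =>
    ⟨fun φ => if φ = BlockChar.inflIrr N (X i) then (sg i : ℂ) else 0, fun c _ => by
      rw [Finset.sum_eq_single (BlockChar.inflIrr N (X i))]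
      · show (sg i : ℂ) * (X i : (H ⧸ N) → ℂ) (c : H ⧸ N) = _
        simp only [if_true]
        rfl
      · intro φ _ hφ; simp [hφ]
      · exact fun h => absurd ((Set.Finite.mem_toFinset _).2 ((hiff _).1 (hXb i))) h⟩
  -- the two Cartan matrices
  set m := Nat.card d.Y
  have hWq : ∀ i j, cartanOf b' Aq i j = (if i = j then 1 else 0) + (m : ℤ) := by
    intro i j
    have hsplit : b'.toFinite.toFinset = d.X.toFinite.toFinset ∪ d.Y.toFinite.toFinset := by
      ext η; simp [d.union]
    have hdisj : Disjoint d.X.toFinite.toFinset d.Y.toFinite.toFinset :=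
      Finset.disjoint_left.2 fun η h1 h2 =>
        d.disjoint.le_bot ⟨(Set.Finite.mem_toFinset _).1 h1, (Set.Finite.mem_toFinset _).1 h2⟩
    rw [cartanOf, hsplit, Finset.sum_union hdisj]
    congr 1
    · rw [Finset.sum_eq_single (X i)]
      · simp only [Aq, if_pos (hX i), if_true]
        by_cases h : i = j
        · subst h; simp [hsq]
        · rw [if_neg h, if_neg, mul_zero]
          exact fun h' => h (ne.symm.injective (Subtype.ext h')).symm
      · intro η hη hne'
        simp only [Aq, if_pos ((Set.Finite.mem_toFinset _).1 hη), if_neg (Ne.symm hne'), zero_mul]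
      · exact fun h => absurd ((Set.Finite.mem_toFinset _).2 (hX i)) h
    · rw [Finset.sum_congr rfl (g := fun _ => (1 : ℤ)) fun η hη => ?_, Finset.sum_const, nsmul_one]
      · simp only [m, Nat.card_coe_set_eq, Set.ncard_eq_toFinset_card _ d.Y.toFinite]
      · have h2 := (Set.Finite.mem_toFinset _).1 hη
        have h1 : η ∉ d.X := fun h' => d.disjoint.le_bot ⟨h', h2⟩
        simp only [Aq, if_neg h1, if_pos h2, neg_mul_neg, heps]
  have hW : ∀ i j, cartanOf b A i j = (Nat.card N : ℤ) * cartanOf b' Aq i j := by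
    have h1 := gram_mul_cartan hM hbH ψ A hA hli hspan
    have h2 := gram_mul_cartan hM hb' ψq Aq hAq hliq hspanq
    have hΓ : Matrix.of (fun i j => (Nat.card H : ℂ)⁻¹ *
        BlockChar.regSum p (fun c : H => ψ i c * conj (ψ j c))) =
        (Nat.card N : ℂ)⁻¹ • Matrix.of (fun i j => (Nat.card (H ⧸ N) : ℂ)⁻¹ *
          BlockChar.regSum p (fun q : H ⧸ N => ψq i q * conj (ψq j q))) := by
      ext i j
      rw [Matrix.smul_apply, Matrix.of_apply, Matrix.of_apply, smul_eq_mul,
        Subgroup.card_eq_card_quotient_mul_card_subgroup N, Nat.cast_mul, mul_inv,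
        regSum_quotient N hp hN hNc (fun q => ψq i q * conj (ψq j q))]
      ring
    rw [hΓ, Matrix.smul_mul] at h1
    intro i j
    have hN0 : (Nat.card N : ℂ) ≠ 0 := Nat.cast_ne_zero.2 Nat.card_pos.ne'
    set Γ := Matrix.of (fun i j => (Nat.card (H ⧸ N) : ℂ)⁻¹ *
      BlockChar.regSum p (fun q : H ⧸ N => ψq i q * conj (ψq j q)))
    set W := Matrix.of (fun i j => (cartanOf b A i j : ℂ))
    set W' := Matrix.of (fun i j => (cartanOf b' Aq i j : ℂ))
    have h3 : Γ * W = (Nat.card N : ℂ) • (1 : Matrix (Fin e) (Fin e) ℂ) := by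
      rw [← h1, smul_smul, mul_inv_cancel₀ hN0, one_smul]
    have h4 : W' * Γ = 1 := mul_eq_one_comm.1 h2
    have h5 : W = (Nat.card N : ℂ) • W' := by
      calc W = (W' * Γ) * W := by rw [h4, Matrix.one_mul]
        _ = _ := by rw [Matrix.mul_assoc, h3, Matrix.mul_smul, Matrix.mul_one]
    have h6 := congrFun (congrFun h5 i) j
    simp only [W, W', Matrix.of_apply, Matrix.smul_apply, smul_eq_mul] at h6
    exact_mod_cast h6
  -- the forms
  let L : Fin (e + 1) → Fin e → ℤ := fun s i =>
    (if (i : ℕ) = s then 1 else 0) - (if (i : ℕ) + 1 = s then 1 else 0)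
  have hlin : ∀ (s : Fin (e + 1)) (v : Fin e → ℂ), ∑ i, (L s i : ℂ) * v i =
      (if h : (s : ℕ) < e then v ⟨s, h⟩ else 0) -
      (if h : 0 < (s : ℕ) then v ⟨(s : ℕ) - 1, by omega⟩ else 0) := by
    intro s v
    simp only [L, Int.cast_sub, sub_mul, Finset.sum_sub_distrib, Int.cast_ite, Int.cast_one,
      Int.cast_zero, ite_mul, one_mul, zero_mul]
    congr 1
    · split_ifs with h
      · rw [Finset.sum_eq_single ⟨s, h⟩ (fun i _ hi => if_neg fun h' => hi (Fin.ext h'))
          (fun h => absurd (Finset.mem_univ _) h), if_pos rfl]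
      · exact Finset.sum_eq_zero fun i _ => if_neg fun h' => h (lt_of_eq_of_lt h'.symm i.2)
    · split_ifs with h
      · rw [Finset.sum_eq_single ⟨(s : ℕ) - 1, by omega⟩
          (fun i _ hi => if_neg fun h' => hi (Fin.ext (by simp only; omega)))
          (fun h => absurd (Finset.mem_univ _) h), if_pos (by simp only; omega)]
      · exact Finset.sum_eq_zero fun i _ => if_neg fun h' => h (by omega)
  have hepos := d.pos
  have hpos : ∀ v : Fin e → ℂ, v ≠ 0 →
      2 ≤ ∑ s ∈ Finset.univ.filter (fun s => ∑ i, (L s i : ℂ) * v i ≠ 0), 1 := by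
    intro v hv
    set F := Finset.univ.filter fun i => v i ≠ 0
    have hF : F.Nonempty := by
      by_contra h
      refine hv (funext fun i => ?_)
      by_contra h'
      exact h ⟨i, Finset.mem_filter.2 ⟨Finset.mem_univ _, h'⟩⟩
    set i₀ := F.min' hF
    set i₁ := F.max' hF
    have h0 : v i₀ ≠ 0 := (Finset.mem_filter.1 (F.min'_mem hF)).2
    have h1 : v i₁ ≠ 0 := (Finset.mem_filter.1 (F.max'_mem hF)).2
    rw [← Finset.card_eq_sum_ones]
    let a₀ : Fin (e + 1) := ⟨i₀, by omega⟩
    let a₁ : Fin (e + 1) := ⟨(i₁ : ℕ) + 1, by omega⟩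
    have hle : (i₀ : ℕ) ≤ (i₁ : ℕ) := F.min'_le _ (F.max'_mem hF)
    calc 2 = ({a₀, a₁} : Finset (Fin (e + 1))).card := (Finset.card_pair fun h => by
          have := congrArg Fin.val h; simp only [a₀, a₁] at this; omega).symm
      _ ≤ _ := Finset.card_le_card fun s hs => by
          refine Finset.mem_filter.2 ⟨Finset.mem_univ _, ?_⟩
          rw [hlin]
          rcases Finset.mem_insert.1 hs with rfl | hs
          · rw [dif_pos i₀.2]
            split_ifs with h
            · rw [show v ⟨(i₀ : ℕ) - 1, _⟩ = 0 by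
                by_contra h'
                have := F.min'_le _ (Finset.mem_filter.2 ⟨Finset.mem_univ _, h'⟩)
                simp only [a₀] at h this
                have := Fin.le_def.1 this
                simp only at this
                change (i₀ : ℕ) ≤ (i₀ : ℕ) - 1 at this
                omega]
              simpa using h0
            · simpa using h0
          · rw [Finset.mem_singleton] at hs
            subst hs
            rw [dif_pos (show 0 < (a₁ : ℕ) from Nat.succ_pos _)]
            split_ifs with h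
            · rw [show v ⟨(i₁ : ℕ) + 1, h⟩ = 0 by
                by_contra h'
                have := Fin.le_def.1 (F.le_max' _ (Finset.mem_filter.2 ⟨Finset.mem_univ _, h'⟩))
                change (i₁ : ℕ) + 1 ≤ (i₁ : ℕ) at this
                omega]
              simpa [a₁] using h1
            · simpa [a₁] using h1
  have hk := card_mul_le_of_forms hM hH hx hind hd ψ A hA hli L (fun _ => 1) 2 hpos
  have hsumL : ∀ s : Fin (e + 1), ∑ i, L s i =
      (if (s : ℕ) < e then 1 else 0) - (if 0 < (s : ℕ) then 1 else 0) := by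
    intro s
    have h := hlin s fun _ => 1
    simp only [mul_one] at h
    have h' : ((∑ i, L s i : ℤ) : ℂ) =
        (((if (s : ℕ) < e then 1 else 0) - (if 0 < (s : ℕ) then 1 else 0) : ℤ) : ℂ) := by
      rw [Int.cast_sum, h]; push_cast; split_ifs <;> simp
    exact_mod_cast h'
  have hbound : ∀ s : Fin (e + 1), ∑ i, ∑ j, L s i * L s j * cartanOf b A i j =
      (Nat.card N : ℤ) * (((if (s : ℕ) < e then 1 else 0) + (if 0 < (s : ℕ) then 1 else 0)) +
        (m : ℤ) * (∑ i, L s i) ^ 2) := by
    intro s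
    have hsqL : ∀ i, L s i * L s i =
        (if (i : ℕ) = s then 1 else 0) + (if (i : ℕ) + 1 = s then 1 else 0) := fun i => by
      simp only [L]; split_ifs <;> omega
    have h1 : ∑ i, L s i * L s i =
        (if (s : ℕ) < e then 1 else 0) + (if 0 < (s : ℕ) then 1 else 0) := by
      rw [Finset.sum_congr rfl fun i _ => hsqL i, Finset.sum_add_distrib]
      congr 1
      · split_ifs with h
        · rw [Finset.sum_eq_single ⟨s, h⟩ (fun i _ hi => if_neg fun h' => hi (Fin.ext h'))
            (fun h => absurd (Finset.mem_univ _) h), if_pos rfl]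
        · exact Finset.sum_eq_zero fun i _ => if_neg fun h' => h (lt_of_eq_of_lt h'.symm i.2)
      · split_ifs with h
        · rw [Finset.sum_eq_single ⟨(s : ℕ) - 1, by omega⟩
            (fun i _ hi => if_neg fun h' => hi (Fin.ext (by simp only; omega)))
            (fun h => absurd (Finset.mem_univ _) h), if_pos (by simp only; omega)]
        · exact Finset.sum_eq_zero fun i _ => if_neg fun h' => h (by omega)
    rw [← h1]
    simp only [hW, hWq, mul_add, mul_ite, mul_one, mul_zero, Finset.sum_add_distrib,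
      Finset.sum_ite_eq, Finset.mem_univ, if_true, pow_two]
    congr 1
    · rw [Finset.mul_sum]
      exact Finset.sum_congr rfl fun i _ => by ring
    · rw [Finset.sum_mul_sum]
      simp only [Finset.mul_sum]
      exact Finset.sum_congr rfl fun i _ => Finset.sum_congr rfl fun j _ => by ring
  simp only [Nat.cast_one, one_mul, hbound, hsumL] at hk
  rw [← Finset.mul_sum, Finset.sum_add_distrib, ← Finset.mul_sum, Finset.sum_add_distrib] at hk
  have c1 : ∑ s : Fin (e + 1), (if (s : ℕ) < e then (1 : ℤ) else 0) = (e : ℤ) := by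
    rw [Fin.sum_univ_castSucc]; simp
  have c2 : ∑ s : Fin (e + 1), (if 0 < (s : ℕ) then (1 : ℤ) else 0) = (e : ℤ) := by
    rw [Fin.sum_univ_succ]; simp
  have c3 : ∑ s : Fin (e + 1),
      ((if (s : ℕ) < e then 1 else 0) - (if 0 < (s : ℕ) then (1 : ℤ) else 0)) ^ 2 = 2 := by
    obtain ⟨e', rfl⟩ : ∃ e', e = e' + 1 := ⟨e - 1, by omega⟩
    rw [Fin.sum_univ_succ, Fin.sum_univ_castSucc, Finset.sum_eq_zero fun s _ => by
      simp [show (s : ℕ) + 1 < e' + 1 by omega]]
    simp
  rw [c1, c2, c3] at hk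
  push_cast at hk
  have hY := d.card_Y
  have hmpos : 1 ≤ m := by
    rcases Nat.eq_zero_or_pos m with h | h
    · exfalso; rw [show Nat.card d.Y = m from rfl, h, mul_zero] at hY; omega
    · exact h
  have hem : e + m ≤ Nat.card D' := by
    have h2 : e + m ≤ e * m + 1 := by nlinarith
    have h3 : e * m + 1 = Nat.card D' := by
      rw [show e * m = Nat.card D' - 1 from hY]; omega
    omega
  have hN0 : (0 : ℤ) ≤ (Nat.card N : ℤ) := Int.natCast_nonneg _
  have h4 : (Nat.card B : ℤ) ≤ (Nat.card N : ℤ) * ((e : ℤ) + (m : ℤ)) := by linarith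
  have h5 : Nat.card N * (e + m) ≤ Nat.card N * Nat.card D' := Nat.mul_le_mul_left _ hem
  exact le_trans (by exact_mod_cast h4) h5

end Cfsg.Agent.Blocks.Star
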