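import Cfsg.Agent.Blocks.Star.AbelianRankTwo
import Cfsg.Agent.BlockChar.Cyclic.Main
import Cfsg.Agent.BlockChar.Cyclic.Tee
import Cfsg.Agent.BlockChar.Defect
import Mathlib.GroupTheory.Rank
import Cfsg.Agent.Core.Hall

/-!
# The bounds for abelian defect groups of rank two and three
-/

namespace Cfsg.Agent.Blocks.Star

open Cfsg.Agent Cfsg.Agent.Blocks

universe u

variable {G : Type u} [Group G] [Fintype G] {p : ℕ} {M : Ideal Cfsg.AlgInt}
  {B : Set (Cfsg.IrrCharacter G)}

local notation "CG[" Q "]" => Subgroup.centralizer ((Q : Subgroup G) : Set G)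
local notation "sbc" => Cfsg.subgroupBlockCoeff

/-- Elements of the subgroup generated by two commuting elements. -/
theorem mem_closure_pair_of_commute {H : Type*} [Group H] {y z : H} (h : Commute y z) {g : H} :
    g ∈ Subgroup.closure {y, z} ↔ ∃ m n : ℤ, y ^ m * z ^ n = g := by
  constructor
  · intro hg
    induction hg using Subgroup.closure_induction with
    | mem w hw =>
      rcases hw with rfl | rfl
      · exact ⟨1, 0, by simp⟩
      · exact ⟨0, 1, by simp⟩
    | one => exact ⟨0, 0, by simp⟩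
    | mul _ _ _ _ ha hb =>
      obtain ⟨i, j, rfl⟩ := ha
      obtain ⟨k, l, rfl⟩ := hb
      exact ⟨i + k, j + l, by
        rw [zpow_add, zpow_add, mul_assoc, mul_assoc, ← mul_assoc (y ^ k),
          (h.zpow_zpow k j).eq, mul_assoc]⟩
    | inv _ _ ha =>
      obtain ⟨i, j, rfl⟩ := ha
      exact ⟨-i, -j, by rw [mul_inv_rev, zpow_neg, zpow_neg, (h.zpow_zpow i j).inv_inv.eq]⟩
  · rintro ⟨m, n, rfl⟩
    exact mul_mem (zpow_mem (Subgroup.subset_closure (Set.mem_insert _ _)) _)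
      (zpow_mem (Subgroup.subset_closure (Set.mem_insert_of_mem _ (Set.mem_singleton z))) _)

/-- Elements of the subgroup generated by three commuting elements. -/
theorem exists_zpow_of_mem_closure_triple {H : Type*} [Group H] {a y z : H} (hay : Commute a y)
    (haz : Commute a z) (hyz : Commute y z) {g : H} (hg : g ∈ Subgroup.closure {a, y, z}) :
    ∃ m n r : ℤ, a ^ m * (y ^ n * z ^ r) = g := by
  induction hg using Subgroup.closure_induction with
  | mem w hw =>
    rcases hw with rfl | rfl | rfl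
    · exact ⟨1, 0, 0, by simp⟩
    · exact ⟨0, 1, 0, by simp⟩
    · exact ⟨0, 0, 1, by simp⟩
  | one => exact ⟨0, 0, 0, by simp⟩
  | mul _ _ _ _ ha hb =>
    obtain ⟨i, j, k, rfl⟩ := ha
    obtain ⟨i', j', k', rfl⟩ := hb
    refine ⟨i + i', j + j', k + k', ?_⟩
    have hc : Commute (y ^ j * z ^ k) (a ^ i') :=
      (hay.symm.zpow_zpow j i').mul_left (haz.symm.zpow_zpow k i')
    rw [hc.mul_mul_mul_comm, (hyz.symm.zpow_zpow k j').mul_mul_mul_comm, ← zpow_add, ← zpow_add,
      ← zpow_add]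
  | inv _ _ ha =>
    obtain ⟨i, j, k, rfl⟩ := ha
    refine ⟨-i, -j, -k, ?_⟩
    have hc : Commute (y ^ j * z ^ k)⁻¹ (a ^ i)⁻¹ :=
      (((hay.symm.zpow_zpow j i).mul_left (haz.symm.zpow_zpow k i))).inv_inv
    rw [mul_inv_rev (a ^ i), hc.eq, mul_inv_rev, (hyz.symm.zpow_zpow k j).inv_inv.eq, zpow_neg,
      zpow_neg, zpow_neg]

/-- A subgroup of the group generated by two commuting elements is generated by two elements. -/
theorem exists_pair_closure {H : Type*} [Group H] {y z : H} (h : Commute y z) {K : Subgroup H}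
    (hK : K ≤ Subgroup.closure {y, z}) : ∃ u v, K = Subgroup.closure {u, v} := by
  let I : AddSubgroup ℤ :=
    { carrier := {i | y ^ i ∈ K}
      zero_mem' := by simp [one_mem]
      add_mem' := fun {a b} ha hb => by
        show y ^ (a + b) ∈ K
        rw [zpow_add]; exact mul_mem ha hb
      neg_mem' := fun {a} ha => by
        show y ^ (-a) ∈ K
        rw [zpow_neg]; exact inv_mem ha }
  let J : AddSubgroup ℤ :=
    { carrier := {j | ∃ i : ℤ, y ^ i * z ^ j ∈ K}
      zero_mem' := ⟨0, by simp [one_mem]⟩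
      add_mem' := fun {a b} ⟨i, hi⟩ ⟨k, hk⟩ => ⟨i + k, by
        have := mul_mem hi hk
        rwa [mul_assoc, ← mul_assoc (z ^ a), ← (h.zpow_zpow k a).eq, mul_assoc, ← mul_assoc,
          ← zpow_add, ← zpow_add] at this⟩
      neg_mem' := fun {a} ⟨i, hi⟩ => ⟨-i, by
        have := inv_mem hi
        rwa [mul_inv_rev, ← zpow_neg, ← zpow_neg, ← (h.zpow_zpow (-i) (-a)).eq] at this⟩ }
  obtain ⟨i₀, hI⟩ := Int.subgroup_cyclic I
  obtain ⟨j₀, hJ⟩ := Int.subgroup_cyclic J
  have hi₀ : i₀ ∈ I := hI ▸ AddSubgroup.subset_closure rfl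
  obtain ⟨i₁, hi₁⟩ : j₀ ∈ J := hJ ▸ AddSubgroup.subset_closure rfl
  refine ⟨y ^ i₀, y ^ i₁ * z ^ j₀, le_antisymm (fun g hg => ?_) ((Subgroup.closure_le _).2 ?_)⟩
  · obtain ⟨m, n, rfl⟩ := (mem_closure_pair_of_commute h).1 (hK hg)
    obtain ⟨k, rfl⟩ : ∃ k : ℤ, k * j₀ = n := by
      have hn : n ∈ J := ⟨m, hg⟩
      rw [hJ, AddSubgroup.mem_closure_singleton] at hn
      simpa using hn
    have hv : (y ^ i₁ * z ^ j₀) ^ k = y ^ (k * i₁) * z ^ (k * j₀) := by
      rw [(h.zpow_zpow i₁ j₀).mul_zpow, ← zpow_mul, ← zpow_mul, mul_comm i₁, mul_comm j₀]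
    obtain ⟨l, hl⟩ : ∃ l : ℤ, l * i₀ = m - k * i₁ := by
      have hm : m - k * i₁ ∈ I := by
        show y ^ (m - k * i₁) ∈ K
        have := mul_mem hg (inv_mem (K.zpow_mem hi₁ k))
        rwa [hv, mul_inv_rev, mul_assoc, mul_inv_cancel_left, ← zpow_neg, ← zpow_add,
          ← sub_eq_add_neg] at this
      rw [hI, AddSubgroup.mem_closure_singleton] at hm
      simpa using hm
    have : y ^ m * z ^ (k * j₀) = (y ^ i₀) ^ l * (y ^ i₁ * z ^ j₀) ^ k := by
      rw [hv, ← zpow_mul, mul_comm i₀, hl, ← mul_assoc, ← zpow_add, sub_add_cancel]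
    rw [this]
    exact mul_mem (Subgroup.zpow_mem _ (Subgroup.subset_closure (Set.mem_insert _ _)) _)
      (Subgroup.zpow_mem _ (Subgroup.subset_closure (Set.mem_insert_of_mem _ (Set.mem_singleton _))) _)
  · rintro w (rfl | rfl)
    · exact hi₀
    · exact hi₁

/-- The subsection at an element of an abelian defect group and the block it dominates. -/
theorem major_quotient_setup (hM : Cfsg.IsPModular p M) (hB : Cfsg.IsPBlock M B) {D : Subgroup G}
    (hD : Cfsg.IsDefectGroup p M B D) (hab : ∀ a ∈ D, ∀ b ∈ D, a * b = b * a) {x : G}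
    (hxD : x ∈ D) [Fintype CG[Subgroup.zpowers x]] :
    ∃ (b : Set (Cfsg.IrrCharacter CG[Subgroup.zpowers x]))
      (N : Subgroup CG[Subgroup.zpowers x]) (_ : N.Normal)
      (b' : Set (Cfsg.IrrCharacter (CG[Subgroup.zpowers x] ⧸ N))),
      (∃ k, orderOf x = p ^ k) ∧
      Cfsg.IsBrauerPairOf p M B (Subgroup.zpowers x) b ∧
      Cfsg.IsInducedBlock M CG[Subgroup.zpowers x] b B ∧
      Cfsg.blockDefect p b = Cfsg.blockDefect p B ∧ Nat.card N = orderOf x ∧ IsPGroup p N ∧
      N ≤ Subgroup.center CG[Subgroup.zpowers x] ∧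
      (∀ n : CG[Subgroup.zpowers x], (n : G) ∈ Subgroup.zpowers x → n ∈ N) ∧
      Cfsg.IsPBlock M b' ∧
      (∀ η, η ∈ b' ↔ BlockChar.inflIrr N η ∈ b) ∧
      ∀ D', Cfsg.IsDefectGroup p M b' D' →
        Nat.card N * Nat.card D' ≤ Nat.card D ∧ Cfsg.blockRank p b ≤ Cfsg.blockRank p b' ∧
        ∃ f : (CG[Subgroup.zpowers x] ⧸ N) →* (CG[Subgroup.zpowers x] ⧸ N),
          ∃ P : Subgroup CG[Subgroup.zpowers x], P.map CG[Subgroup.zpowers x].subtype = D ∧
            D' ≤ (P.map (QuotientGroup.mk' N)).map f := by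
  classical
  haveI := Fact.mk hM.1
  set C := CG[Subgroup.zpowers x]
  obtain ⟨c, hmax⟩ := BrauerPairs.exists_maximal_on hM hB hD
  have hPD := hmax.1.1.1
  obtain ⟨k, hk⟩ := IsPGroup.iff_orderOf.1 hPD ⟨x, hxD⟩
  rw [Subgroup.orderOf_mk] at hk
  have hle : Subgroup.zpowers x ≤ D := Subgroup.zpowers_le.2 hxD
  obtain ⟨b, hb⟩ := (BrauerPairs.existsUnique_subpairLE hM hmax.1.1 hle).exists
  have hpair := (BrauerPairs.isBrauerPairOf_iff_of_subpairLE hM hb B).1 hmax.1
  have hind := (mem_inducing_iff_pair hM hpair.1.1 hpair.2.1 hpair.1.2).2 hpair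
  have hxZ : x ∈ D ⊓ CG[D] :=
    ⟨hxD, Subgroup.mem_centralizer_iff.2 fun a ha => hab a ha x hxD⟩
  have hd := blockDefect_eq_of_central hM hmax hxZ hb
  have hDK : D ≤ CG[Subgroup.zpowers x] := fun a ha =>
    Subgroup.mem_centralizer_iff.2 fun y hy => hab y (hle hy) a ha
  have hCK : CG[D] ≤ CG[Subgroup.zpowers x] := Subgroup.centralizer_le hle
  have hmaxK := BlockChar.Cyclic.maximal_local hM hmax (normal_of_le hM hmax hab hb) hDK hCK
  have hDb := BrauerPairs.isDefectGroup_of_maximal hM hmaxK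
  set N := (Subgroup.zpowers x).subgroupOf C
  have hxC : x ∈ C := hDK hxD
  have hNle : Subgroup.zpowers x ≤ C := Subgroup.zpowers_le.2 hxC
  have hNc : N ≤ Subgroup.center C := fun n hn => Subgroup.mem_center_iff.2 fun a =>
    Subtype.ext ((Subgroup.mem_centralizer_iff.1 a.2 (n : G) hn).symm)
  have hNn : N.Normal := ⟨fun n hn g => by
    rwa [Subgroup.mem_center_iff.1 (hNc hn) g, mul_inv_cancel_right]⟩
  have hNp : IsPGroup p N :=
    hpair.1.1.of_equiv (Subgroup.subgroupOfEquivOfLe hNle).symm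
  have hNcard : Nat.card N = orderOf x := by
    rw [← Nat.card_zpowers]
    exact Nat.card_congr (Subgroup.subgroupOfEquivOfLe hNle).toEquiv
  letI := Fintype.ofFinite (C ⧸ N)
  obtain ⟨b', hb', hiff, -, -⟩ := BlockChar.exists_quotient_block N hM hNp hNc hind.1
  refine ⟨b, N, hNn, b', ⟨k, hk⟩, hpair, hind, hd, hNcard, hNp, hNc,
    fun n hn => hn, hb', hiff, fun D' hD' => ?_⟩
  obtain ⟨P, hP, hle'⟩ := BlockThms.QuotientDefect.exists_le_map N hM hb' hind.1
    (fun χ hχ ψ hψ => by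
      rw [show ψ = BlockChar.inflIrr N χ from Subtype.ext hψ]
      exact (hiff χ).1 hχ) hD'
  obtain ⟨g, hg⟩ := DefectThms.exists_defectGroup_conj hM hind.1 hDb hP
  have hxP : (⟨x, hxC⟩ : C) ∈ P := by
    rw [← hg]
    refine ⟨⟨x, hxC⟩, Subgroup.mem_subgroupOf.2 hxD, ?_⟩
    show g * (⟨x, hxC⟩ : C) * g⁻¹ = ⟨x, hxC⟩
    have : (⟨x, hxC⟩ : C) ∈ N := Subgroup.mem_zpowers x
    rw [Subgroup.mem_center_iff.1 (hNc this) g, mul_inv_cancel_right]
  have hNP : N ≤ P := fun n hn => by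
    obtain ⟨j, hj⟩ : (n : G) ∈ Subgroup.zpowers x := hn
    have : n = (⟨x, hxC⟩ : C) ^ j := Subtype.ext (by push_cast; exact hj.symm)
    rw [this]
    exact zpow_mem hxP j
  refine ⟨?_, BlockChar.blockRank_le_quotient N hM hNp hNc hind.1 hiff,
    (MulAut.conj (g : C ⧸ N)).toMonoidHom, D.subgroupOf C,
    (Subgroup.map_subgroupOf_eq_of_le hDK), ?_⟩
  · calc Nat.card N * Nat.card D' ≤ Nat.card N * Nat.card (P.map (QuotientGroup.mk' N)) :=
          Nat.mul_le_mul_left _ (Subgroup.card_le_of_le hle')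
      _ = Nat.card P := by
          rw [← Core.card_map_mk_mul N P, inf_eq_right.2 hNP, mul_comm]
      _ = Nat.card D := by
          rw [← hg, DefectThms.card_map_conj]
          exact Nat.card_congr (Subgroup.subgroupOfEquivOfLe hDK).toEquiv
  · refine hle'.trans (le_of_eq ?_)
    rw [← hg, Subgroup.map_map, Subgroup.map_map]
    congr 1

/-- A block with a two-generated abelian defect group has at most `p ^ d` characters. -/
theorem card_le_of_two_generated (hM : Cfsg.IsPModular p M) (hB : Cfsg.IsPBlock M B)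
    {D : Subgroup G} (hD : Cfsg.IsDefectGroup p M B D) {a y : G}
    (hDg : D = Subgroup.closure {a, y}) (hay : Commute a y) :
    Nat.card B ≤ Nat.card D := by
  classical
  haveI := Fact.mk hM.1
  have hab : ∀ g ∈ D, ∀ h ∈ D, g * h = h * g := by
    intro g hg h hh
    rw [hDg, mem_closure_pair_of_commute hay] at hg hh
    obtain ⟨i, j, rfl⟩ := hg
    obtain ⟨k, l, rfl⟩ := hh
    exact (((Commute.refl a).zpow_zpow i k).mul_right (hay.zpow_zpow i l)).mul_left
      ((hay.symm.zpow_zpow j k).mul_right ((Commute.refl y).zpow_zpow j l))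
  have haD : a ∈ D := hDg.symm ▸ Subgroup.subset_closure (Set.mem_insert a _)
  have hyD : y ∈ D := hDg.symm ▸ Subgroup.subset_closure (Set.mem_insert_of_mem _ (Set.mem_singleton y))
  letI := Fintype.ofFinite CG[Subgroup.zpowers a]
  obtain ⟨b, N, hNn, b', hx, hpair, hind, hd, hNcard, hNp, hNc, hNmem, hb', hiff, hall⟩ :=
    major_quotient_setup hM hB hD hab haD
  letI := Fintype.ofFinite (CG[Subgroup.zpowers a] ⧸ N)
  obtain ⟨D', hD'⟩ : ∃ D', Cfsg.IsDefectGroup p M b' D' :=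
    DefectThms.exists_defectGroup hM hb'
  obtain ⟨hcard, hrank, f, P, hP, hle⟩ := hall D' hD'
  have hk := major_card_le hM hx hpair hd
  rw [← BlockChar.card_defectGroup hM hB hD] at hk
  by_cases hbot : D' = ⊥
  · have h0 : Cfsg.blockDefect p b' = 0 := by
      have h := BlockChar.card_defectGroup hM hb' hD'
      rw [hbot, Subgroup.card_bot, eq_comm, Nat.pow_eq_one] at h
      exact h.resolve_left hM.1.one_lt.ne'
    have h1 : Cfsg.blockRank p b ≤ 1 := by
      refine hrank.trans ((BlockChar.blockRank_le_card b').trans ?_)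
      simpa [h0] using (BlockChar.card_le_pow_defect hM 0 _ b' hb' h0).1 (by norm_num)
    exact hk.trans ((Nat.mul_le_mul_right _ h1).trans_eq (one_mul _))
  have hcyc : IsCyclic D' := by
    have hyC : y ∈ CG[Subgroup.zpowers a] :=
      Subgroup.mem_centralizer_iff.2 fun g hg => hab g (Subgroup.zpowers_le.2 haD hg) y hyD
    suffices D' ≤ Subgroup.zpowers (f (⟨y, hyC⟩ : CG[Subgroup.zpowers a])) from
      isCyclic_of_injective (Subgroup.inclusion this) (Subgroup.inclusion_injective this)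
    refine hle.trans ?_
    rintro _ ⟨_, ⟨q, hq, rfl⟩, rfl⟩
    have hqD : (q : G) ∈ D := hP ▸ ⟨q, hq, rfl⟩
    rw [hDg, mem_closure_pair_of_commute hay] at hqD
    obtain ⟨m, n, hmn⟩ := hqD
    refine ⟨n, ?_⟩
    show f _ ^ n = f _
    rw [← map_zpow]
    congr 1
    rw [QuotientGroup.mk'_apply, ← QuotientGroup.mk_zpow, QuotientGroup.eq]
    have hz : ((⟨y, hyC⟩ : CG[Subgroup.zpowers a]) ^ n)⁻¹ * q ∈ N := by
      refine hNmem _ ⟨m, ?_⟩
      show a ^ m = (y ^ n)⁻¹ * (q : G)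
      rw [← hmn, (hay.zpow_zpow m n).eq, inv_mul_cancel_left]
    exact hz
  obtain ⟨c', hmax'⟩ := BrauerPairs.exists_maximal_on hM hb' hD'
  letI := Fintype.ofFinite (Subgroup.centralizer (D' : Set (CG[Subgroup.zpowers a] ⧸ N)))
  have hT : ∀ g, g ∈ BlockChar.Cyclic.pairStab (⟨D', c'⟩ : Cfsg.BrauerPairIdx _) ↔
      g ∈ Subgroup.normalizer (D' : Set (CG[Subgroup.zpowers a] ⧸ N)) ∧
        Cfsg.StabilizesBlock (Subgroup.centralizer (D' : Set (CG[Subgroup.zpowers a] ⧸ N))) c' g :=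
    BlockChar.Cyclic.mem_pairStab hM hmax'.1.1.2
  have : M.IsMaximal := hM.2.1
  obtain ⟨dd⟩ := BlockChar.Cyclic.nonempty_isoData hM hmax' hcyc hT hbot
  have hlt : 1 < Nat.card D' := (Subgroup.one_lt_card_iff_ne_bot D').2 hbot
  have hH : ∀ g : G, g ∈ CG[Subgroup.zpowers a] ↔ a * g = g * a := by
    intro g
    rw [Subgroup.mem_centralizer_iff]
    refine ⟨fun h => h a (Subgroup.mem_zpowers a), fun h c hc => ?_⟩
    obtain ⟨j, rfl⟩ := hc
    exact (Commute.zpow_left h j).eq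
  exact (card_le_of_cyclic_quotient hM hx hH hind hd N hNp hNc hb' hiff dd
    (BlockChar.Cyclic.blockRank_eq_relIndex hM hmax' hcyc hT) hlt).trans hcard

/-- A block whose abelian defect group has three generators, the first of largest order. -/
theorem card_pow_three_le_of_max_order (hM : Cfsg.IsPModular p M) (hB : Cfsg.IsPBlock M B)
    {D : Subgroup G} (hD : Cfsg.IsDefectGroup p M B D)
    (hab : ∀ g ∈ D, ∀ h ∈ D, g * h = h * g) {a y z : G}
    (hDg : D = Subgroup.closure {a, y, z}) (hy : orderOf y ≤ orderOf a)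
    (hz : orderOf z ≤ orderOf a) : Nat.card B ^ 3 ≤ Nat.card D ^ 5 := by
  classical
  haveI := Fact.mk hM.1
  have haD : a ∈ D := hDg.symm ▸ Subgroup.subset_closure (by simp)
  have hyD : y ∈ D := hDg.symm ▸ Subgroup.subset_closure (by simp)
  have hzD : z ∈ D := hDg.symm ▸ Subgroup.subset_closure (by simp)
  have hmem : ∀ g ∈ D, ∃ m n r : ℤ, a ^ m * (y ^ n * z ^ r) = g := fun g hg =>
    exists_zpow_of_mem_closure_triple (hab a haD y hyD) (hab a haD z hzD) (hab y hyD z hzD)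
      (hDg ▸ hg)
  letI := Fintype.ofFinite CG[Subgroup.zpowers a]
  obtain ⟨b, N, hNn, b', hx, hpair, hind, hd, hNcard, hNp, hNc, hNmem, hb', hiff, hall⟩ :=
    major_quotient_setup hM hB hD hab haD
  letI := Fintype.ofFinite (CG[Subgroup.zpowers a] ⧸ N)
  obtain ⟨D', hD'⟩ : ∃ D', Cfsg.IsDefectGroup p M b' D' :=
    DefectThms.exists_defectGroup hM hb'
  obtain ⟨hcard, hrank, f, P, hP, hle⟩ := hall D' hD'
  have hmC : ∀ g ∈ D, g ∈ CG[Subgroup.zpowers a] := fun g hg =>
    Subgroup.mem_centralizer_iff.2 fun c hc => hab c (Subgroup.zpowers_le.2 haD hc) g hg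
  set yC : CG[Subgroup.zpowers a] := ⟨y, hmC y hyD⟩
  set zC : CG[Subgroup.zpowers a] := ⟨z, hmC z hzD⟩
  have hyzC : Commute yC zC := Subtype.ext (hab y hyD z hzD)
  set φ := f.comp (QuotientGroup.mk' N)
  have hle2 : D' ≤ Subgroup.closure {φ yC, φ zC} := by
    refine hle.trans ?_
    rintro _ ⟨_, ⟨q, hq, rfl⟩, rfl⟩
    obtain ⟨m, n, r, hmn⟩ := hmem _ (hP ▸ ⟨q, hq, rfl⟩ : (q : G) ∈ D)
    refine (mem_closure_pair_of_commute (hyzC.map φ)).2 ⟨n, r, ?_⟩
    rw [← map_zpow, ← map_zpow, ← map_mul]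
    show f _ = f _
    congr 1
    rw [QuotientGroup.mk'_apply, QuotientGroup.mk'_apply, QuotientGroup.eq]
    refine hNmem _ ⟨m, ?_⟩
    show a ^ m = (y ^ n * z ^ r)⁻¹ * (q : G)
    have hay : Commute a y := hab a haD y hyD
    have haz : Commute a z := hab a haD z hzD
    rw [← hmn, ((hay.zpow_zpow m n).mul_right (haz.zpow_zpow m r)).eq, inv_mul_cancel_left]
  obtain ⟨u, v, huv⟩ := exists_pair_closure (hyzC.map φ) hle2
  have huvc : Commute u v := by
    have hu : u ∈ D' := huv.symm ▸ Subgroup.subset_closure (by simp)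
    have hv : v ∈ D' := huv.symm ▸ Subgroup.subset_closure (by simp)
    obtain ⟨i, j, rfl⟩ := (mem_closure_pair_of_commute (hyzC.map φ)).1 (hle2 hu)
    obtain ⟨k, l, rfl⟩ := (mem_closure_pair_of_commute (hyzC.map φ)).1 (hle2 hv)
    have h := hyzC.map φ
    exact (((Commute.refl _).zpow_zpow i k).mul_right (h.zpow_zpow i l)).mul_left
      ((h.symm.zpow_zpow j k).mul_right ((Commute.refl _).zpow_zpow j l))
  have hk' : Nat.card b' ≤ Nat.card D' := card_le_of_two_generated hM hb' hD' huv huvc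
  have hk : Nat.card B ≤ Nat.card D' * Nat.card D := by
    refine (major_card_le hM hx hpair hd).trans ?_
    rw [← BlockChar.card_defectGroup hM hB hD]
    exact Nat.mul_le_mul_right _ ((hrank.trans (BlockChar.blockRank_le_card b')).trans hk')
  have hDle : Nat.card D ≤ orderOf a * (orderOf y * orderOf z) := by
    let F : Subgroup.zpowers a × Subgroup.zpowers y × Subgroup.zpowers z → D := fun t =>
      ⟨(t.1 : G) * ((t.2.1 : G) * (t.2.2 : G)), mul_mem (Subgroup.zpowers_le.2 haD t.1.2)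
        (mul_mem (Subgroup.zpowers_le.2 hyD t.2.1.2) (Subgroup.zpowers_le.2 hzD t.2.2.2))⟩
    have hF : Function.Surjective F := fun g => by
      obtain ⟨m, n, r, h⟩ := hmem g g.2
      exact ⟨(⟨_, m, rfl⟩, ⟨_, n, rfl⟩, ⟨_, r, rfl⟩), Subtype.ext h⟩
    have h := Nat.card_le_card_of_surjective F hF
    rwa [Nat.card_prod, Nat.card_prod, Nat.card_zpowers, Nat.card_zpowers, Nat.card_zpowers] at h
  rw [hNcard] at hcard
  have h1 : Nat.card D ≤ orderOf a ^ 3 :=
    hDle.trans (le_of_le_of_eq (Nat.mul_le_mul_left _ (Nat.mul_le_mul hy hz)) (by ring))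
  have h2 : Nat.card D' ^ 3 ≤ Nat.card D ^ 2 := by
    refine Nat.le_of_mul_le_mul_right ?_ (Nat.card_pos (α := D))
    calc Nat.card D' ^ 3 * Nat.card D ≤ Nat.card D' ^ 3 * orderOf a ^ 3 :=
          Nat.mul_le_mul_left _ h1
      _ = (orderOf a * Nat.card D') ^ 3 := by ring
      _ ≤ Nat.card D ^ 3 := Nat.pow_le_pow_left hcard 3
      _ = Nat.card D ^ 2 * Nat.card D := by ring
  calc Nat.card B ^ 3 ≤ (Nat.card D' * Nat.card D) ^ 3 := Nat.pow_le_pow_left hk 3
    _ = Nat.card D' ^ 3 * Nat.card D ^ 3 := by ring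
    _ ≤ Nat.card D ^ 2 * Nat.card D ^ 3 := Nat.mul_le_mul_right _ h2
    _ = Nat.card D ^ 5 := by ring

/-- A block with a three-generated abelian defect group of order `p ^ d` has at most
`p ^ (5 d / 3)` characters. -/
theorem card_pow_three_le_of_three_generated (hM : Cfsg.IsPModular p M)
    (hB : Cfsg.IsPBlock M B) {D : Subgroup G} (hD : Cfsg.IsDefectGroup p M B D)
    (hab : ∀ g ∈ D, ∀ h ∈ D, g * h = h * g) {a y z : G}
    (hDg : D = Subgroup.closure {a, y, z}) : Nat.card B ^ 3 ≤ Nat.card D ^ 5 := by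
  rcases le_total (orderOf y) (orderOf a) with h1 | h1
  · rcases le_total (orderOf z) (orderOf a) with h2 | h2
    · exact card_pow_three_le_of_max_order hM hB hD hab hDg h1 h2
    · exact card_pow_three_le_of_max_order hM hB hD hab (a := z) (y := a) (z := y)
        (hDg.trans (congrArg _ (by ext; simp; tauto))) h2 (h1.trans h2)
  · rcases le_total (orderOf z) (orderOf y) with h2 | h2
    · exact card_pow_three_le_of_max_order hM hB hD hab (a := y) (y := a) (z := z)
        (hDg.trans (congrArg _ (by ext; simp; tauto))) h1 h2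
    · exact card_pow_three_le_of_max_order hM hB hD hab (a := z) (y := a) (z := y)
        (hDg.trans (congrArg _ (by ext; simp; tauto))) (h1.trans h2) h2

end Cfsg.Agent.Blocks.Star
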