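import Cfsg.Agent.Blocks.Star.Action
import Cfsg.Agent.BlockChar.DegreeSum
import Cfsg.Agent.BrauerPairs.FirstMain
import Cfsg.Agent.BrauerPairs.Saturation
import Cfsg.Agent.FusSys.KInfFocal
import Mathlib.NumberTheory.SumTwoSquares

/-!
# Blocks whose defect group has a p-group of automorphisms

The number of height zero characters is a multiple of `p`, by the action of the stable linear
characters for `p ≥ 5` and by the sum of squared degrees for `p ≤ 3`; the same sum bounds the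
number of orbits from below.
-/

set_option autoImplicit false

namespace Cfsg.Agent.Blocks.Star

open Cfsg.Agent Cfsg.Agent.Blocks

universe u

variable {G : Type u} [Group G] {p : ℕ} {M : Ideal Cfsg.AlgInt}
  {B : Set (Cfsg.IrrCharacter G)}

theorem sum_of_free {Γ : Type*} {X : Type u} [Group Γ] [MulAction Γ X] [Fintype X]
    (hfree : ∀ (g : Γ) (x : X), g • x = x → g = 1) (f : X → ℕ) (hf : ∀ (g : Γ) x, f (g • x) = f x) :
    ∃ (Q : Type u) (_ : Fintype Q) (r : Q → X),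
      Nat.card X = Nat.card Γ * Nat.card Q ∧ ∑ x, f x = Nat.card Γ * ∑ q, f (r q) := by
  classical
  letI := Fintype.ofFinite (Quotient (MulAction.orbitRel Γ X))
  refine ⟨Quotient (MulAction.orbitRel Γ X), inferInstance, Quotient.out, ?_⟩
  have horb : ∀ q : Quotient (MulAction.orbitRel Γ X),
      Nat.card (MulAction.orbit Γ q.out) = Nat.card Γ := fun q => by
    rw [Nat.card_coe_set_eq, ← MulAction.index_stabilizer Γ q.out,
      (Subgroup.eq_bot_iff_forall (MulAction.stabilizer Γ q.out)).2 fun g hg => hfree g q.out hg,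
      Subgroup.index_bot]
  have hcard : Nat.card X = Nat.card Γ * Nat.card (Quotient (MulAction.orbitRel Γ X)) := by
    rw [Nat.card_congr (MulAction.selfEquivSigmaOrbits Γ X), Nat.card_sigma,
      Finset.sum_congr rfl fun q _ => horb q, Finset.sum_const, Finset.card_univ,
      Nat.card_eq_fintype_card (α := Quotient (MulAction.orbitRel Γ X)), smul_eq_mul, mul_comm]
  refine ⟨hcard, ?_⟩
  rw [← (MulAction.selfEquivSigmaOrbits Γ X).symm.sum_comp, Fintype.sum_sigma, Finset.mul_sum]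
  refine Finset.sum_congr rfl fun q _ => ?_
  have h : ∀ y : MulAction.orbit Γ q.out,
      f ((MulAction.selfEquivSigmaOrbits Γ X).symm ⟨q, y⟩) = f q.out := fun y => by
    obtain ⟨g, hg⟩ := y.2
    show f y.1 = _
    rw [← show g • q.out = y.1 from hg, hf]
  rw [Finset.sum_congr rfl fun y _ => h y, Finset.sum_const, Finset.card_univ,
    ← Nat.card_eq_fintype_card, horb q, smul_eq_mul]

theorem two_le_of_dvd_sum_sq {p : ℕ} [Fact p.Prime] {Q : Type*} [Fintype Q] [Nonempty Q]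
    (n : Q → ℕ) (hn : ∀ q, ¬ p ∣ n q) (h : p ∣ ∑ q, n q ^ 2) :
    2 ≤ Nat.card Q ∧ (p % 4 = 3 → 3 ≤ Nat.card Q) := by
  classical
  rw [Nat.card_eq_fintype_card]
  have h0 : ∀ q, (n q : ZMod p) ≠ 0 := fun q hq => hn q ((ZMod.natCast_eq_zero_iff _ _).1 hq)
  have hsum : ∑ q, (n q : ZMod p) ^ 2 = 0 := by
    have := (ZMod.natCast_eq_zero_iff _ _).2 h
    push_cast at this
    exact this
  have hpos : 0 < Fintype.card Q := Fintype.card_pos
  have h2 : 2 ≤ Fintype.card Q := by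
    by_contra hlt
    obtain ⟨q, hq⟩ := Fintype.card_eq_one_iff.1 (by omega : Fintype.card Q = 1)
    rw [Finset.sum_eq_single q (fun b _ hb => absurd (hq b) hb) (by simp)] at hsum
    exact h0 q (eq_zero_of_pow_eq_zero hsum)
  refine ⟨h2, fun hp4 => ?_⟩
  by_contra hlt
  obtain ⟨a, b, hab, hu⟩ := Finset.card_eq_two.1
    (show (Finset.univ : Finset Q).card = 2 by rw [Finset.card_univ]; omega)
  rw [hu, Finset.sum_pair hab] at hsum
  exact ZMod.mod_four_ne_three_of_sq_eq_neg_sq' (h0 b) (eq_neg_of_add_eq_zero_left hsum) hp4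

theorem sq_eq_one_two : ∀ a : ZMod 2, a ≠ 0 → a ^ 2 = 1 := by decide

theorem sq_eq_one_three : ∀ a : ZMod 3, a ≠ 0 → a ^ 2 = 1 := by decide

theorem sq_mod_small {p n : ℕ} [hp : Fact p.Prime] (h : p = 2 ∨ p = 3) (hn : ¬ p ∣ n) :
    (n : ZMod p) ^ 2 = 1 := by
  have h0 : (n : ZMod p) ≠ 0 := fun hq => hn ((ZMod.natCast_eq_zero_iff _ _).1 hq)
  rcases h with rfl | rfl
  · exact sq_eq_one_two _ h0
  · exact sq_eq_one_three _ h0

variable [Finite G]

/-- The reduced degree sum, split by height. -/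
theorem dvd_sum_height_zero (hM : Cfsg.IsPModular p M) (hB : Cfsg.IsPBlock M B) {k : ℕ}
    (hk : k ≤ 2) (hkd : k ≤ Cfsg.blockDefect p B)
    [Fintype {χ : Cfsg.IrrCharacter G // χ ∈ B ∧ Cfsg.blockHeight p B (χ : G → ℂ) = 0}] :
    p ^ k ∣ ∑ χ : {χ : Cfsg.IrrCharacter G // χ ∈ B ∧ Cfsg.blockHeight p B (χ : G → ℂ) = 0},
      BlockChar.redDeg p B χ.1 ^ 2 := by
  classical
  have h := (BlockChar.redDeg_sq_sum hM hB).1
  have hsplit : BlockChar.bsum B (fun χ => (BlockChar.redDeg p B χ : ℤ) ^ 2) =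
      ((∑ χ : {χ : Cfsg.IrrCharacter G // χ ∈ B ∧ Cfsg.blockHeight p B (χ : G → ℂ) = 0},
          BlockChar.redDeg p B χ.1 ^ 2 : ℕ) : ℤ) +
        BlockChar.bsum B (fun χ => if Cfsg.blockHeight p B (χ : G → ℂ) = 0 then 0 else
          (BlockChar.redDeg p B χ : ℤ) ^ 2) := by
    push_cast
    rw [BlockChar.bsum, BlockChar.bsum, ← Finset.sum_subtype (Finset.univ.filter
      fun χ : Cfsg.IrrCharacter G => χ ∈ B ∧ Cfsg.blockHeight p B (χ : G → ℂ) = 0)
      (by simp) (fun χ => (BlockChar.redDeg p B χ : ℤ) ^ 2), Finset.sum_filter,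
      ← Finset.sum_add_distrib]
    refine Finset.sum_congr rfl fun χ _ => ?_
    by_cases h1 : χ ∈ B <;> by_cases h2 : Cfsg.blockHeight p B (χ : G → ℂ) = 0 <;> simp [h1, h2]
  have hrest : (p : ℤ) ^ k ∣ BlockChar.bsum B (fun χ =>
      if Cfsg.blockHeight p B (χ : G → ℂ) = 0 then 0 else (BlockChar.redDeg p B χ : ℤ) ^ 2) := by
    refine Finset.dvd_sum fun χ _ => ?_
    by_cases h1 : χ ∈ B
    · by_cases h2 : Cfsg.blockHeight p B (χ : G → ℂ) = 0
      · simp [h1, h2]
      · have hd : p ∣ BlockChar.redDeg p B χ := by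
          by_contra hnd
          exact h2 ((BlockChar.not_dvd_redDeg_iff hM.1 h1).1 hnd)
        simp only [if_pos h1, if_neg h2]
        exact (pow_dvd_pow (p : ℤ) hk).trans
          (pow_dvd_pow_of_dvd (Int.natCast_dvd_natCast.2 hd) 2)
    · rw [if_neg h1]; exact dvd_zero _
  have h' := (pow_dvd_pow (p : ℤ) hkd).trans h
  rw [hsplit, dvd_add_left hrest] at h'
  exact_mod_cast h'

theorem dvd_card_height_zero_small (hM : Cfsg.IsPModular p M) (hB : Cfsg.IsPBlock M B)
    (hp : p = 2 ∨ p = 3) (hd : 1 ≤ Cfsg.blockDefect p B) :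
    p ∣ Nat.card {χ : Cfsg.IrrCharacter G // χ ∈ B ∧ Cfsg.blockHeight p B (χ : G → ℂ) = 0} := by
  classical
  haveI := Fact.mk hM.1
  letI := Fintype.ofFinite
    {χ : Cfsg.IrrCharacter G // χ ∈ B ∧ Cfsg.blockHeight p B (χ : G → ℂ) = 0}
  have h := (ZMod.natCast_eq_zero_iff _ p).2
    (pow_one p ▸ dvd_sum_height_zero hM hB (k := 1) (by omega) hd)
  rw [Nat.cast_sum, Finset.sum_congr rfl fun χ _ => by
    rw [Nat.cast_pow, sq_mod_small hp ((BlockChar.not_dvd_redDeg_iff hM.1 χ.2.1).2 χ.2.2)]] at h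
  rw [Nat.card_eq_fintype_card, ← ZMod.natCast_eq_zero_iff]
  simpa using h

theorem not_isPGroup_mulAut {D : Subgroup G} [Fact p.Prime] (hp : 2 < p)
    (hD : Nat.card D = p) : ¬ IsPGroup p (MulAut ↥D) := by
  intro h
  haveI : IsCyclic D := isCyclic_of_prime_card hD
  obtain ⟨n, hn⟩ := IsPGroup.iff_card.1 h
  rw [IsCyclic.card_mulAut, hD, Nat.totient_prime Fact.out] at hn
  rcases n with _ | n
  · simp at hn; omega
  · have : p ∣ p - 1 := hn ▸ dvd_pow_self p (Nat.succ_ne_zero n)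
    have := Nat.le_of_dvd (by omega) this
    omega

/-- A defect group with a p-group of automorphisms: height zero characters come in multiples of
`p`, and there are enough of them. -/
theorem height_zero_count_of_aut_pGroup (hM : Cfsg.IsPModular p M) (hB : Cfsg.IsPBlock M B)
    {D : Subgroup G} (hD : Cfsg.IsDefectGroup p M B D) (hD1 : D ≠ ⊥)
    (hAut : IsPGroup p (MulAut ↥D)) :
    p ∣ Nat.card {χ : Cfsg.IrrCharacter G // χ ∈ B ∧ Cfsg.blockHeight p B (χ : G → ℂ) = 0} ∧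
      (3 < p → 2 * p ≤
        Nat.card {χ : Cfsg.IrrCharacter G // χ ∈ B ∧ Cfsg.blockHeight p B (χ : G → ℂ) = 0}) ∧
      (3 < p → p % 4 = 3 → 3 * p ≤
        Nat.card {χ : Cfsg.IrrCharacter G // χ ∈ B ∧ Cfsg.blockHeight p B (χ : G → ℂ) = 0}) := by
  classical
  haveI := Fact.mk hM.1
  letI := Fintype.ofFinite G
  have hcard := BlockChar.card_defectGroup hM hB hD
  have hd : 1 ≤ Cfsg.blockDefect p B := by
    by_contra h
    rw [show Cfsg.blockDefect p B = 0 by omega, pow_zero] at hcard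
    exact hD1 (Subgroup.card_eq_one.1 hcard)
  by_cases hsmall : p = 2 ∨ p = 3
  · exact ⟨dvd_card_height_zero_small hM hB hsmall hd, fun h => by omega, fun h => by omega⟩
  have h5 : 5 ≤ p := by
    have := hM.1.two_le
    rcases not_or.1 hsmall with ⟨h2, h3⟩
    have h4 : p ≠ 4 := fun h => by rw [h] at hM; exact (by norm_num : ¬ Nat.Prime 4) hM.1
    omega
  have hd2 : 2 ≤ Cfsg.blockDefect p B := by
    by_contra h
    rw [show Cfsg.blockDefect p B = 1 by omega, pow_one] at hcard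
    exact not_isPGroup_mulAut (by omega) hcard hAut
  obtain ⟨e, hmax⟩ := BrauerPairs.exists_maximal_on hM hB hD
  obtain ⟨F, hF⟩ := BrauerPairs.exists_isBlockFusionSystemOn hM hmax
  have hDp : IsPGroup p D := hmax.1.1.1
  have hlt := FusSys.focal_lt_of_aut h5 hDp (BrauerPairs.isSaturated_blockFusion hM hmax hF) hD1
    (hAut.to_subgroup _)
  haveI := normal_focal_subgroupOf hF
  set K := F.focalSubgroup.subgroupOf D with hK
  obtain ⟨j, hj⟩ := hDp.index K
  have hj1 : 1 ≤ j := by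
    by_contra h0
    rw [show j = 0 by omega, pow_zero, Subgroup.index_eq_one, Subgroup.subgroupOf_eq_top] at hj
    exact not_le_of_gt hlt hj
  letI : CommGroup (D ⧸ K) :=
    { (inferInstance : Group (D ⧸ K)) with
      mul_comm := (Subgroup.Normal.quotient_commutative_iff_commutator_le.2
        (commutator_le_focal hF)).is_comm.comm }
  haveI : NeZero (Monoid.exponent (D ⧸ K)) := ⟨Monoid.exponent_ne_zero_of_finite⟩
  letI := lamAction hM hF
  let S := {χ : Cfsg.IrrCharacter G // χ ∈ B ∧ Cfsg.blockHeight p B (χ : G → ℂ) = 0}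
  letI : Fintype S := Fintype.ofFinite _
  have hdeg : ∀ (l : (D ⧸ K) →* ℂˣ) (χ : B),
      Cfsg.charDegree (((l • χ : B) : Cfsg.IrrCharacter G) : G → ℂ) =
        Cfsg.charDegree ((χ : Cfsg.IrrCharacter G) : G → ℂ) := fun l χ => by
    simp only [Cfsg.charDegree, (smul_spec hM hF l χ).2]
  letI : MulAction ((D ⧸ K) →* ℂˣ) S :=
    { smul := fun l χ => ⟨(l • (⟨χ.1, χ.2.1⟩ : B) : B), (l • (⟨χ.1, χ.2.1⟩ : B) : B).2, by
        rw [BlockChar.blockHeight_eq, hdeg, ← BlockChar.blockHeight_eq]; exact χ.2.2⟩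
      one_smul := fun χ => Subtype.ext
        (congrArg (Subtype.val : B → Cfsg.IrrCharacter G) (one_smul ((D ⧸ K) →* ℂˣ) (⟨χ.1, χ.2.1⟩ : B)))
      mul_smul := fun l l' χ => by
        have h := congrArg (Subtype.val : B → Cfsg.IrrCharacter G)
          ((lamAction hM hF).mul_smul l l' (⟨χ.1, χ.2.1⟩ : B))
        exact Subtype.ext h }
  obtain ⟨Q, hQ, r, hk, hsum⟩ := sum_of_free (Γ := (D ⧸ K) →* ℂˣ) (X := S)
    (fun l χ h => eq_one_of_fixed_height_zero hM hF l ⟨χ.1, χ.2.1⟩ χ.2.2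
      (Subtype.ext (congrArg (Subtype.val : S → Cfsg.IrrCharacter G) h)))
    (fun χ => BlockChar.redDeg p B χ.1 ^ 2)
    (fun l χ => congrArg (· ^ 2) (by
      unfold BlockChar.redDeg
      exact congrArg (· / p ^ BlockChar.minVal p B) (hdeg l ⟨χ.1, χ.2.1⟩)))
  rw [CommGroup.card_monoidHom_of_hasEnoughRootsOfUnity, ← Subgroup.index_eq_card, hj] at hk hsum
  change p ∣ Nat.card S ∧ (3 < p → 2 * p ≤ Nat.card S) ∧ (3 < p → p % 4 = 3 → 3 * p ≤ Nat.card S)
  haveI : Nonempty Q := by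
    obtain ⟨χ, hχ, h0⟩ := BlockThms.exists_height_zero hM hB
    by_contra hQe
    rw [not_nonempty_iff] at hQe
    haveI : Nonempty S := ⟨⟨χ, hχ, h0⟩⟩
    have h := Nat.card_pos (α := S)
    have h' : Nat.card Q = 0 := Nat.card_of_isEmpty
    rw [hk, h', mul_zero] at h
    exact absurd h (lt_irrefl 0)
  have hQpos : 1 ≤ Nat.card Q := Nat.card_pos
  refine ⟨hk ▸ Dvd.dvd.mul_right (dvd_pow_self p (by omega)) _, ?_⟩
  by_cases hj2 : 2 ≤ j
  · have hpp : 3 * p ≤ Nat.card S := by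
      rw [hk]
      calc 3 * p ≤ p * p := Nat.mul_le_mul_right _ (by omega)
        _ = p ^ 2 * 1 := by ring
        _ ≤ p ^ j * Nat.card Q := Nat.mul_le_mul (Nat.pow_le_pow_right hM.1.pos hj2) hQpos
    exact ⟨fun _ => le_trans (by omega) hpp, fun _ _ => hpp⟩
  · obtain rfl : j = 1 := by omega
    have hdvd : p ∣ ∑ q, BlockChar.redDeg p B (r q).1 ^ 2 := by
      have h := dvd_sum_height_zero hM hB (k := 2) le_rfl hd2
      rw [show (∑ χ : S, BlockChar.redDeg p B χ.1 ^ 2) = _ from hsum, pow_one, sq] at h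
      exact (Nat.mul_dvd_mul_iff_left hM.1.pos).1 h
    obtain ⟨h2, h3⟩ := two_le_of_dvd_sum_sq (fun q => BlockChar.redDeg p B (r q).1)
      (fun q => (BlockChar.not_dvd_redDeg_iff hM.1 (r q).2.1).2 (r q).2.2) hdvd
    rw [hk, pow_one]
    exact ⟨fun _ => by nlinarith, fun _ h => by nlinarith [h3 h]⟩

end Cfsg.Agent.Blocks.Star
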