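import Mathlib.RingTheory.Idempotents
import Mathlib.RingTheory.Nilpotent.Basic
import Mathlib.Algebra.Polynomial.Div
import Mathlib.Algebra.Polynomial.FieldDivision
import Mathlib.FieldTheory.Minpoly.Field
import Mathlib.FieldTheory.IsAlgClosed.Basic
import Mathlib.LinearAlgebra.Dimension.Finite
import Mathlib.Algebra.Ring.Subring.Basic

/-!
# Primitive idempotents in rings that are finite dimensional algebras modulo a nil ideal

`π : A →+* B` has nil kernel, `B` is a finite dimensional algebra over an algebraically closed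
field and `C` is a subring of `A` containing central lifts of all scalars.  The corner of a
primitive idempotent of `C` is then local with residue field `k`.
-/

namespace Cfsg.Agent.Blocks.Star

open Polynomial

variable {A B k : Type*} [Ring A] [Field k] [Ring B] [Algebra k B] {π : A →+* B} {C : Subring A}

variable (k π C) in
/-- The standing hypothesis. -/
structure IsLift : Prop where
  nil : ∀ x, π x = 0 → IsNilpotent x
  scal : ∀ c : k, ∃ a ∈ C, (∀ y : A, Commute a y) ∧ π a = algebraMap k B c

/-- `x` lies in `e C f`. -/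
def InCorner (C : Subring A) (e f x : A) : Prop := x ∈ C ∧ e * x = x ∧ x * f = x

theorem InCorner.zero (C : Subring A) (e f : A) : InCorner C e f 0 :=
  ⟨C.zero_mem, mul_zero _, zero_mul _⟩

theorem InCorner.self {i : A} (hi : i ∈ C) (hid : IsIdempotentElem i) : InCorner C i i i :=
  ⟨hi, hid, hid⟩

theorem InCorner.add {e f x y : A} (hx : InCorner C e f x) (hy : InCorner C e f y) :
    InCorner C e f (x + y) :=
  ⟨C.add_mem hx.1 hy.1, by rw [mul_add, hx.2.1, hy.2.1], by rw [add_mul, hx.2.2, hy.2.2]⟩

theorem InCorner.neg {e f x : A} (hx : InCorner C e f x) : InCorner C e f (-x) :=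
  ⟨C.neg_mem hx.1, by rw [mul_neg, hx.2.1], by rw [neg_mul, hx.2.2]⟩

theorem InCorner.sub {e f x y : A} (hx : InCorner C e f x) (hy : InCorner C e f y) :
    InCorner C e f (x - y) := sub_eq_add_neg x y ▸ hx.add hy.neg

theorem InCorner.mul {e f g x y : A} (hx : InCorner C e f x) (hy : InCorner C f g y) :
    InCorner C e g (x * y) :=
  ⟨C.mul_mem hx.1 hy.1, by rw [← mul_assoc, hx.2.1], by rw [mul_assoc, hy.2.2]⟩

theorem InCorner.sum {e f : A} {ι : Type*} (s : Finset ι) {x : ι → A}
    (h : ∀ i ∈ s, InCorner C e f (x i)) : InCorner C e f (∑ i ∈ s, x i) := by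
  classical
  induction s using Finset.induction_on with
  | empty => simpa using InCorner.zero C e f
  | insert a s ha ih =>
    rw [Finset.sum_insert ha]
    exact (h a (Finset.mem_insert_self a s)).add (ih fun i hi => h i (Finset.mem_insert_of_mem hi))

/-- The lift of a scalar. -/
noncomputable def IsLift.lift (h : IsLift k π C) (c : k) : A := (h.scal c).choose

theorem IsLift.lift_mem (h : IsLift k π C) (c : k) : h.lift c ∈ C := (h.scal c).choose_spec.1

theorem IsLift.lift_comm (h : IsLift k π C) (c : k) (y : A) : Commute (h.lift c) y :=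
  (h.scal c).choose_spec.2.1 y

theorem IsLift.map_lift (h : IsLift k π C) (c : k) : π (h.lift c) = algebraMap k B c :=
  (h.scal c).choose_spec.2.2

theorem IsLift.map_lift_mul (h : IsLift k π C) (c : k) (x : A) :
    π (h.lift c * x) = c • π x := by
  rw [map_mul, h.map_lift, Algebra.smul_def]

theorem InCorner.lift_mul (h : IsLift k π C) (c : k) {e f x : A} (hx : InCorner C e f x) :
    InCorner C e f (h.lift c * x) :=
  ⟨C.mul_mem (h.lift_mem c) hx.1,
    by rw [← mul_assoc, ← (h.lift_comm c e).eq, mul_assoc, hx.2.1], by rw [mul_assoc, hx.2.2]⟩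

theorem IsLift.isNilpotent (h : IsLift k π C) {x : A} (hx : IsNilpotent (π x)) : IsNilpotent x := by
  obtain ⟨n, hn⟩ := hx
  exact IsNilpotent.of_pow (h.nil (x ^ n) (by rw [map_pow, hn]))

theorem IsLift.eq_zero_of_map (h : IsLift k π C) {e : A} (he : IsIdempotentElem e)
    (h0 : IsNilpotent (π e)) : e = 0 :=
  he.eq_zero_of_isNilpotent (h.isNilpotent h0)

/-- Powers with an idempotent unit. -/
theorem pow_mul_of_mul_eq {x w e : A} (hxw : x * w = e) (hc : Commute x w)
    (he : IsIdempotentElem e) : ∀ n : ℕ, x ^ (n + 1) * w ^ (n + 1) = e := fun n => by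
  rw [← hc.mul_pow, hxw, he.pow_succ_eq]

variable [FiniteDimensional k B]

/-- Fitting's lemma in a corner. -/
theorem IsLift.fitting (h : IsLift k π C) {i x : A} (hi : i ∈ C) (hid : IsIdempotentElem i)
    (hx : InCorner C i i x) :
    ∃ e w : A, InCorner C i i e ∧ IsIdempotentElem e ∧ InCorner C i i w ∧ e * w = w ∧ w * e = w ∧
      x * w = e ∧ w * x = e ∧ Commute x e ∧ IsNilpotent (x * (i - e)) := by
  classical
  set S := Subring.closure ({x, i} ∪ Set.range h.lift) with hS
  have hxi : x * i = i * x := hx.2.2.trans hx.2.1.symm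
  have hcomm : IsMulCommutative S := by
    refine Subring.isMulCommutative_closure fun a ha b hb => ?_
    rcases ha with ha | ⟨c, rfl⟩
    · rcases hb with hb | ⟨c', rfl⟩
      · simp only [Set.mem_insert_iff, Set.mem_singleton_iff] at ha hb
        rcases ha with rfl | rfl <;> rcases hb with rfl | rfl <;>
          first | rfl | exact hxi | exact hxi.symm
      · exact (h.lift_comm c' a).eq.symm
    · exact (h.lift_comm c b).eq
  have hcS : ∀ a ∈ S, ∀ b ∈ S, a * b = b * a := fun a ha b hb =>
    congrArg Subtype.val (mul_comm' (⟨a, ha⟩ : S) ⟨b, hb⟩)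
  have hSC : S ≤ C := by
    rw [hS, Subring.closure_le]
    rintro a (ha | ⟨c, rfl⟩)
    · simp only [Set.mem_insert_iff, Set.mem_singleton_iff] at ha
      rcases ha with rfl | rfl
      exacts [hx.1, hi]
    · exact h.lift_mem c
  have hxS : x ∈ S := Subring.subset_closure (by simp)
  have hiS : i ∈ S := Subring.subset_closure (by simp)
  set y := π x with hy
  have hlift : ∀ P : k[X], ∃ s ∈ S, π s = aeval y P := by
    intro P
    induction P using Polynomial.induction_on with
    | C c => exact ⟨h.lift c, Subring.subset_closure (Or.inr ⟨c, rfl⟩), by rw [h.map_lift, aeval_C]⟩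
    | add P Q hP hQ =>
      obtain ⟨s, hs, es⟩ := hP
      obtain ⟨t, ht, et⟩ := hQ
      exact ⟨s + t, S.add_mem hs ht, by rw [map_add, map_add, es, et]⟩
    | monomial n c ih =>
      obtain ⟨s, hs, es⟩ := ih
      refine ⟨s * x, S.mul_mem hs hxS, ?_⟩
      rw [map_mul, es, pow_succ, ← mul_assoc, map_mul _ (_ * _) X, aeval_X]
  have hint : IsIntegral k y := IsIntegral.of_finite k y
  set m := minpoly k y
  obtain ⟨q, hmq, hq⟩ := exists_eq_pow_rootMultiplicity_mul_and_not_dvd m (minpoly.ne_zero hint) 0
  set r := m.rootMultiplicity 0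
  rw [C_0, sub_zero] at hmq hq
  obtain ⟨a, b, hab⟩ : IsCoprime ((X : k[X]) ^ r) q := (irreducible_X.coprime_iff_not_dvd.2 hq).pow_left
  have hmy : ∀ P : k[X], aeval y (m * P) = 0 := fun P => by rw [map_mul, minpoly.aeval, zero_mul]
  set et := aeval y (a * X ^ r) with het
  have het2 : IsIdempotentElem et := by
    have key : aeval y (a * X ^ r * (a * X ^ r)) = aeval y (a * X ^ r) := by
      rw [show a * X ^ r * (a * X ^ r) = a * X ^ r - m * (a * b) by
        linear_combination (a * X ^ r) * hab + (a * b) * hmq, map_sub, hmy, sub_zero]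
    simpa only [IsIdempotentElem, het, map_mul] using key
  obtain ⟨s₀, hs₀, es₀⟩ := hlift (a * X ^ r)
  obtain ⟨⟨e₀, he₀S⟩, he₀, he₀π⟩ := exists_isIdempotentElem_eq_of_ker_isNilpotent
    (π.comp S.subtype) (fun z hz => (IsNilpotent.map_iff (f := S.subtype) Subtype.val_injective).1
      (h.nil z.1 hz)) et ⟨⟨s₀, hs₀⟩, es₀⟩ het2
  change π e₀ = et at he₀π
  have he₀' : e₀ * e₀ = e₀ := congrArg Subtype.val he₀
  set e := e₀ * i with he
  have heS : e ∈ S := S.mul_mem he₀S hiS
  have heid : e * e = e := by
    rw [he, mul_assoc, ← mul_assoc i, hcS i hiS e₀ he₀S, mul_assoc, hid.eq, ← mul_assoc, he₀']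
  have hei : e * i = e := by rw [he, mul_assoc, hid.eq]
  have hie : i * e = e := by rw [hcS i hiS e heS, hei]
  set q0 := q.coeff 0 with hq0
  have hq00 : q0 ≠ 0 := fun h0 => hq (X_dvd_iff.2 h0)
  set v : k[X] := -(Polynomial.C q0⁻¹) * q.divX with hv
  have hXv : X * v = 1 - Polynomial.C q0⁻¹ * q := by
    have h1 : X * q.divX + Polynomial.C q0 = q := X_mul_divX_add q
    have h2 : Polynomial.C q0⁻¹ * Polynomial.C q0 = 1 := by
      rw [← map_mul, inv_mul_cancel₀ hq00, map_one]
    rw [hv]
    linear_combination (-Polynomial.C q0⁻¹) * h1 + h2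
  have hyv : y * aeval y v * et = et := by
    have h1 : aeval y (X * v * (a * X ^ r)) = aeval y (a * X ^ r) := by
      rw [show X * v * (a * X ^ r) = a * X ^ r - m * (Polynomial.C q0⁻¹ * a) by
        linear_combination (a * X ^ r) * hXv + (Polynomial.C q0⁻¹ * a) * hmq, map_sub, hmy, sub_zero]
    simpa only [het, map_mul, aeval_X] using h1
  obtain ⟨w₀, hw₀S, hw₀⟩ := hlift v
  set n := x * w₀ * e - e with hn
  have hnS : n ∈ S := S.sub_mem (S.mul_mem (S.mul_mem hxS hw₀S) heS) heS
  have hπn : π n = 0 := by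
    rw [hn, he, map_sub, map_mul, map_mul, map_mul, he₀π, hw₀, ← hy, ← mul_assoc, hyv, sub_self]
  obtain ⟨u, hu⟩ :=
    (((IsNilpotent.map_iff (f := S.subtype) Subtype.val_injective).1 (h.nil n hπn) :
      IsNilpotent (⟨n, hnS⟩ : S))).isUnit_one_add
  set u' : A := ((u⁻¹ : Sˣ) : S).1 with hu'
  have hu'S : u' ∈ S := ((u⁻¹ : Sˣ) : S).2
  have huu : (1 + n) * u' = 1 := by
    have := congrArg (fun z : S => (z : A)) u.mul_inv
    simpa [hu, hu'] using this
  have hne : n * e = n := by rw [hn, sub_mul, mul_assoc, heid]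
  set w := w₀ * e * u' with hw
  have hwS : w ∈ S := S.mul_mem (S.mul_mem hw₀S heS) hu'S
  have hwe : w * e = w := by
    rw [hw, mul_assoc, hcS u' hu'S e heS, ← mul_assoc, mul_assoc w₀, heid]
  have hew : e * w = w := by rw [hcS e heS w hwS, hwe]
  have hxw : x * w = e := by
    have h1 : x * w₀ * e = e * (1 + n) := by
      rw [mul_add, mul_one, hcS e heS n hnS, hne, hn]; abel
    rw [hw, ← mul_assoc, ← mul_assoc, h1, mul_assoc, huu, mul_one]
  refine ⟨e, w, ⟨hSC heS, hie, hei⟩, heid, ⟨hSC hwS, ?_, ?_⟩, hew, hwe, hxw, ?_,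
    hcS x hxS e heS, ?_⟩
  · rw [← hew, ← mul_assoc, hie]
  · rw [← hwe, mul_assoc, hei]
  · rw [hcS w hwS x hxS, hxw]
  · refine h.isNilpotent ⟨r + 1, ?_⟩
    have h1 : π (x * (i - e)) = aeval y (X * (1 - a * X ^ r)) * π i := by
      rw [map_mul, map_sub, he, map_mul, he₀π, map_mul, map_sub, map_one, aeval_X, het, ← hy]
      rw [mul_assoc, sub_mul, one_mul]
    have hc : Commute (aeval y (X * (1 - a * X ^ r))) (π i) := by
      obtain ⟨s, hs, es⟩ := hlift (X * (1 - a * X ^ r))
      rw [← es]
      exact (show Commute s i from hcS s hs i hiS).map π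
    rw [h1, hc.mul_pow, ← map_pow]
    have h3 : (X : k[X]) * (1 - a * X ^ r) = X * (b * q) := by
      linear_combination (-(X : k[X])) * hab
    rw [h3, show ((X : k[X]) * (b * q)) ^ (r + 1) = m * (X * b ^ (r + 1) * q ^ r) by
      rw [hmq, mul_pow, mul_pow, pow_succ q, pow_succ (X : k[X]) r]; ring, hmy, zero_mul]

/-- A primitive idempotent of `C`. -/
def Prim (C : Subring A) (i : A) : Prop :=
  i ∈ C ∧ IsIdempotentElem i ∧ i ≠ 0 ∧
    ∀ e, InCorner C i i e → IsIdempotentElem e → e = 0 ∨ e = i

omit [FiniteDimensional k B] in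
theorem Prim.ne_nilpotent {i : A} (hi : Prim C i) : ¬ IsNilpotent i := fun h =>
  hi.2.2.1 (hi.2.1.eq_zero_of_isNilpotent h)

omit [FiniteDimensional k B] in
theorem Prim.map_ne_zero (h : IsLift k π C) {i : A} (hi : Prim C i) : π i ≠ 0 := fun h0 =>
  hi.ne_nilpotent (h.nil i h0)

/-- In the corner of a primitive idempotent every element is a unit or nilpotent. -/
theorem Prim.unit_or_nilpotent (h : IsLift k π C) {i x : A} (hi : Prim C i)
    (hx : InCorner C i i x) :
    IsNilpotent x ∨ ∃ w, InCorner C i i w ∧ x * w = i ∧ w * x = i := by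
  obtain ⟨e, w, he, heid, hw, -, -, hxw, hwx, -, hnil⟩ := h.fitting hi.1 hi.2.1 hx
  rcases hi.2.2.2 e he heid with rfl | rfl
  · left; rwa [sub_zero, hx.2.2] at hnil
  · exact Or.inr ⟨w, hw, hxw, hwx⟩

theorem Prim.mul_nilpotent (h : IsLift k π C) {i a x : A} (hi : Prim C i) (ha : InCorner C i i a)
    (hx : InCorner C i i x) (hn : IsNilpotent x) : IsNilpotent (a * x) := by
  rcases hi.unit_or_nilpotent h (ha.mul hx) with h1 | ⟨w, hw, -, hwax⟩
  · exact h1
  exfalso
  have key : ∀ n : ℕ, (w * a) ^ (n + 1) * x ^ (n + 1) = i := by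
    intro n
    induction n with
    | zero => simpa [mul_assoc] using hwax
    | succ n ih =>
      rw [pow_succ, pow_succ' x, show (w * a) ^ (n + 1) * (w * a) * (x * x ^ (n + 1)) =
        (w * a) ^ (n + 1) * (w * (a * x) * x ^ (n + 1)) by simp [mul_assoc], hwax,
        show i * x ^ (n + 1) = x ^ (n + 1) by rw [pow_succ', ← mul_assoc, hx.2.1], ih]
  obtain ⟨n, hn⟩ := hn
  have := key n
  rw [pow_succ x, hn, zero_mul, mul_zero] at this
  exact hi.2.2.1 this.symm

theorem Prim.nilpotent_mul (h : IsLift k π C) {i a x : A} (hi : Prim C i) (ha : InCorner C i i a)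
    (hx : InCorner C i i x) (hn : IsNilpotent x) : IsNilpotent (x * a) := by
  obtain ⟨n, hn'⟩ := hi.mul_nilpotent h ha hx hn
  refine ⟨n + 1, ?_⟩
  have : ∀ m : ℕ, (x * a) ^ (m + 1) = x * (a * x) ^ m * a := by
    intro m
    induction m with
    | zero => simp
    | succ m ih => rw [pow_succ, ih, pow_succ (a * x)]; simp [mul_assoc]
  rw [this, hn', mul_zero, zero_mul]

theorem Prim.add_nilpotent (h : IsLift k π C) {i x y : A} (hi : Prim C i) (hx : InCorner C i i x)
    (hy : InCorner C i i y) (hnx : IsNilpotent x) (hny : IsNilpotent y) : IsNilpotent (x + y) := by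
  rcases hi.unit_or_nilpotent h (hx.add hy) with h1 | ⟨w, hw, -, hw'⟩
  · exact h1
  exfalso
  have h2 := hi.mul_nilpotent h hw hx hnx
  have h3 : w * y = i - w * x := by rw [← hw', mul_add]; abel
  obtain ⟨n, hn⟩ := hi.mul_nilpotent h hw hy hny
  rw [h3] at hn
  have key : (1 - w * x) ^ n * i = (i - w * x) ^ n * i := by
    clear hn
    induction n with
    | zero => simp
    | succ n ih =>
      have e1 : i - w * x = (1 - w * x) * i := by
        rw [sub_mul, one_mul, mul_assoc, hx.2.2]
      have hc : Commute (i - w * x) i := by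
        show (i - w * x) * i = i * (i - w * x)
        rw [sub_mul, mul_sub, mul_assoc, hx.2.2, ← mul_assoc, hw.2.1]
      rw [pow_succ, pow_succ, mul_assoc, mul_assoc, hc.eq, ← mul_assoc _ i, ← ih, mul_assoc]
      congr 1
      rw [mul_sub, hi.2.1.eq, ← mul_assoc, hw.2.1, sub_mul, one_mul, mul_assoc, hx.2.2]
  rw [hn, zero_mul] at key
  obtain ⟨u, hu⟩ := h2.isUnit_one_sub
  have : i = 0 := by
    have h4 : ((u ^ n : Aˣ) : A) * i = 0 := by rw [Units.val_pow_eq_pow_val, hu, key]
    exact (Units.mul_right_eq_zero (u ^ n)).1 h4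
  exact hi.2.2.1 this

theorem Prim.sum_nilpotent (h : IsLift k π C) {i : A} (hi : Prim C i) {ι : Type*} (s : Finset ι)
    {x : ι → A} (hx : ∀ t ∈ s, InCorner C i i (x t)) (hn : ∀ t ∈ s, IsNilpotent (x t)) :
    IsNilpotent (∑ t ∈ s, x t) := by
  classical
  induction s using Finset.induction_on with
  | empty => simp
  | insert a s ha ih =>
    rw [Finset.sum_insert ha]
    exact hi.add_nilpotent h (hx a (Finset.mem_insert_self a s))
      (InCorner.sum s fun t ht => hx t (Finset.mem_insert_of_mem ht))
      (hn a (Finset.mem_insert_self a s))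
      (ih (fun t ht => hx t (Finset.mem_insert_of_mem ht)) fun t ht =>
        hn t (Finset.mem_insert_of_mem ht))

variable [IsAlgClosed k]

theorem Prim.exists_res (h : IsLift k π C) {i x : A} (hi : Prim C i) (hx : InCorner C i i x) :
    ∃ c : k, IsNilpotent (x - h.lift c * i) := by
  classical
  suffices H : ∀ (d : ℕ) (P : k[X]), P.natDegree ≤ d → P ≠ 0 → aeval (π x) P * π i = 0 →
      ∃ c : k, IsNilpotent (x - h.lift c * i) by
    have hint : IsIntegral k (π x) := IsIntegral.of_finite k _
    exact H _ _ le_rfl (minpoly.ne_zero hint) (by rw [minpoly.aeval, zero_mul])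
  intro d
  induction d with
  | zero =>
    intro P hP hP0 hann
    rw [eq_C_of_natDegree_le_zero hP] at hann hP0
    rw [aeval_C, ← Algebra.smul_def, smul_eq_zero] at hann
    rcases hann with h0 | h0
    · exact absurd (by rw [h0, C_0]) hP0
    · exact absurd h0 (hi.map_ne_zero h)
  | succ d ih =>
    intro P hP hP0 hann
    by_cases hd : P.natDegree ≤ d
    · exact ih P hd hP0 hann
    obtain ⟨c, hc⟩ := IsAlgClosed.exists_root P (by
      rw [degree_eq_natDegree hP0]
      have : P.natDegree ≠ 0 := by omega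
      exact_mod_cast this)
    obtain ⟨Q, rfl⟩ := dvd_iff_isRoot.2 hc
    rcases hi.unit_or_nilpotent h (hx.sub ((InCorner.self hi.1 hi.2.1).lift_mul h c)) with hn |
      ⟨w, hw, -, hwx⟩
    · exact ⟨c, hn⟩
    refine ih Q ?_ (right_ne_zero_of_mul hP0) ?_
    · rw [natDegree_mul (X_sub_C_ne_zero c) (right_ne_zero_of_mul hP0), natDegree_X_sub_C] at hP
      omega
    · have hxQ : Commute (π x) (aeval (π x) Q) := by
        conv_lhs => rw [← aeval_X (R := k) (π x)]
        exact (Commute.all X Q).map (aeval (π x))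
      have hxi : π x * π i = π i * π x := by rw [← map_mul, ← map_mul, hx.2.1, hx.2.2]
      have hcQ : Commute (π i) (aeval (π x) Q) := by
        clear * - hxi
        induction Q using Polynomial.induction_on' with
        | add a b ha hb => rw [map_add]; exact ha.add_right hb
        | monomial n a =>
          rw [aeval_monomial]
          exact (Algebra.commute_algebraMap_right a _).mul_right ((show Commute (π i) (π x) from
            hxi.symm).pow_right n)
      have h1 : π (x - h.lift c * i) * aeval (π x) Q = 0 := by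
        rw [map_mul, map_sub, aeval_X, aeval_C] at hann
        rw [map_sub, map_mul, h.map_lift, sub_mul, mul_assoc _ (π i), hcQ.eq, ← mul_assoc]
        rw [sub_mul, sub_mul] at hann
        rw [← hann]
        congr 1
        rw [mul_assoc, ← hcQ.eq, ← mul_assoc, ← map_mul π x i, hx.2.2]
      have h2 := congrArg (π w * ·) h1
      simp only [mul_zero, ← mul_assoc, ← map_mul, hwx] at h2
      rw [← hcQ.eq]; exact h2

/-- The residue of an element of a corner. -/
noncomputable def res (π : A →+* B) (i x : A) : k :=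
  Classical.epsilon fun c : k => IsNilpotent (π x - c • π i)

theorem Prim.res_spec (h : IsLift k π C) {i x : A} (hi : Prim C i) (hx : InCorner C i i x) :
    IsNilpotent (x - h.lift (res π i x) * i) := by
  obtain ⟨c, hc⟩ := hi.exists_res h hx
  have hex : ∃ c : k, IsNilpotent (π x - c • π i) :=
    ⟨c, by have := hc.map π; rwa [map_sub, h.map_lift_mul] at this⟩
  refine h.isNilpotent ?_
  rw [map_sub, h.map_lift_mul]
  exact Classical.epsilon_spec hex

theorem Prim.res_unique (h : IsLift k π C) {i x : A} (hi : Prim C i) (hx : InCorner C i i x)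
    {c : k} (hc : IsNilpotent (x - h.lift c * i)) : res π i x = c := by
  by_contra hne
  have h1 := hi.res_spec h hx
  have hcor : ∀ d : k, InCorner C i i (x - h.lift d * i) := fun d =>
    hx.sub ((InCorner.self hi.1 hi.2.1).lift_mul h d)
  obtain ⟨n, hn⟩ := hi.add_nilpotent h (hcor c) (hcor (res π i x)).neg hc h1.neg
  have h2 := congrArg π hn
  rw [map_pow, map_zero, map_add, map_neg, map_sub, map_sub, h.map_lift_mul, h.map_lift_mul,
    show π x - c • π i + -(π x - (res π i x) • π i) = (res π i x - c) • π i by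
      rw [sub_smul]; abel, smul_pow, smul_eq_zero] at h2
  rcases h2 with h2 | h2
  · exact hne (sub_eq_zero.1 (eq_zero_of_pow_eq_zero h2))
  · exact hi.map_ne_zero h ((hi.2.1.map π).eq_zero_of_isNilpotent ⟨n, h2⟩)

theorem Prim.res_self (h : IsLift k π C) {i : A} (hi : Prim C i) : res π i i = (1 : k) := by
  refine hi.res_unique h (InCorner.self hi.1 hi.2.1) (h.isNilpotent ?_)
  rw [map_sub, h.map_lift_mul, one_smul, sub_self]
  exact IsNilpotent.zero

theorem Prim.res_eq_zero_iff (h : IsLift k π C) {i x : A} (hi : Prim C i)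
    (hx : InCorner C i i x) : (res π i x : k) = 0 ↔ IsNilpotent x := by
  constructor
  · intro h0
    have h1 := (hi.res_spec h hx).map π
    rw [h0, map_sub, h.map_lift_mul, zero_smul, sub_zero] at h1
    exact h.isNilpotent h1
  · intro hn
    refine hi.res_unique h hx (h.isNilpotent ?_)
    rw [map_sub, h.map_lift_mul, zero_smul, sub_zero]
    exact hn.map π

theorem Prim.res_add (h : IsLift k π C) {i x y : A} (hi : Prim C i) (hx : InCorner C i i x)
    (hy : InCorner C i i y) : (res π i (x + y) : k) = res π i x + res π i y := by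
  refine hi.res_unique h (hx.add hy) (h.isNilpotent ?_)
  have h1 := (hi.add_nilpotent h (hx.sub ((InCorner.self hi.1 hi.2.1).lift_mul h _))
    (hy.sub ((InCorner.self hi.1 hi.2.1).lift_mul h _)) (hi.res_spec h hx) (hi.res_spec h hy)).map π
  rw [map_add, map_sub, map_sub, h.map_lift_mul, h.map_lift_mul] at h1
  rw [map_sub, h.map_lift_mul, map_add, add_smul]
  convert h1 using 1
  abel

theorem Prim.res_mul (h : IsLift k π C) {i x y : A} (hi : Prim C i) (hx : InCorner C i i x)
    (hy : InCorner C i i y) : (res π i (x * y) : k) = res π i x * res π i y := by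
  refine hi.res_unique h (hx.mul hy) (h.isNilpotent ?_)
  set a : k := res π i x
  set b : k := res π i y
  have hself := InCorner.self hi.1 hi.2.1
  have hca := hx.sub (hself.lift_mul h a)
  have hcb := hy.sub (hself.lift_mul h b)
  have h1 := (hi.add_nilpotent h (hca.mul hy) ((hself.lift_mul h a).mul hcb)
    (hi.nilpotent_mul h hy hca (hi.res_spec h hx))
    (hi.mul_nilpotent h (hself.lift_mul h a) hcb (hi.res_spec h hy))).map π
  rw [map_add, map_mul, map_mul, map_sub, map_sub, h.map_lift_mul, h.map_lift_mul, sub_mul,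
    mul_sub, smul_mul_assoc, smul_mul_assoc, mul_smul_comm, ← map_mul π i i, hi.2.1.eq,
    smul_smul, ← map_mul π i y, hy.2.1] at h1
  rw [map_sub, h.map_lift_mul, map_mul]
  convert h1 using 1
  abel

theorem Prim.res_sum (h : IsLift k π C) {i : A} (hi : Prim C i) {ι : Type*} (s : Finset ι)
    {x : ι → A} (hx : ∀ t ∈ s, InCorner C i i (x t)) :
    (res π i (∑ t ∈ s, x t) : k) = ∑ t ∈ s, res π i (x t) := by
  classical
  induction s using Finset.induction_on with
  | empty => simpa using (hi.res_eq_zero_iff h (InCorner.zero C i i)).2 IsNilpotent.zero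
  | insert a s ha ih =>
    rw [Finset.sum_insert ha, Finset.sum_insert ha,
      hi.res_add h (hx a (Finset.mem_insert_self a s))
        (InCorner.sum s fun t ht => hx t (Finset.mem_insert_of_mem ht)),
      ih fun t ht => hx t (Finset.mem_insert_of_mem ht)]

end Cfsg.Agent.Blocks.Star
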