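import Cfsg.Agent.Blocks.Star.Corner
import Mathlib.Algebra.CharP.Lemmas
import Mathlib.Algebra.CharP.Algebra
import Mathlib.Algebra.MonoidAlgebra.Basic
import Mathlib.Data.ZMod.Basic
import Mathlib.Algebra.Field.ZMod
import Mathlib.FieldTheory.IsAlgClosed.Basic

/-!
# Green's indecomposability theorem for idempotents

An inner action of a group of order `p` on `C`; a primitive idempotent of the fixed subring that
is a relative trace is the sum of the conjugates of an idempotent orthogonal to its conjugates.
-/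

namespace Cfsg.Agent.Blocks.Star

open Polynomial

variable {A B k : Type*} [Ring A] [Field k] [Ring B] [Algebra k B] [FiniteDimensional k B]
  [IsAlgClosed k] {π : A →+* B} {C : Subring A}

/-- Conjugation by a unit. -/
def cj (u : Aˣ) (x : A) : A := u * x * (u⁻¹ : Aˣ)

omit [FiniteDimensional k B] [IsAlgClosed k] in
theorem cj_mul (u : Aˣ) (x y : A) : cj u (x * y) = cj u x * cj u y := by
  simp [cj, mul_assoc]

theorem cj_zero (u : Aˣ) : cj u (0 : A) = 0 := by simp [cj]

theorem cj_sum (u : Aˣ) {ι : Type*} (s : Finset ι) (x : ι → A) :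
    cj u (∑ i ∈ s, x i) = ∑ i ∈ s, cj u (x i) := by
  simp [cj, Finset.mul_sum, Finset.sum_mul]

theorem cj_inv_cj (u : Aˣ) (x : A) : cj u⁻¹ (cj u x) = x := by simp [cj, mul_assoc]

theorem cj_injective (u : Aˣ) : Function.Injective (cj u) :=
  Function.LeftInverse.injective (cj_inv_cj u)

theorem isIdempotentElem_cj {u : Aˣ} {x : A} (hx : IsIdempotentElem x) :
    IsIdempotentElem (cj u x) := by
  rw [IsIdempotentElem, ← cj_mul, hx.eq]

theorem isNilpotent_cj {u : Aˣ} {x : A} (hx : IsNilpotent x) : IsNilpotent (cj u x) := by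
  obtain ⟨n, hn⟩ := hx
  refine ⟨n + 1, ?_⟩
  have : ∀ m : ℕ, cj u x ^ (m + 1) = cj u (x ^ (m + 1)) := by
    intro m
    induction m with
    | zero => simp
    | succ m ih => rw [pow_succ, ih, ← cj_mul, ← pow_succ]
  rw [this, pow_succ, hn, zero_mul, cj_zero]

theorem cj_eq_self_of_commute {u : Aˣ} {x : A} (h : ∀ y, Commute x y) : cj u x = x := by
  rw [cj, ← (h u).eq, mul_assoc, Units.mul_inv, mul_one]

omit [FiniteDimensional k B] [IsAlgClosed k] in
/-- An element congruent to `c • i` stays congruent under a change of corner. -/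
theorem IsLift.res_conj_step (h : IsLift k π C) {l m z y X : A} {c : k} (hzy : z * y = l)
    (hyz : y * z = m) (hzm : z * m = z) (hXm : m * X = X) (hXm' : X * m = X)
    (hX : IsNilpotent (X - h.lift c * m)) : IsNilpotent (z * X * y - h.lift c * l) := by
  obtain ⟨n, hn⟩ := hX
  refine ⟨n + 1, ?_⟩
  set d := X - h.lift c * m with hd
  have hmd : m * d = d := by
    have hmm : m * m = m := by
      calc m * m = y * (z * m) := by rw [← mul_assoc, hyz]
        _ = m := by rw [hzm, hyz]
    rw [hd, mul_sub, hXm, ← mul_assoc, ← (h.lift_comm c m).eq, mul_assoc, hmm]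
  have e : z * X * y - h.lift c * l = z * d * y := by
    rw [hd, mul_sub, sub_mul, ← mul_assoc z (h.lift c), ← (h.lift_comm c z).eq, mul_assoc (h.lift c),
      hzm, mul_assoc (h.lift c), hzy]
  have key : ∀ t : ℕ, (z * d * y) ^ (t + 1) = z * d ^ (t + 1) * y := by
    intro t
    induction t with
    | zero => simp
    | succ t ih =>
      rw [pow_succ, ih, pow_succ d (t + 1),
        show z * d ^ (t + 1) * y * (z * d * y) = z * d ^ (t + 1) * ((y * z) * d) * y by
          simp [mul_assoc], hyz, hmd]
      simp [mul_assoc]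
  rw [e, key, pow_succ, hn, zero_mul, mul_zero, zero_mul]

variable {ι : Type*}

/-- Nakayama's lemma for a system of corners. -/
theorem eq_zero_of_system (h : IsLift k π C) {L : ι → A} (hL : ∀ s, Prim C (L s)) (S : Finset ι) :
    ∀ (K : ι → ι → A) (u : ι → A), (∀ s ∈ S, ∀ r ∈ S, InCorner C (L s) (L r) (K s r)) →
      (∀ s ∈ S, ∀ r ∈ S, ∀ y, InCorner C (L r) (L s) y → IsNilpotent (K s r * y)) →
      (∀ s ∈ S, L s * u s = u s) → (∀ s ∈ S, u s = ∑ r ∈ S, K s r * u r) → ∀ s ∈ S, u s = 0 := by
  classical
  induction S using Finset.induction_on with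
  | empty => intro _ _ _ _ _ _ s hs; exact absurd hs (Finset.notMem_empty s)
  | insert a S ha ih =>
    intro K u hK hJ hu heq
    have haS := Finset.mem_insert_self a S
    have hS : ∀ {s}, s ∈ S → s ∈ insert a S := Finset.mem_insert_of_mem
    have hKaa := hK a haS a haS
    have hself := InCorner.self (hL a).1 (hL a).2.1
    rcases (hL a).unit_or_nilpotent h (hself.sub hKaa) with hn | ⟨w, hw, -, hw'⟩
    · exfalso
      have h1 : IsNilpotent (K a a) := by
        have := hJ a haS a haS _ hself
        rwa [hKaa.2.2] at this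
      have h2 := (hL a).add_nilpotent h (hself.sub hKaa) hKaa hn h1
      rw [sub_add_cancel] at h2
      exact (hL a).ne_nilpotent h2
    have hua : u a = ∑ r ∈ S, w * K a r * u r := by
      have h1 := heq a haS
      rw [Finset.sum_insert ha] at h1
      have h2 : (L a - K a a) * u a = ∑ r ∈ S, K a r * u r := by
        rw [sub_mul, hu a haS]
        exact sub_eq_iff_eq_add'.2 h1
      calc u a = L a * u a := (hu a haS).symm
        _ = w * ((L a - K a a) * u a) := by rw [← mul_assoc, hw']
        _ = _ := by rw [h2, Finset.mul_sum]; simp [mul_assoc]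
    have hwK : ∀ r ∈ S, InCorner C (L a) (L r) (w * K a r) := fun r hr => hw.mul (hK a haS r (hS hr))
    have hrest : ∀ s ∈ S, u s = 0 := by
      refine ih (fun s r => K s r + K s a * (w * K a r)) u
        (fun s hs r hr => (hK s (hS hs) r (hS hr)).add ((hK s (hS hs) a haS).mul (hwK r hr)))
        (fun s hs r hr y hy => ?_) (fun s hs => hu s (hS hs)) fun s hs => ?_
      · rw [add_mul, mul_assoc]
        exact (hL s).add_nilpotent h ((hK s (hS hs) r (hS hr)).mul hy)
          ((hK s (hS hs) a haS).mul ((hwK r hr).mul hy)) (hJ s (hS hs) r (hS hr) y hy)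
          (hJ s (hS hs) a haS _ ((hwK r hr).mul hy))
      · have h1 := heq s (hS hs)
        rw [Finset.sum_insert ha] at h1
        rw [h1, hua, Finset.mul_sum, ← Finset.sum_add_distrib]
        exact Finset.sum_congr rfl fun r _ => by rw [add_mul, add_comm]; simp [mul_assoc]
    intro s hs
    rcases Finset.mem_insert.1 hs with rfl | hs
    · rw [hua]; exact Finset.sum_eq_zero fun r hr => by rw [hrest r hr, mul_zero]
    · exact hrest s hs

variable {p : ℕ} [Fact p.Prime] {g : ZMod p → Aˣ}

/-- The hypotheses on the action. -/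
structure IsAction (C : Subring A) (g : ZMod p → Aˣ) : Prop where
  mem : ∀ t, ∀ x ∈ C, cj (g t) x ∈ C
  add : ∀ s t, ∀ x ∈ C, cj (g (s + t)) x = cj (g s) (cj (g t) x)

theorem IsAction.zero (hg : IsAction C g) {x : A} (hx : x ∈ C) : cj (g 0) x = x := by
  apply cj_injective (g 0)
  rw [← hg.add 0 0 x hx, add_zero]

theorem IsAction.inCorner (hg : IsAction C g) (t : ZMod p) {e f x : A} (hx : InCorner C e f x) :
    InCorner C (cj (g t) e) (cj (g t) f) (cj (g t) x) :=
  ⟨hg.mem t x hx.1, by rw [← cj_mul, hx.2.1], by rw [← cj_mul, hx.2.2]⟩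

theorem IsAction.prim (hg : IsAction C g) (t : ZMod p) {l : A} (hl : Prim C l) :
    Prim C (cj (g t) l) := by
  refine ⟨hg.mem t l hl.1, isIdempotentElem_cj hl.2.1, fun h0 => hl.2.2.1
    (cj_injective (g t) (h0.trans (cj_zero _).symm)), fun e he hid => ?_⟩
  have hb := hg.inCorner (-t) he
  rw [← hg.add (-t) t l hl.1, neg_add_cancel, hg.zero hl.1] at hb
  have hback : cj (g t) (cj (g (-t)) e) = e := by
    rw [← hg.add t (-t) e he.1, add_neg_cancel, hg.zero he.1]
  rcases hl.2.2.2 _ hb (isIdempotentElem_cj hid) with h0 | h0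
  · left; rw [← hback, h0, cj_zero]
  · right; rw [← hback, h0]

/-- The residual coordinates on the crossed product corner of a primitive idempotent. -/
theorem exists_coordinates (h : IsLift k π C) (hg : IsAction C g) {l : A} (hl : Prim C l) :
    ∃ α : ZMod p → A → k,
      (∀ t (ι : Finset (ZMod p)) (x : ZMod p → A), (∀ s ∈ ι, InCorner C l (cj (g t) l) (x s)) →
        α t (∑ s ∈ ι, x s) = ∑ s ∈ ι, α t (x s)) ∧
      α 0 l = 1 ∧
      (∀ s t x y, InCorner C l (cj (g s) l) x → InCorner C l (cj (g t) l) y →
        α (s + t) (x * cj (g s) y) = α s x * α t y) ∧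
      (∀ t x, InCorner C l (cj (g t) l) x → α t x = 0 →
        ∀ y, InCorner C (cj (g t) l) l y → IsNilpotent (x * y)) := by
  classical
  have hp : p.Prime := Fact.out
  have hgl0 : cj (g 0) l = l := hg.zero hl.1
  by_cases hcase : ∃ z y, InCorner C l (cj (g 1) l) z ∧ InCorner C (cj (g 1) l) l y ∧
      z * y = l ∧ y * z = cj (g 1) l
  · obtain ⟨z, y, hz, hy, hzy, hyz⟩ := hcase
    let L : ℕ → A := fun n => cj (g (n : ZMod p)) l
    let zs : ℕ → A := fun n => Nat.rec l (fun n r => r * cj (g (n : ZMod p)) z) n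
    let ys : ℕ → A := fun n => Nat.rec l (fun n r => cj (g (n : ZMod p)) y * r) n
    have hL0 : L 0 = l := by simp only [L, Nat.cast_zero, hgl0]
    have hLsucc : ∀ n : ℕ, cj (g (n : ZMod p)) (cj (g 1) l) = L (n + 1) := fun n => by
      rw [← hg.add _ _ l hl.1]; simp only [L, Nat.cast_add, Nat.cast_one]
    have hzs : ∀ n, InCorner C l (L n) (zs n) ∧ InCorner C (L n) l (ys n) ∧
        zs n * ys n = l ∧ ys n * zs n = L n := by
      intro n
      induction n with
      | zero =>
        rw [hL0]
        exact ⟨InCorner.self hl.1 hl.2.1, InCorner.self hl.1 hl.2.1, hl.2.1, hl.2.1⟩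
      | succ n ih =>
        obtain ⟨h1, h2, h3, h4⟩ := ih
        have a1 := hg.inCorner (n : ZMod p) hz
        have a2 := hg.inCorner (n : ZMod p) hy
        rw [hLsucc] at a1 a2
        refine ⟨h1.mul a1, a2.mul h2, ?_, ?_⟩
        · show zs n * cj (g (n : ZMod p)) z * (cj (g (n : ZMod p)) y * ys n) = l
          rw [show zs n * cj (g (n : ZMod p)) z * (cj (g (n : ZMod p)) y * ys n) =
            zs n * (cj (g (n : ZMod p)) z * cj (g (n : ZMod p)) y) * ys n by simp [mul_assoc],
            ← cj_mul, hzy, h1.2.2, h3]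
        · show cj (g (n : ZMod p)) y * ys n * (zs n * cj (g (n : ZMod p)) z) = L (n + 1)
          rw [show cj (g (n : ZMod p)) y * ys n * (zs n * cj (g (n : ZMod p)) z) =
            cj (g (n : ZMod p)) y * (ys n * zs n) * cj (g (n : ZMod p)) z by simp [mul_assoc], h4,
            a2.2.2, ← cj_mul, hyz, hLsucc]
    have hys_add : ∀ m n, ys (m + n) = cj (g (m : ZMod p)) (ys n) * ys m := by
      intro m n
      induction n with
      | zero => exact (hzs m).2.1.2.1.symm
      | succ n ih =>
        show cj (g ((m + n : ℕ) : ZMod p)) y * ys (m + n) = _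
        rw [ih, Nat.cast_add, hg.add _ _ y hy.1, ← mul_assoc, ← cj_mul]
    have hLp : L p = l := by simp only [L, ZMod.natCast_self, hgl0]
    set c : k := res π l (ys p) with hc
    have hyp : InCorner C l l (ys p) := by have := (hzs p).2.1; rwa [hLp] at this
    have hc0 : c ≠ 0 := fun h0 => by
      have hn := (hl.res_eq_zero_iff h hyp).1 h0
      have hzp : InCorner C l l (zs p) := by have := (hzs p).1; rwa [hLp] at this
      have := hl.mul_nilpotent h hzp hyp hn
      rw [(hzs p).2.2.1] at this
      exact hl.ne_nilpotent this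
    obtain ⟨μ, hμ⟩ := IsAlgClosed.exists_pow_nat_eq c⁻¹ hp.pos
    let D : ℕ → A → k := fun n X => μ ^ n * res π l (X * ys n)
    have htrans : ∀ (m : ℕ) (X : A), InCorner C l l X →
        (res π l (zs m * cj (g (m : ZMod p)) X * ys m) : k) = res π l X := by
      intro m X hX
      obtain ⟨b1, b2, b3, b4⟩ := hzs m
      have hcX := hg.inCorner (m : ZMod p) hX
      refine hl.res_unique h ((b1.mul hcX).mul b2)
        (h.res_conj_step b3 b4 b1.2.2 hcX.2.1 hcX.2.2 ?_)
      have := isNilpotent_cj (u := g (m : ZMod p)) (hl.res_spec h hX)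
      rw [cj, mul_sub, sub_mul] at this
      convert this using 1
      congr 1
      have e : ∀ a : A, (∀ b, Commute a b) → a * cj (g (m : ZMod p)) l =
          (g (m : ZMod p) : A) * (a * l) * ((g (m : ZMod p))⁻¹ : Aˣ) := fun a ha => by
        rw [cj, ← mul_assoc (g (m : ZMod p) : A) a l, ← (ha _).eq]; simp [mul_assoc]
      exact e _ (h.lift_comm _)
    have hDmul : ∀ m n X Y, InCorner C l (L m) X → InCorner C l (L n) Y →
        D (m + n) (X * cj (g (m : ZMod p)) Y) = D m X * D n Y := by
      intro m n X Y hX hY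
      obtain ⟨b1, b2, b3, b4⟩ := hzs m
      have hYy : InCorner C l l (Y * ys n) := hY.mul (hzs n).2.1
      have hXy : InCorner C l l (X * ys m) := hX.mul b2
      have hcY := hg.inCorner (m : ZMod p) hYy
      have e : X * cj (g (m : ZMod p)) Y * ys (m + n) =
          (X * ys m) * (zs m * cj (g (m : ZMod p)) (Y * ys n) * ys m) := by
        rw [show (X * ys m) * (zs m * cj (g (m : ZMod p)) (Y * ys n) * ys m) =
          X * (ys m * zs m) * cj (g (m : ZMod p)) (Y * ys n) * ys m by simp [mul_assoc], b4, hX.2.2,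
          hys_add, cj_mul]
        simp [mul_assoc]
      simp only [D, e, pow_add]
      rw [hl.res_mul h hXy ((b1.mul hcY).mul b2), htrans m _ hYy]
      ring
    have hDper : ∀ n X, InCorner C l (L n) X → D (n + p) X = D n X := by
      intro n X hX
      have hX' : X = X * cj (g (n : ZMod p)) l := hX.2.2.symm
      rw [hX', hDmul n p X l hX (by rw [hLp]; exact InCorner.self hl.1 hl.2.1), ← hX']
      suffices D p l = 1 by rw [this, mul_one]
      simp only [D, hμ, hyp.2.1, ← hc, inv_mul_cancel₀ hc0]
    refine ⟨fun t X => D t.val X, fun t s x hx => ?_, ?_, fun s t X Y hX hY => ?_,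
      fun t X hX h0 Y hY => ?_⟩
    · simp only [D, Finset.sum_mul]
      rw [hl.res_sum h s fun i hi => by
        have := (hx i hi).mul (e := l) (g := l) (y := ys t.val) (by
          have := (hzs t.val).2.1; simpa only [L, ZMod.natCast_zmod_val] using this)
        exact this, Finset.mul_sum]
    · simp only [ZMod.val_zero]
      show μ ^ 0 * res π l (l * ys 0) = 1
      rw [show ys 0 = l from rfl, hl.2.1.eq, pow_zero, one_mul, hl.res_self h]
    · have hX' : InCorner C l (L s.val) X := by simpa only [L, ZMod.natCast_zmod_val] using hX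
      have hY' : InCorner C l (L t.val) Y := by simpa only [L, ZMod.natCast_zmod_val] using hY
      have := hDmul s.val t.val X Y hX' hY'
      rw [ZMod.natCast_zmod_val] at this
      rw [← this]
      show D (s + t).val _ = _
      rw [ZMod.val_add]
      rcases Nat.lt_or_ge (s.val + t.val) p with hlt | hge
      · rw [Nat.mod_eq_of_lt hlt]
      · have hlt2 : s.val + t.val - p < p := by have := s.val_lt; have := t.val_lt; omega
        rw [Nat.mod_eq_sub_mod hge, Nat.mod_eq_of_lt hlt2]
        conv_rhs => rw [← Nat.sub_add_cancel hge]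
        refine (hDper _ _ ?_).symm
        have e1 : L (s.val + t.val - p) = cj (g (s + t)) l := by
          simp only [L, Nat.cast_sub hge, Nat.cast_add, ZMod.natCast_zmod_val, ZMod.natCast_self,
            sub_zero]
        rw [e1, hg.add _ _ l hl.1]
        exact hX.mul (hg.inCorner s hY)
    · obtain ⟨b1, b2, b3, b4⟩ := hzs t.val
      have hL : L t.val = cj (g t) l := by simp only [L, ZMod.natCast_zmod_val]
      rw [hL] at b1 b2 b4
      have hμ0 : μ ≠ 0 := fun h => by
        rw [h, zero_pow hp.ne_zero] at hμ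
        exact inv_ne_zero hc0 hμ.symm
      have hn : IsNilpotent (X * ys t.val) := (hl.res_eq_zero_iff h (hX.mul b2)).1
        ((mul_eq_zero.1 h0).resolve_left (pow_ne_zero _ hμ0))
      have e : X * Y = (X * ys t.val) * (zs t.val * Y) := by
        rw [show (X * ys t.val) * (zs t.val * Y) = X * (ys t.val * zs t.val) * Y by
          simp [mul_assoc], b4, hX.2.2]
      rw [e]
      exact hl.nilpotent_mul h (b1.mul hY) (hX.mul b2) hn
  · have hJ : ∀ t : ZMod p, t ≠ 0 → ∀ x y, InCorner C l (cj (g t) l) x →
        InCorner C (cj (g t) l) l y → IsNilpotent (x * y) := by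
      intro t ht x y hx hy
      rcases hl.unit_or_nilpotent h (hx.mul hy) with hn | ⟨w, hw, hxyw, -⟩
      · exact hn
      exfalso
      set y' := y * w
      have hy' : InCorner C (cj (g t) l) l y' := hy.mul hw
      have hxy : x * y' = l := by rw [← mul_assoc, hxyw]
      have hidem : IsIdempotentElem (y' * x) := by
        show y' * x * (y' * x) = y' * x
        rw [show y' * x * (y' * x) = y' * (x * y') * x by simp [mul_assoc], hxy, hy'.2.2]
      have hyx : y' * x = cj (g t) l := by
        rcases (hg.prim t hl).2.2.2 _ (hy'.mul hx) hidem with h0 | h0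
        · exfalso
          refine hl.2.2.1 ?_
          calc l = x * y' * (x * y') := by rw [hxy, hl.2.1.eq]
            _ = x * (y' * x) * y' := by simp [mul_assoc]
            _ = 0 := by rw [h0, mul_zero, zero_mul]
        · exact h0
      have hiter : ∀ n : ℕ, ∃ z y, InCorner C l (cj (g (n * t)) l) z ∧
          InCorner C (cj (g (n * t)) l) l y ∧ z * y = l ∧ y * z = cj (g (n * t)) l := by
        intro n
        induction n with
        | zero =>
          simp only [Nat.cast_zero, zero_mul, hgl0]
          exact ⟨l, l, InCorner.self hl.1 hl.2.1, InCorner.self hl.1 hl.2.1, hl.2.1, hl.2.1⟩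
        | succ n ih =>
          obtain ⟨z, v, hz, hv, hzv, hvz⟩ := ih
          set u : ZMod p := n * t
          have he : cj (g u) (cj (g t) l) = cj (g ((n + 1 : ℕ) * t)) l := by
            rw [← hg.add u t l hl.1]; congr 2; push_cast; ring
          have a1 := hg.inCorner u hx
          have a2 := hg.inCorner u hy'
          rw [he] at a1 a2
          refine ⟨z * cj (g u) x, cj (g u) y' * v, hz.mul a1, a2.mul hv, ?_, ?_⟩
          · rw [show z * cj (g u) x * (cj (g u) y' * v) = z * (cj (g u) x * cj (g u) y') * v by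
              simp [mul_assoc], ← cj_mul, hxy, hz.2.2, hzv]
          · rw [show cj (g u) y' * v * (z * cj (g u) x) = cj (g u) y' * (v * z) * cj (g u) x by
              simp [mul_assoc], hvz, a2.2.2, ← cj_mul, hyx, he]
      obtain ⟨z, v, hz, hv, hzv, hvz⟩ := hiter (t⁻¹).val
      rw [ZMod.natCast_zmod_val, inv_mul_cancel₀ ht] at hz hv hvz
      exact hcase ⟨z, v, hz, hv, hzv, hvz⟩
    refine ⟨fun t X => if t = 0 then res π l X else 0, fun t s x hx => ?_,
      by simp only [if_true]; exact hl.res_self h, fun s t X Y hX hY => ?_,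
      fun t X hX h0 Y hY => ?_⟩
    · dsimp only
      split_ifs with ht
      · subst ht; rw [hgl0] at hx; exact hl.res_sum h s hx
      · rw [Finset.sum_const_zero]
    · dsimp only
      by_cases hs : s = 0
      · subst hs
        rw [hgl0] at hX
        by_cases ht : t = 0
        · subst ht
          rw [hgl0] at hY
          simp only [add_zero, if_true, hg.zero hY.1]
          exact hl.res_mul h hX hY
        · simp [ht]
      · rw [if_neg hs, zero_mul]
        split_ifs with hst
        · have hc' := hg.inCorner s hY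
          rw [← hg.add s t l hl.1, hst, hgl0] at hc'
          exact (hl.res_eq_zero_iff h (hX.mul hc')).2 (hJ s hs X _ hX hc')
        · rfl
    · dsimp only at h0
      by_cases ht : t = 0
      · subst ht
        rw [hgl0] at hX hY
        rw [if_pos rfl] at h0
        exact hl.nilpotent_mul h hY hX ((hl.res_eq_zero_iff h hX).1 h0)
      · exact hJ t ht X Y hX hY

/-- An idempotent for the twisted convolution with vanishing coordinates vanishes. -/
theorem eq_zero_of_conv (h : IsLift k π C) (hg : IsAction C g) {l : A} (hl : Prim C l)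
    {F : ZMod p → A} (hF : ∀ t, InCorner C l (cj (g t) l) (F t))
    (hconv : ∀ q, ∑ s, F s * cj (g s) (F (q - s)) = F q)
    (hJ : ∀ t y, InCorner C (cj (g t) l) l y → IsNilpotent (F t * y)) (q : ZMod p) : F q = 0 := by
  classical
  set L : ZMod p → A := fun s => cj (g s) l with hL
  have hcor : ∀ s r : ZMod p, InCorner C (L s) (L r) (cj (g s) (F (r - s))) := by
    intro s r
    have := hg.inCorner s (hF (r - s))
    rwa [← hg.add s (r - s) l hl.1, add_sub_cancel] at this
  have hu := eq_zero_of_system h (fun s => hg.prim s hl) Finset.univ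
    (fun s r => cj (g s) (F (r - s))) (fun s => cj (g s) (F (q - s))) (fun s _ r _ => hcor s r)
    (fun s _ r _ y hy => ?_) (fun s _ => (hcor s q).2.1) fun s _ => ?_
  · have h0 := hu 0 (Finset.mem_univ 0)
    rw [sub_zero, hg.zero (hF q).1] at h0
    exact h0
  · have hb := hg.inCorner (-s) hy
    rw [← hg.add _ _ l hl.1, ← hg.add _ _ l hl.1, neg_add_cancel, hg.zero hl.1,
      neg_add_eq_sub] at hb
    have := isNilpotent_cj (u := g s) (hJ (r - s) _ hb)
    rwa [cj_mul, ← hg.add s (-s) y hy.1, add_neg_cancel, hg.zero hy.1] at this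
  · rw [← hconv (q - s), cj_sum]
    refine Fintype.sum_equiv (Equiv.addLeft s) _ _ fun v => ?_
    simp only [Equiv.coe_addLeft, add_sub_cancel_left, cj_mul, sub_add_eq_sub_sub]
    rw [hg.add s v _ (hF _).1]

variable [CharP k p] {C' : Subring A}

/-- Some primitive idempotent under `j` already has a non-nilpotent trace. -/
theorem exists_prim_trace (h : IsLift k π C) (h' : IsLift k π C') (hg : IsAction C g)
    (hC' : ∀ x, x ∈ C' ↔ x ∈ C ∧ ∀ t, cj (g t) x = x) {j : A} (hj : Prim C' j) :
    ∀ i a : A, IsIdempotentElem i → InCorner C j j i → InCorner C j i a →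
      ¬ IsNilpotent (∑ t, cj (g t) a) →
      ∃ l b, Prim C l ∧ InCorner C j j l ∧ InCorner C j l b ∧ ¬ IsNilpotent (∑ t, cj (g t) b) := by
  classical
  have htr : ∀ {a : A}, InCorner C j j a → InCorner C' j j (∑ t, cj (g t) a) := by
    intro a ha
    have hjfix := fun t => ((hC' j).1 hj.1).2 t
    refine ⟨(hC' _).2 ⟨C.sum_mem fun t _ => hg.mem t a ha.1, fun s => ?_⟩, ?_, ?_⟩
    · rw [cj_sum]
      refine Fintype.sum_equiv (Equiv.addLeft s) _ _ fun t => ?_
      rw [Equiv.coe_addLeft, hg.add s t a ha.1]
    · rw [Finset.mul_sum]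
      exact Finset.sum_congr rfl fun t _ => by
        conv_lhs => rw [← hjfix t, ← cj_mul, ha.2.1]
    · rw [Finset.sum_mul]
      exact Finset.sum_congr rfl fun t _ => by
        conv_lhs => rw [← hjfix t, ← cj_mul, ha.2.2]
  suffices H : ∀ (d : ℕ) (i a : A), Module.finrank k (LinearMap.range (LinearMap.mulLeft k (π i))) ≤ d →
      IsIdempotentElem i → InCorner C j j i → InCorner C j i a →
      ¬ IsNilpotent (∑ t, cj (g t) a) →
      ∃ l b, Prim C l ∧ InCorner C j j l ∧ InCorner C j l b ∧ ¬ IsNilpotent (∑ t, cj (g t) b) by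
    exact fun i a => H _ i a le_rfl
  intro d
  induction d with
  | zero =>
    intro i a hd hi hij ha hna
    exfalso
    have h0 : π i = 0 := by
      have : LinearMap.mulLeft k (π i) 1 ∈ LinearMap.range (LinearMap.mulLeft k (π i)) := ⟨1, rfl⟩
      rw [Submodule.finrank_eq_zero.1 (Nat.le_zero.1 hd), Submodule.mem_bot] at this
      simpa using this
    refine hna ?_
    have hi0 : i = 0 := hi.eq_zero_of_isNilpotent (h.nil i h0)
    have ha0 : a = 0 := by rw [← ha.2.2, hi0, mul_zero]
    simp [ha0, cj_zero]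
  | succ d ih =>
    intro i a hd hi hij ha hna
    by_cases hprim : Prim C i
    · exact ⟨i, a, hprim, hij, ha, hna⟩
    have hi0 : i ≠ 0 := fun h0 => hna <| by
      have ha0 : a = 0 := by rw [← ha.2.2, h0, mul_zero]
      simp [ha0, cj_zero]
    simp only [Prim, hij.1, hi, hi0, ne_eq, not_false_iff, true_and, not_forall, not_or] at hprim
    obtain ⟨e, he, hid, he0, hei⟩ := hprim
    have hfi : InCorner C i i (i - e) := (InCorner.self hij.1 hi).sub he
    have hfid : IsIdempotentElem (i - e) := by
      show (i - e) * (i - e) = i - e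
      rw [mul_sub, sub_mul, sub_mul, hi.eq, he.2.1, he.2.2, hid.eq]
      abel
    have hlt : ∀ e, InCorner C i i e → IsIdempotentElem e → e ≠ i →
        Module.finrank k (LinearMap.range (LinearMap.mulLeft k (π e))) ≤ d := by
      intro e he hid hei
      refine Nat.le_of_lt_succ (lt_of_lt_of_le (Submodule.finrank_lt_finrank_of_lt
        (lt_of_le_of_ne ?_ ?_)) hd)
      · rintro _ ⟨b, rfl⟩
        refine ⟨π e * b, ?_⟩
        simp only [LinearMap.mulLeft_apply, ← mul_assoc, ← map_mul, he.2.1]
      · intro heq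
        have : LinearMap.mulLeft k (π i) 1 ∈ LinearMap.range (LinearMap.mulLeft k (π i)) := ⟨1, rfl⟩
        rw [← heq] at this
        obtain ⟨b, hb⟩ := this
        simp only [LinearMap.mulLeft_apply, mul_one] at hb
        have h1 : π e * π i = π i := by rw [← hb, ← mul_assoc, ← map_mul, hid.eq]
        rw [← map_mul, he.2.2] at h1
        have hz : π (i - e) = 0 := by rw [map_sub, h1, sub_self]
        have hf : IsIdempotentElem (i - e) := by
          show (i - e) * (i - e) = i - e
          rw [mul_sub, sub_mul, sub_mul, hi.eq, he.2.1, he.2.2, hid.eq]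
          abel
        exact hei (sub_eq_zero.1 (hf.eq_zero_of_isNilpotent (h.nil _ hz))).symm
    have hji : ∀ {e}, InCorner C i i e → InCorner C j j e := fun {e} he =>
      ⟨he.1, by rw [← he.2.1, ← mul_assoc, hij.2.1], by rw [← he.2.2, mul_assoc, hij.2.2]⟩
    have hae : InCorner C j e (a * e) :=
      ⟨C.mul_mem ha.1 he.1, by rw [← mul_assoc, ha.2.1], by rw [mul_assoc, hid.eq]⟩
    have haf : InCorner C j (i - e) (a * (i - e)) :=
      ⟨C.mul_mem ha.1 hfi.1, by rw [← mul_assoc, ha.2.1], by rw [mul_assoc, hfid.eq]⟩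
    have hor : ¬ IsNilpotent (∑ t, cj (g t) (a * e)) ∨
        ¬ IsNilpotent (∑ t, cj (g t) (a * (i - e))) := by
      by_contra! hc
      refine hna ?_
      have := hj.add_nilpotent h' (htr ⟨hae.1, hae.2.1, by
          rw [mul_assoc, (hji he).2.2]⟩) (htr ⟨haf.1, haf.2.1, by
          rw [mul_assoc, (hji hfi).2.2]⟩) hc.1 hc.2
      rw [← Finset.sum_add_distrib] at this
      convert this using 1
      refine Finset.sum_congr rfl fun t _ => ?_
      rw [mul_sub, ha.2.2, cj, cj, cj]
      rw [← add_mul, ← mul_add, add_sub_cancel]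
    rcases hor with hor | hor
    · exact ih e _ (hlt e he hid hei) hid (hji he) hae hor
    · exact ih (i - e) _ (hlt _ hfi hfid (fun h0 => he0 (by
        have := congrArg (i - ·) h0; simpa using this))) hfid (hji hfi) haf hor

/-- **Green's indecomposability theorem.** -/
theorem exists_orth_trace (h : IsLift k π C) (h' : IsLift k π C') (hg : IsAction C g)
    (hC' : ∀ x, x ∈ C' ↔ x ∈ C ∧ ∀ t, cj (g t) x = x) {j a : A} (hj : Prim C' j)
    (ha : InCorner C j j a) (hja : ∑ t, cj (g t) a = j) :
    ∃ w, InCorner C j j w ∧ IsIdempotentElem w ∧ w ≠ 0 ∧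
      (∀ s t, s ≠ t → cj (g s) w * cj (g t) w = 0) ∧ ∑ t, cj (g t) w = j := by
  classical
  obtain ⟨l, b, hl, hlj, hb, hnb⟩ := exists_prim_trace h h' hg hC' hj j a hj.2.1
    (InCorner.self ((hC' j).1 hj.1).1 hj.2.1) ha (hja ▸ hj.ne_nilpotent)
  have hjC := ((hC' j).1 hj.1).1
  have hjfix := fun t => ((hC' j).1 hj.1).2 t
  have hbjj : InCorner C j j b := ⟨hb.1, hb.2.1, by rw [← hb.2.2, mul_assoc, hlj.2.2]⟩
  have hT : InCorner C' j j (∑ t, cj (g t) b) := by
    refine ⟨(hC' _).2 ⟨C.sum_mem fun t _ => hg.mem t b hb.1, fun s => ?_⟩, ?_, ?_⟩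
    · rw [cj_sum]
      refine Fintype.sum_equiv (Equiv.addLeft s) _ _ fun t => ?_
      rw [Equiv.coe_addLeft, hg.add s t b hb.1]
    · rw [Finset.mul_sum]
      exact Finset.sum_congr rfl fun t _ => by
        conv_lhs => rw [← hjfix t, ← cj_mul, hbjj.2.1]
    · rw [Finset.sum_mul]
      exact Finset.sum_congr rfl fun t _ => by
        conv_lhs => rw [← hjfix t, ← cj_mul, hbjj.2.2]
  obtain ⟨W, hW, -, hWT⟩ := (hj.unit_or_nilpotent h' hT).resolve_left hnb
  set c := W * b with hc
  have hWC := (hC' W).1 hW.1
  have hcl : InCorner C j l c := ⟨C.mul_mem hWC.1 hb.1, by rw [← mul_assoc, hW.2.1],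
    by rw [mul_assoc, hb.2.2]⟩
  have hsum : ∑ t, cj (g t) c = j := by
    rw [← hWT, Finset.mul_sum]
    exact Finset.sum_congr rfl fun t _ => by rw [cj_mul, hWC.2 t]
  set E : ZMod p → A := fun t => l * cj (g t) c with hE
  have hEcor : ∀ t, InCorner C l (cj (g t) l) (E t) := fun t =>
    ⟨C.mul_mem hl.1 (hg.mem t c hcl.1), by rw [← mul_assoc, hl.2.1.eq],
      by rw [mul_assoc, ← cj_mul, hcl.2.2]⟩
  have hconv : ∀ q, ∑ s, E s * cj (g s) (E (q - s)) = E q := by
    intro q
    have : ∀ s, E s * cj (g s) (E (q - s)) = l * cj (g s) c * cj (g q) c := fun s => by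
      simp only [hE, cj_mul]
      rw [← hg.add s (q - s) c hcl.1, add_sub_cancel, ← mul_assoc, mul_assoc l (cj (g s) c),
        ← cj_mul, hcl.2.2]
    rw [Finset.sum_congr rfl fun s _ => this s]
    simp only [← Finset.sum_mul, ← Finset.mul_sum, hsum, hE, hlj.2.2]
  obtain ⟨α, hαs, hα0, hαm, hαJ⟩ := exists_coordinates h hg hl
  haveI : CharP (AddMonoidAlgebra k (ZMod p)) p :=
    charP_of_injective_algebraMap (algebraMap k (AddMonoidAlgebra k (ZMod p))).injective p
  let e : AddMonoidAlgebra k (ZMod p) := ∑ t, AddMonoidAlgebra.single t (α t (E t))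
  have hcor2 : ∀ q s, InCorner C l (cj (g q) l) (E s * cj (g s) (E (q - s))) := by
    intro q s
    have := hg.inCorner s (hEcor (q - s))
    rw [← hg.add s (q - s) l hl.1, add_sub_cancel] at this
    exact (hEcor s).mul this
  have hee : e * e = e := by
    simp only [e, Finset.sum_mul, Finset.mul_sum, AddMonoidAlgebra.single_mul_single]
    rw [Finset.sum_comm]
    have h2 : ∀ q, α q (E q) = ∑ s, α s (E s) * α (q - s) (E (q - s)) := fun q => by
      conv_lhs => rw [← hconv q]
      rw [hαs q Finset.univ _ fun s _ => hcor2 q s]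
      refine Finset.sum_congr rfl fun s _ => ?_
      conv_lhs => rw [← add_sub_cancel s q, add_sub_cancel_left]
      exact hαm s (q - s) _ _ (hEcor s) (hEcor (q - s))
    conv_rhs => arg 2; ext q; rw [h2 q]
    simp only [show ∀ (q : ZMod p) (f : ZMod p → k), AddMonoidAlgebra.single q (∑ s, f s) =
      ∑ s, AddMonoidAlgebra.single q (f s) from fun q f => map_sum (AddMonoidAlgebra.singleAddHom q) f _]
    conv_rhs => rw [Finset.sum_comm]
    rw [Finset.sum_comm]
    refine Finset.sum_congr rfl fun s _ => Fintype.sum_equiv (Equiv.addLeft s) _ _ fun t => ?_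
    simp [add_sub_cancel_left, add_comm, mul_comm]
  have hpow : e ^ p = AddMonoidAlgebra.single 0 (∑ t, α t (E t) ^ p) := by
    simp only [e, sum_pow_char, AddMonoidAlgebra.single_pow]
    have hp0 : ∀ t : ZMod p, p • t = 0 := fun t => by simp
    simp only [hp0]
    exact (map_sum (AddMonoidAlgebra.singleAddHom (0 : ZMod p)) _ _).symm
  rw [(show IsIdempotentElem e from hee).pow_eq (Fact.out : p.Prime).ne_zero] at hpow
  set c₀ := ∑ t, α t (E t) ^ p
  have hc0 : c₀ * c₀ = c₀ := by
    have := hee
    rw [hpow, AddMonoidAlgebra.single_mul_single, add_zero] at this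
    simpa using congrArg (fun f : AddMonoidAlgebra k (ZMod p) => f.coeff 0) this
  have hcoord : ∀ t, α t (E t) = if t = 0 then c₀ else 0 := by
    intro t
    have := congrArg (fun f : AddMonoidAlgebra k (ZMod p) => f.coeff t) hpow
    simpa [e, Finsupp.single_apply, eq_comm] using this
  have hc₀ : c₀ = 0 ∨ c₀ = 1 := by
    rcases eq_or_ne c₀ 0 with h0 | h0
    · exact Or.inl h0
    · exact Or.inr (mul_left_cancel₀ h0 (by rw [hc0, mul_one]))
  rcases hc₀ with h0 | h1
  · exfalso
    refine hl.2.2.1 ?_
    have hE0 := eq_zero_of_conv h hg hl hEcor hconv fun t y hy =>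
      hαJ t _ (hEcor t) (by rw [hcoord, h0, ite_self]) y hy
    rw [← hlj.2.2, ← hsum, Finset.mul_sum]
    exact Finset.sum_eq_zero fun t _ => hE0 t
  · set d : ZMod p → A := fun t => if t = 0 then l else 0 with hd
    have hdcor : ∀ t, InCorner C l (cj (g t) l) (d t) := by
      intro t
      simp only [hd]
      split_ifs with ht
      · subst ht; rw [hg.zero hl.1]; exact InCorner.self hl.1 hl.2.1
      · exact InCorner.zero C _ _
    set F : ZMod p → A := fun t => d t - E t
    have hFcor : ∀ t, InCorner C l (cj (g t) l) (F t) := fun t => (hdcor t).sub (hEcor t)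
    have hFconv : ∀ q, ∑ s, F s * cj (g s) (F (q - s)) = F q := by
      intro q
      have e1 : ∑ s, d s * cj (g s) (F (q - s)) = F q := by
        rw [Finset.sum_eq_single 0]
        · simp only [hd, if_true, sub_zero]
          rw [hg.zero (hFcor q).1, (hFcor q).2.1]
        · intro s _ hs; simp [hd, hs]
        · simp
      have e2 : ∑ s, E s * cj (g s) (d (q - s)) = E q := by
        rw [Finset.sum_eq_single q]
        · simp only [hd, sub_self, if_true]
          exact (hEcor q).2.2
        · intro s _ hs; simp [hd, sub_eq_zero, Ne.symm hs, cj_zero]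
        · simp
      have : ∀ s, F s * cj (g s) (F (q - s)) = d s * cj (g s) (F (q - s)) -
          (E s * cj (g s) (d (q - s)) - E s * cj (g s) (E (q - s))) := fun s => by
        simp only [F, sub_mul, cj, mul_sub]
        abel
      simp only [this, Finset.sum_sub_distrib, e1, e2, hconv q, sub_self, sub_zero]
    have hαF : ∀ t, α t (F t) = 0 := by
      intro t
      have hs := hαs t {t} (fun _ => d t) (fun _ _ => hdcor t)
      have h2 := hαs t (Finset.univ.filter fun s => s = 0 ∨ s = 1)
        (fun s => if s = 0 then F t else if s = 1 then E t else 0)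
        (fun s _ => by split_ifs <;> first | exact hFcor t | exact hEcor t | exact InCorner.zero C _ _)
      have h10 : (1 : ZMod p) ≠ 0 := one_ne_zero
      rw [show (Finset.univ.filter fun s : ZMod p => s = 0 ∨ s = 1) = {0, 1} by ext; simp,
        Finset.sum_pair (Ne.symm h10), Finset.sum_pair (Ne.symm h10)] at h2
      simp only [if_true, if_neg h10, F, sub_add_cancel] at h2
      have hdt : α t (d t) = α t (E t) := by
        rw [hcoord, h1]
        simp only [hd]
        split_ifs with ht
        · subst ht; exact hα0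
        · have := hαs t ∅ (fun _ => (0 : A)) (by simp)
          simpa using this
      rw [hdt] at h2
      simpa [F] using h2
    have hF0 := eq_zero_of_conv h hg hl hFcor hFconv fun t y hy => hαJ t _ (hFcor t) (hαF t) y hy
    have hlc : l * c = l := by
      have := hF0 0
      simp only [F, hd, hE, if_true, hg.zero hcl.1, sub_eq_zero] at this
      exact this.symm
    have hlc' : ∀ t, t ≠ 0 → l * cj (g t) c = 0 := fun t ht => by
      have := hF0 t
      simpa [F, hd, hE, if_neg ht] using this
    have hcid : IsIdempotentElem c := by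
      show c * c = c
      rw [show c * c = c * l * c by rw [hcl.2.2], mul_assoc, hlc, hcl.2.2]
    refine ⟨c, ⟨hcl.1, hcl.2.1, by rw [← hcl.2.2, mul_assoc, hlj.2.2]⟩, hcid, ?_, ?_, hsum⟩
    · intro h0
      exact hl.2.2.1 (by rw [← hlc, h0, mul_zero])
    · intro s t hst
      have e : cj (g t) c = cj (g s) (cj (g (t - s)) c) := by
        rw [← hg.add s (t - s) c hcl.1, add_sub_cancel]
      rw [e, ← cj_mul]
      rw [show c * cj (g (t - s)) c = c * l * cj (g (t - s)) c by rw [hcl.2.2], mul_assoc,
        hlc' (t - s) (sub_ne_zero.2 (Ne.symm hst)), mul_zero, cj_zero]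

end Cfsg.Agent.Blocks.Star
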