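import Cfsg.Agent.Blocks.Star.HeightBound

/-!
# The bound for the heights in terms of a block of `D C(D)`
-/

namespace Cfsg.Agent.Blocks.Star

open Cfsg.Agent Cfsg.Agent.Blocks
open scoped ComplexConjugate

universe u

variable {G : Type u} [Group G] [Fintype G] {p : ℕ} {M : Ideal Cfsg.AlgInt}
  {B : Set (Cfsg.IrrCharacter G)}

local notation "CG[" Q "]" => Subgroup.centralizer ((Q : Subgroup G) : Set G)
local notation "sbc" => Cfsg.subgroupBlockCoeff

open scoped Classical in
/-- The bound in terms of a block of `D C(D)`. -/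
theorem height_bound_root (hM : Cfsg.IsPModular p M) (hB : Cfsg.IsPBlock M B) {D : Subgroup G}
    (hD : Cfsg.IsDefectGroup p M B D) (H : Subgroup G) (hH : H = D ⊔ CG[D])
    (b : Set (Cfsg.IrrCharacter H)) (hind : Cfsg.IsInducedBlock M H b B) (T : Subgroup G)
    (hT : ∀ g : G, g ∈ T ↔ (g ∈ Subgroup.normalizer (D : Set G) ∧
      ∀ θ ∈ b, ∀ θ' : Cfsg.IrrCharacter H, (∀ h h' : H, (h' : G) = g * h * g⁻¹ →
        (θ' : H → ℂ) h' = (θ : H → ℂ) h) → θ' ∈ b))
    {χ : Cfsg.IrrCharacter G} (hχ : χ ∈ B) :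
    p ^ Cfsg.blockHeight p B (χ : G → ℂ) * Nat.card (Subgroup.center D) ≤
      H.relIndex T * Nat.card D := by
  haveI := Fact.mk hM.1
  have hp := hM.1
  obtain ⟨e', he'⟩ := BrauerPairs.exists_maximal_on hM hB hD
  have hDp : IsPGroup p D := he'.1.1.1
  have hCH : CG[D] ≤ H := hH ▸ le_sup_right
  have hDH : D ≤ H := hH ▸ le_sup_left
  letI := Fintype.ofFinite H
  letI := Fintype.ofFinite CG[D]
  set C := CG[D].subgroupOf H
  have hHN : H ≤ Subgroup.normalizer (D : Set G) := hH ▸
    sup_le Subgroup.le_normalizer (Subgroup.centralizer_le_normalizer _)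
  have hCn : C.Normal := ⟨fun a ha h => Subgroup.mem_subgroupOf.2 (by
    have h2 : h * a * h⁻¹ = h * a * h⁻¹ := rfl
    rw [Subgroup.mem_subgroupOf] at ha
    push_cast
    exact (BrauerPairs.mem_centralizer_iff_of_mem_normalizer (hHN h.2) (a : G)).1 ha)⟩
  letI := Fintype.ofFinite C
  have hidx : ∃ k : ℕ, C.index = p ^ k := by
    have hq : IsPGroup p (H ⧸ C) := by
      intro q
      induction q using QuotientGroup.induction_on with
      | H z =>
        have hz : (z : G) ∈ (D ⊔ CG[D] : Subgroup G) := hH ▸ z.2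
        rw [← SetLike.mem_coe, Subgroup.coe_mul_of_left_le_normalizer_right D CG[D] fun a ha =>
          Subgroup.mem_normalizer_iff.2 fun y =>
            BrauerPairs.mem_centralizer_iff_of_mem_normalizer (Subgroup.le_normalizer ha) y] at hz
        obtain ⟨w, hw, v, hv, hwv⟩ := Set.mem_mul.1 hz
        obtain ⟨k, hk⟩ := hDp ⟨w, hw⟩
        refine ⟨k, ?_⟩
        have e : (z : H ⧸ C) = ((⟨w, hDH hw⟩ : H) : H ⧸ C) :=
          QuotientGroup.eq.2 (Subgroup.mem_subgroupOf.2 (by
            push_cast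
            rw [← hwv, mul_inv_rev, mul_assoc, inv_mul_cancel, mul_one]
            exact CG[D].inv_mem hv))
        rw [e, ← QuotientGroup.mk_pow, QuotientGroup.eq_one_iff]
        refine Subgroup.mem_subgroupOf.2 ?_
        rw [Subgroup.coe_pow]
        show w ^ p ^ k ∈ CG[D]
        rw [show w ^ p ^ k = 1 from congrArg Subtype.val hk]
        exact one_mem _
    obtain ⟨k, hk⟩ := IsPGroup.iff_card.1 hq
    exact ⟨k, by rw [Subgroup.index_eq_card, hk]⟩
  -- a block of `C(D)` covered by `b`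
  obtain ⟨η₀, hη₀⟩ := IsPBlock.nonempty hM hind.1
  obtain ⟨ζ, hζ⟩ := Char.exists_constituent_res (N := C) η₀.2
  let ι : C ≃* CG[D] := Subgroup.subgroupOfEquivOfLe hCH
  set c := BrauerPairs.mapBlock ι (Cfsg.blockOf M (ζ : C → ℂ)) with hc
  have hcP : Cfsg.IsPBlock M c := BrauerPairs.isPBlock_mapBlock ι (isPBlock_blockOf ζ)
  have hDc : ∀ h ∈ H, ∀ y, sbc CG[D] c (h * y * h⁻¹) = sbc CG[D] c y := by
    intro h hh
    have hle : (D ⊔ CG[D] : Subgroup G) ≤ BrauerPairs.invSubgroup (sbc CG[D] c) :=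
      sup_le (fun k hk => BrauerPairs.isInv_sbc_of_mem_centralizer D c k hk)
        fun k hk => BrauerPairs.isInv_sbc c k hk
    exact hle (hH ▸ hh)
  have hsbc : ∀ t : H, sbc C (Cfsg.blockOf M (ζ : C → ℂ)) t = sbc CG[D] c (t : G) := by
    intro t
    by_cases ht : (t : G) ∈ CG[D]
    · have ht' : t ∈ C := Subgroup.mem_subgroupOf.2 ht
      rw [BrauerPairs.sbc_of_mem _ ht', BrauerPairs.sbc_of_mem _ ht, hc,
        show (⟨(t : G), ht⟩ : CG[D]) = ι ⟨t, ht'⟩ from rfl, BrauerPairs.blockCoeff_mapBlock]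
    · rw [BrauerPairs.sbc_of_notMem _ ht, BrauerPairs.sbc_of_notMem (H := C) _
        fun h => ht (Subgroup.mem_subgroupOf.1 h)]
  have hcst : ∀ h : H, Cfsg.StabilizesBlock C (Cfsg.blockOf M (ζ : C → ℂ)) h := by
    intro h
    refine ⟨by rw [Subgroup.normalizer_eq_top]; exact Subgroup.mem_top h, fun θ hθ => ?_⟩
    have hmem : ∀ a, a ∈ C ↔ h * a * h⁻¹ ∈ C := fun a => ⟨fun ha => hCn.conj_mem a ha h,
      fun ha => by
        have := hCn.conj_mem _ ha h⁻¹
        rwa [inv_inv, show h⁻¹ * (h * a * h⁻¹) * h = a by group] at this⟩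
    set φ := BlockChar.conjIso C C h hmem
    have heq : BrauerPairs.mapBlock φ (Cfsg.blockOf M (ζ : C → ℂ)) = Cfsg.blockOf M (ζ : C → ℂ) :=
      BrauerPairs.sbc_injective (funext fun z => by
        rw [BrauerPairs.sbc_mapBlock C C h hmem _ z, hsbc, hsbc]
        push_cast
        have := hDc _ (H.inv_mem h.2) (z : G)
        simpa using this)
    refine ⟨BrauerPairs.compIrr φ.symm θ, ?_, fun k k' hk => ?_⟩
    · rw [← heq]
      show BrauerPairs.compIrr φ (BrauerPairs.compIrr φ.symm θ) ∈ Cfsg.blockOf M (ζ : C → ℂ)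
      convert hθ
      exact Subtype.ext (funext fun z => by simp [BrauerPairs.compIrr_apply])
    · rw [show k' = φ k from Subtype.ext hk, BrauerPairs.compIrr_apply, φ.symm_apply_apply]
  obtain ⟨⟨b', hb', hb'c⟩, -⟩ := BlockChar.stable_block_pIndex hM hidx (isPBlock_blockOf ζ) hcst
  have hbb : b = b' := by
    refine BlockThms.existsUnique_covering hM hidx (isPBlock_blockOf ζ) |>.unique
      ⟨hind.1, η₀, hη₀, ζ, mem_blockOf_self hM ζ, hζ⟩ ⟨hb', ?_⟩
    obtain ⟨η₁, hη₁⟩ := IsPBlock.nonempty hM hb'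
    obtain ⟨ζ₁, hζ₁⟩ := Char.exists_constituent_res (N := C) η₁.2
    refine ⟨η₁, hη₁, ζ₁, ?_, hζ₁⟩
    have h := omega_blockCoeff b' η₁
    rw [if_pos hη₁, BlockThms.omega_res_eq η₁.2 ζ₁.2 hζ₁ (isClassFunction_blockCoeff b')
      (fun g hg => by rw [hb'c, BrauerPairs.sbc_of_notMem _ hg]),
      show (fun n : C => Cfsg.blockCoeff b' (n : H)) = Cfsg.blockCoeff (Cfsg.blockOf M (ζ : C → ℂ))
        from funext fun n => by rw [hb'c, BrauerPairs.sbc_apply], omega_blockCoeff] at h
    by_contra hne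
    rw [if_neg hne] at h
    exact zero_ne_one h
  subst hbb
  -- the pair
  have hpair : Cfsg.IsBrauerPairOf p M B D c := by
    refine ⟨⟨hDp, hcP⟩, hB, fun ξ hξ => ?_⟩
    have hξ' : BrauerPairs.compIrr ι ξ ∈ Cfsg.blockOf M (ζ : C → ℂ) := hξ
    obtain ⟨η, hη, hηξ⟩ : ∃ η ∈ b, Cfsg.classInner (fun n : C => (η : H → ℂ) n)
        (BrauerPairs.compIrr ι ξ : C → ℂ) ≠ 0 :=
      exists_over_of_covering hM (isPBlock_blockOf ζ) hind.1
        ⟨η₀, hη₀, ζ, mem_blockOf_self hM ζ, hζ⟩ hξ'
    obtain ⟨ψ, hψ⟩ := IsPBlock.nonempty hM hB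
    have : Finite (ConjClasses G) := Quotient.finite _
    letI := Fintype.ofFinite (ConjClasses G)
    have h1 : omega (ψ : G → ℂ) (Cfsg.blockCoeff B) = 1 := by
      rw [omega_blockCoeff, if_pos hψ]
    rw [omega_eq_sum_classes (Char.isClassFunction_of_isIrr ψ.2) (isClassFunction_blockCoeff B)]
      at h1
    have h2 : omega (η : H → ℂ) (fun h : H => Cfsg.blockCoeff B (h : G)) =
        ∑ K : ConjClasses G, Cfsg.blockCoeff B K.out *
          Cfsg.inducedCentralChar H (η : H → ℂ) K.out := by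
      rw [omega, Finset.sum_div, ← Finset.sum_fiberwise_of_maps_to (t := Finset.univ)
        (g := fun k : H => ConjClasses.mk (k : G)) (fun _ _ => Finset.mem_univ _)]
      refine Finset.sum_congr rfl fun K _ => ?_
      rw [← BlockThms.omega_classInd_res, omega, Finset.sum_div, Finset.mul_sum,
        Finset.sum_filter]
      refine Finset.sum_congr rfl fun k _ => ?_
      rw [classInd_apply]
      by_cases hk : ConjClasses.mk (k : G) = K
      · have hc' : IsConj K.out (k : G) :=
          ConjClasses.mk_eq_mk_iff_isConj.1 ((Quotient.out_eq K).trans hk.symm)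
        obtain ⟨v, hv⟩ := isConj_iff.1 hc'
        rw [if_pos hk, if_pos (by first | exact hc' | exact hc'.symm), ← hv,
          isClassFunction_blockCoeff B _ _]
        ring
      · rw [if_neg hk, if_neg, zero_mul, zero_div, mul_zero]
        intro hc'
        exact hk ((ConjClasses.mk_eq_mk_iff_isConj.2
          (by first | exact hc'.symm | exact hc')).trans (Quotient.out_eq K))
    have h3 : Cfsg.MemLocalIdeal M (omega (η : H → ℂ) (fun h : H => Cfsg.blockCoeff B (h : G)) - 1) := by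
      rw [h2, ← h1, ← Finset.sum_sub_distrib]
      refine memLocalIdeal_sum hM _ fun K _ => ?_
      rw [← mul_sub]
      exact memLocalIdeal_mul_left hM (memLocalRing_blockCoeff hM hB _) (hind.2.2 η hη ψ hψ _)
    rw [BlockThms.omega_res_eq η.2 (BrauerPairs.compIrr ι ξ).2 hηξ
      (fun a k => isClassFunction_blockCoeff B (a : G) (k : G))
      (fun h hh => by
        by_cases hr : p ∣ orderOf (h : G)
        · exact blockCoeff_eq_zero_of_dvd hM hB hr
        · exact absurd (BlockThms.mem_of_regular hp hidx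
            (show ¬ p ∣ orderOf h by rwa [← Subgroup.orderOf_coe])) hh)] at h3
    rw [BrauerPairs.brauerOmega_eq]
    convert h3 using 2
    simp only [omega]
    congr 1
    · exact (Fintype.sum_equiv ι.toEquiv _ _ fun z => rfl).symm
  have hmax : Cfsg.IsMaximalBrauerPair p M B D c := by
    refine ⟨hpair, fun R r hR hle => ?_⟩
    obtain ⟨a, ha, hale⟩ := BrauerPairs.exists_maximal_above hM hR
    have h1 := BlockChar.card_defectGroup hM hB (BrauerPairs.isDefectGroup_of_maximal hM ha)
    have h2 := BlockChar.card_defectGroup hM hB hD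
    exact (Subgroup.eq_of_le_of_card_ge (BlockChar.le_of_subpairLE hle) (by
      rw [h2, ← h1]; exact Subgroup.card_le_of_le (BlockChar.le_of_subpairLE hale))).symm
  let S : Subgroup G :=
    { carrier := {g | BrauerPairs.conjPair g ⟨D, c⟩ = ⟨D, c⟩}
      one_mem' := BrauerPairs.conjPair_one _
      mul_mem' := fun {g g'} hg hg' => by
        simp only [Set.mem_setOf_eq] at hg hg' ⊢
        rw [← BrauerPairs.conjPair_conjPair, hg', hg]
      inv_mem' := fun {g} hg => by
        simp only [Set.mem_setOf_eq] at hg ⊢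
        conv_lhs => rw [← hg]
        rw [BrauerPairs.conjPair_conjPair, inv_mul_cancel, BrauerPairs.conjPair_one] }
  have hHS : H ≤ S := fun h hh => BrauerPairs.conjPair_self (hHN hh) fun y => hDc h hh y
  have hST : S ≤ T := by
    intro g hg
    obtain ⟨hgN, hgst⟩ := (BrauerPairs.conjPair_eq_iff hM hcP g).1 hg
    refine (hT g).2 ⟨hgN, fun θ hθ θ' hθ' => ?_⟩
    have hDmem : ∀ a, a ∈ H ↔ g * a * g⁻¹ ∈ H := by
      have hH' : H.map (MulAut.conj g).toMonoidHom = H := by
        rw [hH, Subgroup.map_sup, BrauerPairs.map_centralizer_eq, BrauerPairs.map_conj_eq hgN]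
      intro a
      constructor
      · intro ha
        rw [← hH']
        exact ⟨a, ha, rfl⟩
      · intro ha
        rw [← hH'] at ha
        obtain ⟨a', ha', e⟩ := ha
        rwa [← (MulAut.conj g).injective e]
    set φ := BlockChar.conjIso H H g hDmem
    have hinv := (BrauerPairs.stabilizesBlock_iff hM hgN hcP).1 hgst
    have heq : BrauerPairs.mapBlock φ b = b := BrauerPairs.sbc_injective (funext fun z => by
      rw [BrauerPairs.sbc_mapBlock H H g hDmem b z]
      by_cases hz : z ∈ H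
      · have hz' : g⁻¹ * z * g ∈ H := (hDmem _).2 (by
          rwa [show g * (g⁻¹ * z * g) * g⁻¹ = z by group])
        rw [BrauerPairs.sbc_of_mem b hz', BrauerPairs.sbc_of_mem b hz, hb'c, hb'c, hsbc, hsbc]
        exact hinv.conj_inv (Set.mem_singleton g) z
      · rw [BrauerPairs.sbc_of_notMem b hz, BrauerPairs.sbc_of_notMem b fun h => hz (by
          have := (hDmem _).1 h
          rwa [show g * (g⁻¹ * z * g) * g⁻¹ = z by group] at this)])
    rw [← heq]
    show BrauerPairs.compIrr φ θ' ∈ b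
    convert hθ
    exact Subtype.ext (funext fun k => hθ' k (φ k) rfl)
  have hb := height_bound hM hmax S H (fun g => Iff.rfl) hHS (fun h hh x hx => by
    have hle : (D ⊔ CG[D] : Subgroup G) ≤ Subgroup.centralizer ({x} : Set G) := sup_le
      (fun w hw => Subgroup.mem_centralizer_singleton_iff.2 (Subgroup.mem_centralizer_iff.1 hx.2 w hw))
      (fun w hw => Subgroup.mem_centralizer_singleton_iff.2
        (Subgroup.mem_centralizer_iff.1 hw x hx.1).symm)
    exact Subgroup.mem_centralizer_singleton_iff.1 (hle (hH ▸ hh))) hχ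
  have hZ : Nat.card (Subgroup.center D) = Nat.card (D ⊓ CG[D] : Subgroup G) :=
    Nat.card_congr ⟨fun z => ⟨((z : D) : G), (z : D).2, Subgroup.mem_centralizer_iff.2 fun a ha =>
        congrArg Subtype.val (Subgroup.mem_center_iff.1 z.2 ⟨a, ha⟩)⟩,
      fun z => ⟨⟨(z : G), z.2.1⟩, Subgroup.mem_center_iff.2 fun a =>
        Subtype.ext (Subgroup.mem_centralizer_iff.1 z.2.2 a a.2)⟩,
      fun z => rfl, fun z => rfl⟩
  rw [hZ, BlockChar.card_defectGroup hM hB hD]
  refine hb.trans (Nat.mul_le_mul_right _ ?_)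
  rw [← Subgroup.relIndex_mul_relIndex H S T hHS hST]
  exact Nat.le_mul_of_pos_right _ (Nat.pos_of_ne_zero (by
    rw [Subgroup.relIndex]; exact Subgroup.index_ne_zero_of_finite))

end Cfsg.Agent.Blocks.Star
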