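import Cfsg.Agent.Blocks.Star.Refine

/-!
# Traces of idempotents twisted by a `p`-element

An idempotent commuting with the `p`-element `u` and with `y` has trace zero against `u y` when its
Brauer image at `u` vanishes; the trace depends only on the Brauer image.
-/

namespace Cfsg.Agent.Blocks.Star

open Cfsg.Agent Cfsg.Agent.Blocks

universe u

attribute [local instance] Ideal.Quotient.field

variable {G : Type u} [Group G] [Fintype G] {p : ℕ} [Fact p.Prime] {M : Ideal Cfsg.AlgInt}
  (hM : Cfsg.IsPModular p M) (n : ℕ)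

omit [Fintype G] [Fact p.Prime] in
theorem single_comm_of_mem_cen {S : Set G} {x : GA G hM n} (hx : x ∈ cen hM n S) {g : G}
    (hg : g ∈ S) : MonoidAlgebra.single g 1 * x = x * MonoidAlgebra.single g 1 :=
  Subring.mem_centralizer_iff.1 hx _ (Set.mem_image_of_mem _ hg)

omit [Fintype G] [Fact p.Prime] in
theorem single_mul_comm {U : Subgroup G} {y : G} {x : GA G hM n} (hx : x ∈ CS hM n U y) {v : G}
    (hv : v ∈ U) :
    MonoidAlgebra.single (v * y) 1 * x = x * MonoidAlgebra.single (v * y) 1 := by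
  rw [show (MonoidAlgebra.single (v * y) 1 : GA G hM n) =
    MonoidAlgebra.single v 1 * MonoidAlgebra.single y 1 by
      rw [MonoidAlgebra.single_mul_single, mul_one],
    mul_assoc, single_comm_of_mem_cen hM n hx (Or.inr rfl), ← mul_assoc,
    single_comm_of_mem_cen hM n hx (Or.inl hv), mul_assoc]

omit [Fintype G] [Fact p.Prime] in
theorem mem_stabU {U : Subgroup G} {x : GA G hM n} {v : G} :
    v ∈ stabU hM n U x ↔ v ∈ U ∧ cj (gU hM n v) x = x := Iff.rfl

omit [Fintype G] [Fact p.Prime] in
theorem cj_gU_inv_eq {g : G} {x : GA G hM n} (h : cj (gU hM n g) x = x) :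
    cj (gU hM n g⁻¹) x = x := by
  conv_lhs => rw [← h]
  rw [← cj_gU_mul, inv_mul_cancel]
  simp [cj]

open scoped Classical in
/-- The Brauer image of an invariant sum is that of the sum of its fixed terms. -/
theorem br_sum_eq_fixed {U : Subgroup G} (hU : IsPGroup p U) (X : Finset (GA G hM n))
    (hX : ∀ v ∈ U, ∀ x ∈ X, cj (gU hM n v) x ∈ X) :
    br hM n U (∑ x ∈ X, x) =
      ∑ x ∈ X.filter (fun x => ∀ v ∈ U, cj (gU hM n v) x = x), br hM n U x := by
  have := charP_residueField hM
  rw [br_sum]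
  refine alg_ext fun z => ?_
  simp only [MonoidAlgebra.coeff_sum, Finsupp.finsetSum_apply]
  by_cases hz : z ∈ Subgroup.centralizer (U : Set G)
  swap
  · have h0 : ∀ x, (br hM n U x).coeff z = 0 := fun x => coeff_trunB_of_notMem _ hz
    simp [h0]
  letI : MulAction U X :=
    { smul := fun v x => ⟨cj (gU hM n v.1) x.1, hX v.1 v.2 x.1 x.2⟩
      one_smul := fun x => Subtype.ext (show cj (gU hM n 1) x.1 = x.1 by simp [cj])
      mul_smul := fun v w x => Subtype.ext (show cj (gU hM n (v.1 * w.1)) x.1 = _ from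
        cj_gU_mul hM n v.1 w.1 x.1) }
  have hs : ∀ (v : U) (x : X), ((v • x : X) : GA G hM n) = cj (gU hM n v.1) x.1 := fun _ _ => rfl
  rw [← Finset.sum_coe_sort, sum_eq_sum_fixed (p := p) hU
    (fun x : X => (br hM n U x.1).coeff z) fun v x => ?_]
  · refine Finset.sum_bij (fun x _ => x.1) (fun x hx => ?_) (fun a _ b _ h => Subtype.ext h)
      (fun x hx => ?_) fun x _ => rfl
    · refine Finset.mem_filter.2 ⟨x.2, fun v hv => ?_⟩
      exact congrArg Subtype.val ((Finset.mem_filter.1 hx).2 ⟨v, hv⟩)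
    · obtain ⟨hx1, hx2⟩ := Finset.mem_filter.1 hx
      exact ⟨⟨x, hx1⟩, Finset.mem_filter.2 ⟨Finset.mem_univ _,
        fun v => Subtype.ext (hx2 v.1 v.2)⟩, rfl⟩
  · rw [hs, br, br, coeff_trunB_of_mem _ hz, coeff_trunB_of_mem _ hz, coeff_red, coeff_red,
      coeff_cj, mul_assoc, ← Subgroup.mem_centralizer_iff.1 hz v.1 v.2, inv_mul_cancel_left]

theorem br_ne_one_zero (U : Subgroup G) : br hM n U (1 : GA G hM n) ≠ 0 := by
  have := hM.2.1
  rw [br_one]
  exact one_ne_zero

/-- An idempotent with vanishing Brauer image at `u` has trace zero against `u y`. -/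
theorem tau_eq_zero_of_br {χ : G → ℂ} (hχ : Cfsg.IsClassFunction G χ) {u y : G}
    (hu : IsPGroup p (Subgroup.zpowers u)) (hy : ¬ p ∣ orderOf y) (huy : y * u = u * y)
    {s : GA G hM n} (hs : s ∈ CS hM n (Subgroup.zpowers u) y) (hid : IsIdempotentElem s)
    (h0 : br hM n (Subgroup.zpowers u) s = 0) :
    tau hM n χ (MonoidAlgebra.single (u * y) 1 * s) = 0 := by
  classical
  by_cases hs0 : s = 0
  · rw [hs0, mul_zero, map_zero]
  set U := Subgroup.zpowers u with hUdef
  have hu1 : u ∈ U := Subgroup.mem_zpowers u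
  have hyU : ∀ v ∈ U, y * v = v * y := by
    rintro v ⟨i, rfl⟩
    exact ((show Commute y u from huy).zpow_right i).eq
  have ht : (1 : GA G hM n) - s ≠ 0 := fun h => by
    rw [← sub_eq_zero.1 h] at h0
    exact br_ne_one_zero hM n U h0
  have hne : s ≠ 1 - s := fun h => hs0 (by
    have e := congrArg (s * ·) h
    simp only [mul_sub, mul_one, hid.eq, sub_self] at e
    exact e)
  have hcy : ∀ z ∈ CS hM n U y, z ∈ cen hM n ({y} : Set G) := fun z hz =>
    (mem_cen_iff_cj hM n).2 fun g hg => by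
      rw [Set.mem_singleton_iff] at hg; subst hg; exact ((mem_CS_cj hM n).1 hz).2
  have hsC := Subring.sub_mem _ (CS hM n U y).one_mem hs
  have hfam : IsPointFamily hM n U y {s, 1 - s} := by
    refine ⟨fun x hx => ?_, fun x hx x' hx' h => ?_, ?_, fun v hv x hx => ?_⟩
    · simp only [Finset.mem_insert, Finset.mem_singleton] at hx
      rcases hx with rfl | rfl
      exacts [⟨hcy _ hs, hid, hs0⟩, ⟨hcy _ hsC, hid.one_sub, ht⟩]
    · simp only [Finset.mem_insert, Finset.mem_singleton] at hx hx'
      rcases hx with rfl | rfl <;> rcases hx' with rfl | rfl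
      exacts [absurd rfl h, hid.mul_one_sub_self, hid.one_sub_mul_self, absurd rfl h]
    · rw [Finset.sum_pair hne, add_sub_cancel]
    · simp only [Finset.mem_insert, Finset.mem_singleton] at hx ⊢
      rcases hx with rfl | rfl
      exacts [Or.inl (((mem_CS_cj hM n).1 hs).1 v hv), Or.inr (((mem_CS_cj hM n).1 hsC).1 v hv)]
  obtain ⟨X, hX, hle, hgood⟩ := exists_points_of hM n hu hy hyU hfam
  have hsx : ∀ x ∈ X, s * x = x ∨ s * x = 0 := by
    intro x hx
    obtain ⟨z, hz, -, hzx⟩ := hle x hx
    simp only [Finset.mem_insert, Finset.mem_singleton] at hz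
    rcases hz with rfl | rfl
    · exact Or.inl hzx
    · exact Or.inr (by rw [← hzx, ← mul_assoc, hid.mul_one_sub_self, zero_mul])
  have hsum : s = ∑ x ∈ X.filter (fun x => s * x = x), x := by
    conv_lhs => rw [← mul_one s, ← hX.sum, Finset.mul_sum]
    rw [Finset.sum_filter]
    refine Finset.sum_congr rfl fun x hx => ?_
    rcases hsx x hx with h | h
    · rw [if_pos h, h]
    · rw [h, if_neg fun e => (hX.mem x hx).2.2 e.symm]
  rw [hsum, Finset.mul_sum, map_sum]
  refine Finset.sum_eq_zero fun x hx => ?_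
  obtain ⟨hxX, hxs⟩ := Finset.mem_filter.1 hx
  by_cases hfix : cj (gU hM n u) x = x
  · exfalso
    have hst : stabU hM n U x = U := le_antisymm (fun v hv => hv.1)
      (Subgroup.zpowers_le.2 ⟨hu1, hfix⟩)
    obtain ⟨hprim, hbr⟩ := hgood x hxX
    rw [hst] at hprim hbr
    refine hbr ?_
    rw [← hxs, br_mul hM n hu (S := (U : Set G) ∪ {y}) (fun q hq => Or.inl hq) hs hprim.1, h0,
      zero_mul]
  · have hxid := (hX.mem x hxX).2.1
    have hy1 : ∀ z ∈ X, cj (gU hM n y⁻¹) z = z := fun z hz =>
      cj_gU_inv_eq hM n ((mem_cen_iff_cj hM n).1 (hX.mem z hz).1 y rfl)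
    set z := cj (gU hM n u⁻¹) x with hz
    have hzX : z ∈ X := hX.stable _ (U.inv_mem hu1) x hxX
    have hzx : z * x = 0 := hX.orth z hzX x hxX fun h => hfix (by
      conv_lhs => rw [← h, hz, ← cj_gU_mul, mul_inv_cancel]
      simp [cj])
    have hmove : x * MonoidAlgebra.single (u * y) 1 = MonoidAlgebra.single (u * y) 1 * z := by
      have e : cj (gU hM n (u * y)⁻¹) x = z := by
        rw [mul_inv_rev, cj_gU_mul, ← hz, hy1 z hzX]
      rw [← e, cj, map_inv, inv_inv, ← coe_gU, ← mul_assoc, ← mul_assoc, Units.mul_inv, one_mul]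
    calc tau hM n χ (MonoidAlgebra.single (u * y) 1 * x)
        = tau hM n χ (x * (MonoidAlgebra.single (u * y) 1 * x)) := by
          conv_lhs => rw [← hxid.eq, ← mul_assoc, tau_comm hM n hχ]
      _ = 0 := by rw [← mul_assoc, hmove, mul_assoc, hzx, mul_zero, map_zero]

/-- The trace against `u y` only depends on the Brauer image at `u`. -/
theorem tau_eq_of_br {χ : G → ℂ} (hχ : Cfsg.IsClassFunction G χ) {u y : G}
    (hu : IsPGroup p (Subgroup.zpowers u)) (hy : ¬ p ∣ orderOf y) (huy : y * u = u * y)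
    {e S : GA G hM n} (he : e ∈ CS hM n (Subgroup.zpowers u) y) (heid : IsIdempotentElem e)
    (hS : S ∈ CS hM n (Subgroup.zpowers u) y) (hSid : IsIdempotentElem S)
    (heq : br hM n (Subgroup.zpowers u) e = br hM n (Subgroup.zpowers u) S) :
    tau hM n χ (MonoidAlgebra.single (u * y) 1 * e) =
      tau hM n χ (MonoidAlgebra.single (u * y) 1 * S) := by
  classical
  have := hM.2.1
  set U := Subgroup.zpowers u with hUdef
  set C := CS hM n U y
  set T : GA G hM n := MonoidAlgebra.single (u * y) 1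
  have hlift := isLift_cen (G := G) hM n ((U : Set G) ∪ {y})
  have hb : ∀ {a c}, a ∈ C → c ∈ C → br hM n U (a * c) = br hM n U a * br hM n U c :=
    fun {a c} ha hc => br_mul hM n hu (S := (U : Set G) ∪ {y}) (fun q hq => Or.inl hq) ha hc
  have hT : ∀ {a}, a ∈ C → T * a = a * T := fun {a} ha =>
    single_mul_comm hM n ha (Subgroup.mem_zpowers u)
  set β := br hM n U e with hβ
  have hββ : β * β = β := by rw [hβ, ← hb he he, heid.eq]
  set a := e * S * e with hadef
  have ha : InCorner C e e a := ⟨C.mul_mem (C.mul_mem he hS) he,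
    by rw [hadef, ← mul_assoc, ← mul_assoc, heid.eq], by rw [hadef, mul_assoc, heid.eq]⟩
  have hbra : br hM n U a = β := by rw [hadef, hb (C.mul_mem he hS) he, hb he hS, ← heq, hββ, hββ]
  obtain ⟨e', w, he', he'id, hw, he'w, hwe', haw, hwa, -, hnil⟩ := hlift.fitting he heid ha
  -- the unit part is everything, modulo the kernel of the Brauer map
  have hd : IsIdempotentElem (e - e') := by
    show (e - e') * (e - e') = e - e'
    rw [mul_sub, sub_mul, sub_mul, heid.eq, he'.2.1, he'.2.2, he'id.eq]; abel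
  have hbre' : br hM n U e' = β := by
    have h1 := br_isNilpotent hM n hu (S := (U : Set G) ∪ {y}) (fun q hq => Or.inl hq)
      (C.mul_mem ha.1 (C.sub_mem he he'.1)) hnil
    rw [hb ha.1 (C.sub_mem he he'.1), hbra, ← hb he (C.sub_mem he he'.1), mul_sub, heid.eq,
      he'.2.1] at h1
    have h2 : IsIdempotentElem (br hM n U (e - e')) := by
      show _ * _ = _
      rw [← hb (C.sub_mem he he'.1) (C.sub_mem he he'.1), hd.eq]
    have h3 := h2.eq_zero_of_isNilpotent h1
    rw [br_sub, sub_eq_zero] at h3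
    exact h3.symm
  have hbrw : br hM n U w = β := by
    have h1 : br hM n U (e * w) = br hM n U w := by rw [hw.2.1]
    rw [hb he hw.1] at h1
    rw [← h1, ← hβ]
    conv_lhs => rw [← hbra]
    rw [← hb ha.1 hw.1, haw, hbre']
  set S'' := S * w * S with hS''
  have hwSw : w * S * w = w := by
    calc w * S * w = w * e * S * (e * w) := by rw [hw.2.1, hw.2.2]
      _ = w * a * w := by simp only [hadef, mul_assoc]
      _ = w := by rw [hwa, he'w]
  have hS''C : S'' ∈ C := C.mul_mem (C.mul_mem hS hw.1) hS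
  have hS''id : IsIdempotentElem S'' := by
    show S'' * S'' = S''
    calc S'' * S'' = S * (w * S * S * w) * S := by simp only [hS'', mul_assoc]
      _ = S'' := by rw [mul_assoc w S S, hSid.eq, hwSw]
  have hSS'' : S * S'' = S'' := by rw [hS'', ← mul_assoc, ← mul_assoc, hSid.eq]
  have hS''S : S'' * S = S'' := by rw [hS'', mul_assoc, hSid.eq]
  have hd' : IsIdempotentElem (S - S'') := by
    show (S - S'') * (S - S'') = S - S''
    rw [mul_sub, sub_mul, sub_mul, hSid.eq, hSS'', hS''S, hS''id.eq]; abel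
  have hbrS'' : br hM n U S'' = br hM n U S := by
    rw [hS'', hb (C.mul_mem hS hw.1) hS, hb hS hw.1, hbrw, ← heq, hββ, hββ]
  -- the two unit parts have the same trace
  have hmid : tau hM n χ (T * e') = tau hM n χ (T * S'') := by
    have h1 : tau hM n χ (T * e') = tau hM n χ (T * (S * w)) := by
      calc tau hM n χ (T * e') = tau hM n χ (T * (e * S * w)) := by
            rw [← haw, hadef, mul_assoc (e * S) e w, hw.2.1]
        _ = tau hM n χ (e * (T * (S * w))) := by
            rw [mul_assoc e S w, ← mul_assoc T e, hT he, mul_assoc]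
        _ = tau hM n χ (T * (S * (w * e))) := by
            rw [tau_comm hM n hχ, mul_assoc, mul_assoc]
        _ = tau hM n χ (T * (S * w)) := by rw [hw.2.2]
    have h2 : tau hM n χ (T * S'') = tau hM n χ (T * (S * w)) := by
      rw [hS'', ← mul_assoc T (S * w) S, tau_comm hM n hχ, ← mul_assoc S T, ← hT hS,
        mul_assoc T S, ← mul_assoc S S w, hSid.eq]
    rw [h1, h2]
  have k1 : tau hM n χ (T * (e - e')) = 0 :=
    tau_eq_zero_of_br hM n hχ hu hy huy (C.sub_mem he he'.1) hd
      (by rw [br_sub, hbre', ← hβ, sub_self])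
  have k2 : tau hM n χ (T * (S - S'')) = 0 :=
    tau_eq_zero_of_br hM n hχ hu hy huy (C.sub_mem hS hS''C) hd'
      (by rw [br_sub, hbrS'', sub_self])
  rw [mul_sub, map_sub, sub_eq_zero] at k1 k2
  rw [k1, k2, hmid]

end Cfsg.Agent.Blocks.Star
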