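import Cfsg.Agent.Blocks.Star.MajorPair
import Cfsg.Agent.Blocks.Averaging
import Mathlib.Algebra.Algebra.Rat
import Mathlib.LinearAlgebra.Matrix.NonsingularInverse
import Mathlib.RingTheory.Polynomial.Cyclotomic.Roots

/-!
# Bounds by linear forms for major subsections

`ψ` is an integral basis of the `p`-regular parts of the block `b` of a major subsection, `A η` the
coordinates of `η` and `W = Aᵀ A` the Cartan matrix in this basis.  If weighted integral linear
forms have weight at least `T` away from zero, then `T k(B) ≤ ∑ w L W L`.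
-/

namespace Cfsg.Agent.Blocks.Star

open Cfsg.Agent Cfsg.Agent.Blocks Polynomial
open scoped ComplexConjugate

universe u

variable {G : Type u} [Group G] [Fintype G] {p : ℕ} {M : Ideal Cfsg.AlgInt}
  {B : Set (Cfsg.IrrCharacter G)}

open scoped Classical in
/-- The diagonal contributions of a major subsection do not vanish. -/
theorem major_contrib_ne_zero (hM : Cfsg.IsPModular p M) {x : G} (hx : ∃ k, orderOf x = p ^ k)
    {H : Subgroup G} [Fintype H] (hH : ∀ a : G, a ∈ H ↔ x * a = a * x)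
    {b : Set (Cfsg.IrrCharacter H)} (hind : Cfsg.IsInducedBlock M H b B)
    (hd : Cfsg.blockDefect p b = Cfsg.blockDefect p B) {χ : Cfsg.IrrCharacter G} (hχ : χ ∈ B) :
    contrib p x b χ χ ≠ 0 := by
  obtain ⟨χ₀, hχ₀, h₀⟩ := BlockThms.exists_height_zero hM hind.2.1
  obtain ⟨a, -, heq, hiff⟩ := major_pair hM hx hH hind hd hχ hχ₀
  intro h
  have hrow := sum_normSq_contrib_row hH hM hx hind (χ := χ)
  rw [h, Complex.zero_re, mul_zero] at hrow
  have h1 : contrib p x b χ χ₀ = 0 := Complex.normSq_eq_zero.1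
    ((Finset.sum_eq_zero_iff_of_nonneg fun φ _ => Complex.normSq_nonneg _).1 hrow χ₀
      ((Set.Finite.mem_toFinset _).2 hχ₀))
  rw [heq, mul_eq_zero] at h1
  have ha := h1.resolve_left (Nat.cast_ne_zero.2 (pow_ne_zero _ hM.1.ne_zero))
  exact hiff.1 (ha ▸ memLocalIdeal_zero hM) h₀

/-- The vanishing of an integral combination of roots of unity is Galois invariant. -/
theorem comb_eq_zero_iff {ι : Type*} (s : Finset ι) (c : ι → ℤ) (w : ι → ℂ) {q : ℕ} [NeZero q]
    (hw : ∀ i ∈ s, w i ^ q = 1) {k : ℕ} (hk : k.Coprime q) :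
    ∑ i ∈ s, (c i : ℂ) * w i ^ k = 0 ↔ ∑ i ∈ s, (c i : ℂ) * w i = 0 := by
  classical
  set ζ : ℂ := Complex.exp (2 * Real.pi * Complex.I / (q : ℂ))
  have hζ : IsPrimitiveRoot ζ q := Complex.isPrimitiveRoot_exp q (NeZero.ne q)
  have hm : ∀ i, ∃ m, i ∈ s → ζ ^ m = w i := fun i => by
    by_cases hi : i ∈ s
    · obtain ⟨m, -, hm⟩ := hζ.eq_pow_of_pow_eq_one (hw i hi)
      exact ⟨m, fun _ => hm⟩
    · exact ⟨0, fun h => absurd h hi⟩
  choose m hm using hm
  let f : ℤ[X] := ∑ i ∈ s, C (c i) * X ^ m i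
  have hf : ∀ j, aeval (ζ ^ j) f = ∑ i ∈ s, (c i : ℂ) * w i ^ j := fun j => by
    simp only [f, map_sum]
    refine Finset.sum_congr rfl fun i hi => ?_
    rw [map_mul, map_pow, aeval_X, aeval_C, ← pow_mul, mul_comm j, pow_mul, hm i hi]
    simp
  have h1 : ∑ i ∈ s, (c i : ℂ) * w i = aeval ζ f := by
    rw [← pow_one ζ, hf]
    simp only [pow_one]
  rw [h1, ← hf k]
  have hζk := hζ.pow_of_coprime k hk
  have key : ∀ {a b : ℂ}, IsPrimitiveRoot a q → IsPrimitiveRoot b q → aeval a f = 0 →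
      aeval b f = 0 := fun {a b} ha hb h => by
    have h2 := minpoly.isIntegrallyClosed_dvd (ha.isIntegral (NeZero.pos q)) h
    rw [← cyclotomic_eq_minpoly ha (NeZero.pos q), cyclotomic_eq_minpoly hb (NeZero.pos q)] at h2
    obtain ⟨g, hg⟩ := h2
    rw [hg, map_mul, minpoly.aeval, zero_mul]
  exact ⟨key hζk hζ, key hζ hζk⟩

section lattice

variable {x : G} {H : Subgroup G} [Fintype H] {b : Set (Cfsg.IrrCharacter H)}
  {ι : Type*} [Fintype ι]

open scoped Classical in
/-- The Cartan matrix in the basis. -/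
noncomputable def cartanOf {H : Type u} [Group H] [Fintype H] (b : Set (Cfsg.IrrCharacter H))
    (A : Cfsg.IrrCharacter H → ι → ℤ)
    (i j : ι) : ℤ :=
  ∑ η ∈ b.toFinite.toFinset, A η i * A η j

/-- The coordinates of a section. -/
noncomputable def secCoord (x : G) (b : Set (Cfsg.IrrCharacter H))
    (A : Cfsg.IrrCharacter H → ι → ℤ) (χ : Cfsg.IrrCharacter G) (i : ι) : ℂ :=
  ∑ η ∈ b.toFinite.toFinset, shiftCoef x H χ η * (A η i : ℂ)

open scoped Classical in
/-- The `b`-part of a shifted character in the basis. -/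
theorem blockPart_eq_secCoord (ψ : ι → H → ℂ) (A : Cfsg.IrrCharacter H → ι → ℤ)
    (hA : ∀ η ∈ b, ∀ c : H, ¬ p ∣ orderOf c → (η : H → ℂ) c = ∑ i, (A η i : ℂ) * ψ i c)
    (χ : Cfsg.IrrCharacter G) {c : H} (hc : ¬ p ∣ orderOf c) :
    Cfsg.blockPart b (fun a : H => (χ : G → ℂ) (x * (a : G))) c =
      ∑ i, secCoord x b A χ i * ψ i c := by
  rw [Cfsg.blockPart, finsum_mem_eq_finite_toFinset_sum _ (Set.toFinite b)]
  simp only [secCoord, Finset.sum_mul]
  rw [Finset.sum_comm]
  refine Finset.sum_congr rfl fun η hη => ?_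
  rw [hA η ((Set.Finite.mem_toFinset _).1 hη) c hc, Finset.mul_sum]
  refine Finset.sum_congr rfl fun i _ => ?_
  rw [← mul_assoc]
  congr 2
  rw [shiftCoef]
  congr! 2

open scoped Classical in
/-- The column sums of the sections give the Cartan matrix. -/
theorem sum_secCoord_mul (hM : Cfsg.IsPModular p M) (hH : ∀ a : G, a ∈ H ↔ x * a = a * x)
    (hx : ∃ k, orderOf x = p ^ k) (hind : Cfsg.IsInducedBlock M H b B)
    (ψ : ι → H → ℂ) (A : Cfsg.IrrCharacter H → ι → ℤ)
    (hA : ∀ η ∈ b, ∀ c : H, ¬ p ∣ orderOf c → (η : H → ℂ) c = ∑ i, (A η i : ℂ) * ψ i c)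
    (hli : ∀ a : ι → ℂ, (∀ c : H, ¬ p ∣ orderOf c → ∑ i, a i * ψ i c = 0) → a = 0) (i j : ι) :
    ∑ χ ∈ B.toFinite.toFinset, secCoord x b A χ i * conj (secCoord x b A χ j) =
      (cartanOf b A i j : ℂ) := by
  set S := B.toFinite.toFinset
  let v : Cfsg.IrrCharacter G → ι → ℂ := fun χ i => secCoord x b A χ i
  let X : ι → ι → ℂ := fun i j =>
    ∑ χ ∈ S, v χ i * conj (v χ j) - (cartanOf b A i j : ℂ)
  have h0 : ∀ y y' : H, ¬ p ∣ orderOf y → ¬ p ∣ orderOf y' →
      ∑ i, (∑ j, X i j * conj (ψ j y')) * ψ i y = 0 := by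
    intro y y' hy hy'
    have h := sum_blockPart_mul hM hind hH hx hy hy'
    rw [finsum_mem_eq_finite_toFinset_sum _ B.toFinite,
      finsum_mem_eq_finite_toFinset_sum _ b.toFinite,
      Finset.sum_congr rfl fun χ _ => by rw [blockPart_eq_secCoord ψ A hA χ hy, blockPart_eq_secCoord ψ A hA χ hy'],
      Finset.sum_congr rfl (g := fun η : Cfsg.IrrCharacter H =>
        (∑ i, (A η i : ℂ) * ψ i y) * conj (∑ i, (A η i : ℂ) * ψ i y')) fun η hη => by
        rw [hA η ((Set.Finite.mem_toFinset _).1 hη) y hy,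
          hA η ((Set.Finite.mem_toFinset _).1 hη) y' hy']] at h
    have key : ∀ {α : Type u} (s : Finset α) (a : α → ι → ℂ),
        ∑ z ∈ s, (∑ i, a z i * ψ i y) * conj (∑ i, a z i * ψ i y') =
          ∑ i, (∑ j, (∑ z ∈ s, a z i * conj (a z j)) * conj (ψ j y')) * ψ i y := by
      intro α s a
      simp only [map_sum, map_mul, Finset.sum_mul, Finset.mul_sum]
      conv_lhs => arg 2; ext z; rw [Finset.sum_comm]
      rw [Finset.sum_comm]
      refine Finset.sum_congr rfl fun i _ => ?_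
      rw [Finset.sum_comm]
      exact Finset.sum_congr rfl fun j _ => Finset.sum_congr rfl fun z _ => by ring
    rw [key, key] at h
    simp only [X, sub_mul, Finset.sum_sub_distrib]
    rw [h, sub_eq_zero]
    refine Finset.sum_congr rfl fun i _ => ?_
    congr 1
    refine Finset.sum_congr rfl fun j _ => ?_
    congr 1
    simp [cartanOf]
  have h1 : ∀ y', ¬ p ∣ orderOf y' → ∀ i, ∑ j, X i j * conj (ψ j y') = 0 := fun y' hy' i =>
    congrFun (hli (fun i => ∑ j, X i j * conj (ψ j y')) fun y hy => h0 y y' hy hy') i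
  refine sub_eq_zero.1 ?_
  have h2 := congrFun (hli (fun j => conj (X i j)) fun y' hy' => by
    have := congrArg conj (h1 y' hy' i)
    simpa [map_sum, mul_comm] using this) j
  simpa using congrArg conj h2

open scoped Classical in
/-- The bound by weighted linear forms. -/
theorem card_mul_le_of_forms (hM : Cfsg.IsPModular p M) (hH : ∀ a : G, a ∈ H ↔ x * a = a * x)
    (hx : ∃ k, orderOf x = p ^ k) (hind : Cfsg.IsInducedBlock M H b B)
    (hd : Cfsg.blockDefect p b = Cfsg.blockDefect p B)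
    (ψ : ι → H → ℂ) (A : Cfsg.IrrCharacter H → ι → ℤ)
    (hA : ∀ η ∈ b, ∀ c : H, ¬ p ∣ orderOf c → (η : H → ℂ) c = ∑ i, (A η i : ℂ) * ψ i c)
    (hli : ∀ a : ι → ℂ, (∀ c : H, ¬ p ∣ orderOf c → ∑ i, a i * ψ i c = 0) → a = 0)
    {κ : Type*} [Fintype κ] (L : κ → ι → ℤ) (w : κ → ℕ) (T : ℕ)
    (hpos : ∀ v : ι → ℂ, v ≠ 0 →
      T ≤ ∑ s ∈ Finset.univ.filter (fun s => ∑ i, (L s i : ℂ) * v i ≠ 0), w s) :
    ((T * Nat.card B : ℕ) : ℤ) ≤
      ∑ s, (w s : ℤ) * ∑ i, ∑ j, L s i * L s j * cartanOf b A i j := by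
  obtain ⟨n, hn⟩ := hx
  have hx : ∃ k, orderOf x = p ^ k := ⟨n, hn⟩
  have : NeZero (orderOf x) := ⟨(orderOf_pos x).ne'⟩
  let K := (ZMod (orderOf x))ˣ
  let v : K → Cfsg.IrrCharacter G → ι → ℂ := fun k χ i =>
    secCoord (x ^ (k : ZMod (orderOf x)).val) b A χ i
  set S := B.toFinite.toFinset
  have hmemS : ∀ {φ}, φ ∈ S ↔ φ ∈ B := fun {φ} => Set.Finite.mem_toFinset _
  -- the sections in the basis
  have hR : ∀ (k : K) (χ : Cfsg.IrrCharacter G) (c : H), ¬ p ∣ orderOf c →
      Cfsg.blockPart b (fun a : H => (χ : G → ℂ) (x ^ (k : ZMod (orderOf x)).val * (a : G))) c =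
        ∑ i, v k χ i * ψ i c :=
    fun _ χ c hc => blockPart_eq_secCoord ψ A hA χ hc
  -- the column sums
  have hW : ∀ (k : K) (i j : ι),
      ∑ χ ∈ S, v k χ i * conj (v k χ j) = (cartanOf b A i j : ℂ) := fun k =>
    sum_secCoord_mul hM (pow_hyps hH hM hx k).1 (pow_hyps hH hM hx k).2 hind ψ A hA hli
  -- no section vanishes
  have hne : ∀ (k : K), ∀ χ ∈ B, v k χ ≠ 0 := by
    intro k χ hχ h
    obtain ⟨hH', hx'⟩ := pow_hyps hH hM hx k
    refine major_contrib_ne_zero hM hx' hH' hind hd hχ ?_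
    rw [contrib_eq_sum_regular hH', Finset.sum_eq_zero, mul_zero]
    intro c _
    split_ifs with hc
    · rfl
    · rw [hR k χ c hc, h]
      simp
  -- the mean of a form
  have hform : ∀ (s : κ), ∀ χ ∈ B, ∑ i, (L s i : ℂ) * v 1 χ i ≠ 0 →
      (Fintype.card K : ℝ) ≤ ∑ k : K, Complex.normSq (∑ i, (L s i : ℂ) * v k χ i) := by
    intro s χ _ hne1
    let c : Cfsg.IrrCharacter H → ℤ := fun η => (resMult χ η : ℤ) * ∑ i, L s i * A η i
    have hw : ∀ η ∈ b.toFinite.toFinset, shiftScalar hH η ^ orderOf x = 1 := fun η _ =>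
      shiftScalar_pow hH η (pow_orderOf_eq_one x)
    have hexp : ∀ k : K, ∑ i, (L s i : ℂ) * v k χ i =
        ∑ η ∈ b.toFinite.toFinset,
          (c η : ℂ) * shiftScalar hH η ^ (k : ZMod (orderOf x)).val := by
      intro k
      simp only [v, secCoord, Finset.mul_sum]
      rw [Finset.sum_comm]
      refine Finset.sum_congr rfl fun η _ => ?_
      have hH' := centralizer_pow hH (ZMod.val_coe_unit_coprime k)
      rw [shiftCoef_eq hH', shiftScalar_of_pow hH _ hH']
      simp only [c, Int.cast_mul, Int.cast_sum, Int.cast_natCast, Finset.mul_sum, Finset.sum_mul]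
      exact Finset.sum_congr rfl fun i _ => by ring
    simp only [hexp]
    refine card_units_le_sum_normSq _ _ _ hw fun k hk => hne1 ?_
    rw [hexp 1, Units.val_one]
    have h := (comb_eq_zero_iff _ c _ hw (ZMod.val_coe_unit_coprime k)).1 hk
    by_cases h1 : orderOf x = 1
    · rw [← h]
      refine Finset.sum_congr rfl fun η hη => ?_
      have := hw η hη
      rw [h1, pow_one] at this
      rw [this, one_pow]
    · have : Fact (1 < orderOf x) := ⟨by have := orderOf_pos x; omega⟩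
      rw [ZMod.val_one]
      simpa using h
  -- the count
  have hlow : ∀ χ ∈ S, (T : ℝ) * Fintype.card K ≤
      ∑ s, (w s : ℝ) * ∑ k : K, Complex.normSq (∑ i, (L s i : ℂ) * v k χ i) := by
    intro χ hχ
    calc (T : ℝ) * Fintype.card K
        ≤ (∑ s ∈ Finset.univ.filter (fun s => ∑ i, (L s i : ℂ) * v 1 χ i ≠ 0), (w s : ℝ)) *
            Fintype.card K := by
          refine mul_le_mul_of_nonneg_right ?_ (Nat.cast_nonneg _)
          exact_mod_cast hpos _ (hne 1 χ (hmemS.1 hχ))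
      _ ≤ ∑ s ∈ Finset.univ.filter (fun s => ∑ i, (L s i : ℂ) * v 1 χ i ≠ 0),
            (w s : ℝ) * ∑ k : K, Complex.normSq (∑ i, (L s i : ℂ) * v k χ i) := by
          rw [Finset.sum_mul]
          exact Finset.sum_le_sum fun s hs => mul_le_mul_of_nonneg_left
            (hform s χ (hmemS.1 hχ) (Finset.mem_filter.1 hs).2) (Nat.cast_nonneg _)
      _ ≤ _ := Finset.sum_le_sum_of_subset_of_nonneg (Finset.subset_univ _) fun s _ _ =>
          mul_nonneg (Nat.cast_nonneg _) (Finset.sum_nonneg fun k _ => Complex.normSq_nonneg _)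
  have htot : ∀ s : κ, ∑ χ ∈ S, ∑ k : K, Complex.normSq (∑ i, (L s i : ℂ) * v k χ i) =
      ((∑ i, ∑ j, L s i * L s j * cartanOf b A i j : ℤ) : ℝ) * Fintype.card K := by
    intro s
    rw [Finset.sum_comm, Finset.sum_congr rfl (g := fun _ : K =>
      ((∑ i, ∑ j, L s i * L s j * cartanOf b A i j : ℤ) : ℝ)) fun k _ => ?_, Finset.sum_const,
      Finset.card_univ, nsmul_eq_mul, mul_comm]
    apply Complex.ofReal_injective
    rw [Complex.ofReal_sum, Complex.ofReal_intCast]
    push_cast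
    simp only [← Complex.mul_conj, map_sum, map_mul, map_intCast, Finset.sum_mul_sum]
    rw [Finset.sum_comm]
    refine Finset.sum_congr rfl fun i _ => ?_
    rw [Finset.sum_comm]
    refine Finset.sum_congr rfl fun j _ => ?_
    rw [← hW k i j, Finset.mul_sum]
    exact Finset.sum_congr rfl fun χ _ => by ring
  have h := Finset.sum_le_sum hlow
  rw [Finset.sum_const, nsmul_eq_mul, Finset.sum_comm] at h
  simp only [← Finset.mul_sum, htot, ← mul_assoc, ← Finset.sum_mul] at h
  have h2 := le_of_mul_le_mul_right h (Nat.cast_pos.2 Fintype.card_pos)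
  rw [show Nat.card B = S.card by rw [Nat.card_coe_set_eq, Set.ncard_eq_toFinset_card _ B.toFinite],
    mul_comm T]
  have h3 : (((S.card * T : ℕ) : ℤ) : ℝ) ≤
      ((∑ s, (w s : ℤ) * ∑ i, ∑ j, L s i * L s j * cartanOf b A i j : ℤ) : ℝ) := by
    push_cast at h2 ⊢
    exact h2
  exact_mod_cast h3

/-- The Gram matrix of a basis of the regular parts is the inverse of the Cartan matrix. -/
theorem gram_mul_cartan [DecidableEq ι] {H : Type u} [Group H] [Fintype H]
    (hM : Cfsg.IsPModular p M) {b : Set (Cfsg.IrrCharacter H)}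
    (hb : Cfsg.IsPBlock M b) (ψ : ι → H → ℂ) (A : Cfsg.IrrCharacter H → ι → ℤ)
    (hA : ∀ η ∈ b, ∀ c : H, ¬ p ∣ orderOf c → (η : H → ℂ) c = ∑ i, (A η i : ℂ) * ψ i c)
    (hli : ∀ a : ι → ℂ, (∀ c : H, ¬ p ∣ orderOf c → ∑ i, a i * ψ i c = 0) → a = 0)
    (hspan : ∀ i, ∃ a : Cfsg.IrrCharacter H → ℂ, ∀ c : H, ¬ p ∣ orderOf c →
      ψ i c = ∑ η ∈ b.toFinite.toFinset, a η * (η : H → ℂ) c) :
    Matrix.of (fun i j => (Nat.card H : ℂ)⁻¹ *
        BlockChar.regSum p (fun c : H => ψ i c * conj (ψ j c))) *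
      Matrix.of (fun i j => (cartanOf b A i j : ℂ)) = 1 := by
  classical
  set S := b.toFinite.toFinset
  have hmemS : ∀ {φ}, φ ∈ S ↔ φ ∈ b := fun {φ} => Set.Finite.mem_toFinset _
  set Γ : ι → ι → ℂ := fun i j => (Nat.card H : ℂ)⁻¹ *
    BlockChar.regSum p (fun c : H => ψ i c * conj (ψ j c))
  set P : ℂ := ((p ^ Cfsg.blockDefect p b : ℕ) : ℂ)
  have hP : P ≠ 0 := Nat.cast_ne_zero.2 (pow_ne_zero _ hM.1.ne_zero)
  have hreg : ∀ η ∈ b, ∀ θ ∈ b, BlockChar.regM p b η θ =
      P * ∑ i, ∑ j, (A η i : ℂ) * (A θ j : ℂ) * Γ i j := by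
    intro η hη θ hθ
    simp only [BlockChar.regM, BlockChar.regSum_eq_filter, Γ, Finset.mul_sum]
    rw [Finset.sum_congr rfl (g := fun c : H => ∑ i, ∑ j, P * ((A η i : ℂ) * (A θ j : ℂ) *
      ((Nat.card H : ℂ)⁻¹ * (ψ i c * conj (ψ j c))))) fun c hc => by
      rw [hA η hη c (Finset.mem_filter.1 hc).2, hA θ hθ c (Finset.mem_filter.1 hc).2, map_sum,
        Finset.sum_mul_sum, Finset.mul_sum]
      refine Finset.sum_congr rfl fun i _ => ?_
      rw [Finset.mul_sum]
      refine Finset.sum_congr rfl fun j _ => ?_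
      rw [map_mul, map_intCast]
      simp only [P]
      ring, Finset.sum_comm]
    exact Finset.sum_congr rfl fun i _ => Finset.sum_comm
  have hrow : ∀ η ∈ b, ∀ j, ∑ i, (A η i : ℂ) * (∑ l, Γ i l * (cartanOf b A l j : ℂ)) =
      (A η j : ℂ) := by
    intro η hη
    have key : (fun j => P * (∑ i, (A η i : ℂ) * (∑ l, Γ i l * (cartanOf b A l j : ℂ))) -
        P * (A η j : ℂ)) = 0 := by
      refine hli _ fun c hc => ?_
      have h := BlockChar.sum_regM_mul hM hb hη c
      rw [if_pos (show Cfsg.IsPRegular p c from hc), ← Finset.sum_filter,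
        show Finset.univ.filter (· ∈ b) = S from Finset.ext fun θ => by simp [S],
        hA η hη c hc, Finset.sum_congr rfl fun θ hθ => by
          rw [hreg η hη θ (hmemS.1 hθ), hA θ (hmemS.1 hθ) c hc]] at h
      simp only [sub_mul, Finset.sum_sub_distrib]
      rw [sub_eq_zero, Finset.sum_congr rfl (g := fun j => P * ((A η j : ℂ) * ψ j c))
        (fun j _ => mul_assoc _ _ _) (s₁ := Finset.univ) (s₂ := Finset.univ), ← Finset.mul_sum,
        ← h]
      simp only [cartanOf, Int.cast_sum, Int.cast_mul, Finset.mul_sum, Finset.sum_mul]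
      symm
      rw [Finset.sum_comm]
      refine Finset.sum_congr rfl fun j _ => ?_
      rw [Finset.sum_comm]
      refine Finset.sum_congr rfl fun i _ => ?_
      rw [Finset.sum_comm]
      exact Finset.sum_congr rfl fun l _ => Finset.sum_congr rfl fun θ _ => by ring
    intro j
    have h := congrFun key j
    rw [Pi.zero_apply, sub_eq_zero] at h
    exact mul_left_cancel₀ hP h
  ext i j
  rw [Matrix.mul_apply, Matrix.one_apply]
  simp only [Matrix.of_apply]
  show ∑ l, Γ i l * (cartanOf b A l j : ℂ) = if i = j then 1 else 0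
  obtain ⟨a, ha⟩ := hspan i
  have hei : ∀ k, ∑ η ∈ S, a η * (A η k : ℂ) = if i = k then 1 else 0 := by
    have key := hli (fun k => ∑ η ∈ S, a η * (A η k : ℂ) - if i = k then 1 else 0) fun c hc => by
      simp only [sub_mul, Finset.sum_sub_distrib, ite_mul, one_mul, zero_mul, Finset.sum_ite_eq,
        Finset.mem_univ, if_true]
      rw [sub_eq_zero, ha c hc]
      simp only [Finset.sum_mul]
      rw [Finset.sum_comm]
      refine Finset.sum_congr rfl fun η hη => ?_
      rw [hA η (hmemS.1 hη) c hc, Finset.mul_sum]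
      exact Finset.sum_congr rfl fun k _ => by ring
    exact fun k => sub_eq_zero.1 (congrFun key k)
  calc ∑ l, Γ i l * (cartanOf b A l j : ℂ)
      = ∑ k, (if i = k then 1 else 0) * ∑ l, Γ k l * (cartanOf b A l j : ℂ) := by simp
    _ = ∑ η ∈ S, a η * ∑ k, (A η k : ℂ) * ∑ l, Γ k l * (cartanOf b A l j : ℂ) := by
        rw [Finset.sum_congr rfl fun k _ => by rw [← hei k, Finset.sum_mul], Finset.sum_comm]
        refine Finset.sum_congr rfl fun η _ => ?_
        rw [Finset.mul_sum]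
        exact Finset.sum_congr rfl fun k _ => by ring
    _ = ∑ η ∈ S, a η * (A η j : ℂ) :=
        Finset.sum_congr rfl fun η hη => by rw [hrow η (hmemS.1 hη) j]
    _ = _ := hei j

end lattice

end Cfsg.Agent.Blocks.Star
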