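import Cfsg.Agent.Blocks.Star.AbelianTrace
import Cfsg.Agent.Blocks.Star.AlgInt

/-!
# The norm of a character on a major subsection

For a character `χ` of height `h` the normalised norm of a section of full defect is `p ^ h` times
a totally positive algebraic integer.
-/

namespace Cfsg.Agent.Blocks.Star

open Cfsg.Agent Cfsg.Agent.Blocks
open scoped ComplexConjugate

universe u

variable {G : Type u} [Group G] [Fintype G] {p : ℕ} {M : Ideal Cfsg.AlgInt}
  {B : Set (Cfsg.IrrCharacter G)}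

local notation "CG[" Q "]" => Subgroup.centralizer ((Q : Subgroup G) : Set G)
local notation "sbc" => Cfsg.subgroupBlockCoeff

/-- The conjugates of a subsection. -/
noncomputable def orbitInd (u : G) (e : G → ℂ) (u' : G) (e' : G → ℂ) : ℂ :=
  haveI := Classical.propDecidable (∃ g : G, u' = g * u * g⁻¹ ∧ e' = conjF g e)
  if ∃ g : G, u' = g * u * g⁻¹ ∧ e' = conjF g e then 1 else 0

theorem orbitInd_conj (u : G) (e : G → ℂ) (u' v : G) (e' : G → ℂ) :
    orbitInd u e (v * u' * v⁻¹) (conjF v e') = orbitInd u e u' e' := by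
  have h : (∃ g : G, v * u' * v⁻¹ = g * u * g⁻¹ ∧ conjF v e' = conjF g e) ↔
      ∃ g : G, u' = g * u * g⁻¹ ∧ e' = conjF g e := by
    constructor
    · rintro ⟨g, h1, h2⟩
      refine ⟨v⁻¹ * g, ?_, ?_⟩
      · calc u' = v⁻¹ * (v * u' * v⁻¹) * v := by group
          _ = v⁻¹ * g * u * (v⁻¹ * g)⁻¹ := by rw [h1]; group
      · rw [← conjF_conjF, ← h2, conjF_conjF, inv_mul_cancel, conjF_one]
    · rintro ⟨g, h1, h2⟩
      exact ⟨v * g, by rw [h1]; group, by rw [h2, conjF_conjF]⟩
  unfold orbitInd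
  split_ifs with h1 h2 h2
  · rfl
  · exact absurd (h.1 h1) h2
  · exact absurd (h.2 h2) h1
  · rfl

theorem isClassFunction_Phi_of_conj {W : G → (G → ℂ) → ℂ}
    (hW : ∀ u v e, W (v * u * v⁻¹) (conjF v e) = W u e) {χ : G → ℂ}
    (hχ : Cfsg.IsClassFunction G χ) : Cfsg.IsClassFunction G (Phi p M W χ) := by
  intro g v
  have h1 : orderOf (v * g * v⁻¹) = orderOf g :=
    orderOf_injective (MulAut.conj v).toMonoidHom (MulAut.conj v).injective g
  have h2 : pPrimePartOf p (v * g * v⁻¹) = v * pPrimePartOf p g * v⁻¹ := by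
    rw [pPrimePartOf, pPrimePartOf, h1, conj_pow]
  rw [Phi, Phi, pPartOf_conj, h2]
  set u := pPartOf p g
  refine Finset.sum_bij (fun e _ => conjF v⁻¹ e) (fun e he => ?_) (fun a _ b _ h => ?_)
    (fun e he => ?_) fun e _ => ?_
  · have := conjF_mem_Bk he v⁻¹
    rwa [show v⁻¹ * (v * u * v⁻¹) * v⁻¹⁻¹ = u by group] at this
  · simpa [conjF_conjF, conjF_one] using congrArg (conjF v) h
  · exact ⟨conjF v e, conjF_mem_Bk he v, by simp [conjF_conjF, conjF_one]⟩
  · conv_lhs => rw [show e = conjF v (conjF v⁻¹ e) by simp [conjF_conjF, conjF_one]]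
    rw [hW, sect_conjF hχ]

theorem isIntegral_omega_of_values {χ f : G → ℂ} (hχ : Cfsg.IsIrrCharacter G χ)
    (hf : Cfsg.IsClassFunction G f) (hfi : ∀ g, IsIntegral ℤ (f g)) :
    IsIntegral ℤ (omega χ f) := by
  classical
  have : Finite (ConjClasses G) := Quotient.finite _
  letI := Fintype.ofFinite (ConjClasses G)
  rw [omega_eq_sum_classes (Char.isClassFunction_of_isIrr hχ) hf]
  exact IsIntegral.sum _ fun C _ => (hfi _).mul (isIntegral_centralChar hχ _)

theorem isIntegral_sect (hM : Cfsg.IsPModular p M) {u : G} (hu : ∃ k, orderOf u = p ^ k)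
    {e : G → ℂ} (he : e ∈ Bk M u) (χ : Cfsg.IrrCharacter G) {y : G} (hy : y ∈ regC p u) :
    IsIntegral ℤ (sect (χ : G → ℂ) u e y) := by
  obtain ⟨b, -, rfl⟩ := mem_Bk.1 he
  letI := Fintype.ofFinite CG[Subgroup.zpowers u]
  obtain ⟨hyC, -⟩ := mem_zpowers_centralizer_of_regC hy
  rw [show y = ((⟨y, hyC⟩ : CG[Subgroup.zpowers u]) : G) from rfl, sect_eq_sum]
  exact IsIntegral.sum _ fun η _ => (isIntegral_shiftCoef hM hu χ η).mul
    (Char.IsChar.isIntegral (Char.IsIrr.isCharacter η.2) _)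

open scoped Classical in
/-- The norm of a section with full defect. -/
theorem major_norm_spec (hM : Cfsg.IsPModular p M) {χ : Cfsg.IrrCharacter G} (hχ : χ ∈ B) {u : G}
    (hu : ∃ k, orderOf u = p ^ k) {b : Set (Cfsg.IrrCharacter CG[Subgroup.zpowers u])}
    (hpair : Cfsg.IsBrauerPairOf p M B (Subgroup.zpowers u) b)
    (hd : Cfsg.blockDefect p b = Cfsg.blockDefect p B) :
    ∃ a : ℂ, IsIntegral ℤ a ∧
      ((p ^ Cfsg.blockDefect p B : ℕ) : ℂ) / (Nat.card CG[Subgroup.zpowers u] : ℂ) *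
          sectNorm p (χ : G → ℂ) u (sbc CG[Subgroup.zpowers u] b) =
        ((p ^ Cfsg.blockHeight p B (χ : G → ℂ) : ℕ) : ℂ) * a ∧
      ∀ σ : ℂ →+* ℂ, ∃ r : ℝ, 0 < r ∧ σ a = (r : ℂ) := by
  haveI := Fact.mk hM.1
  letI := Fintype.ofFinite CG[Subgroup.zpowers u]
  have hp := hM.1
  have hH := mem_zpowers_centralizer' (G := G) u
  set e := sbc CG[Subgroup.zpowers u] b with he
  have heB : e ∈ Bk M u := sbc_mem_Bk hpair.1.2
  set S := sectNorm p (χ : G → ℂ) u e with hS
  set C := Nat.card CG[Subgroup.zpowers u] with hC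
  have hCne : (C : ℂ) ≠ 0 := Nat.cast_ne_zero.2 Nat.card_pos.ne'
  set t := ((p ^ Cfsg.blockDefect p B : ℕ) : ℂ) / (C : ℂ) * S with ht
  have htint : IsIntegral ℤ t := by
    rw [ht, hC, hS, he, ← hd, sectNorm_eq_contrib]
    exact isIntegral_contrib hH hM hu χ χ
  -- the class function of the subsection
  set W := orbitInd u e with hW
  set Φ := Phi p M W (χ : G → ℂ) with hΦ
  have hΦc : Cfsg.IsClassFunction G Φ :=
    isClassFunction_Phi_of_conj (fun u' v e' => orbitInd_conj u e u' v e')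
      (Char.isClassFunction_of_isIrr χ.2)
  have hΦi : ∀ g, IsIntegral ℤ (Φ g) := fun g => by
    refine IsIntegral.sum _ fun e' he' => IsIntegral.mul ?_ (isIntegral_sect hM
      (orderOf_pPartOf hp g) he' χ
      (by simp [regC, not_dvd_orderOf_pPrimePartOf hp, (commute_pPartOf_pPrimePartOf g).eq]))
    rw [hW, orbitInd]
    split_ifs
    · exact isIntegral_one
    · exact isIntegral_zero
  let Φbar : G → ℂ := fun g => conj (Φ g)
  set Ω := omega (χ : G → ℂ) Φbar
  have hΩ : IsIntegral ℤ Ω := isIntegral_omega_of_values χ.2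
    (fun g v => congrArg conj (hΦc g v)) fun g => (hΦi g).map (starRingEnd ℂ).toIntAlgHom
  -- the inner product with `χ`
  have hinner : (χ : G → ℂ) 1 * Ω = (Nat.card G : ℂ) / (C : ℂ) * S := by
    have h1 : ∑ g, (χ : G → ℂ) g * Φbar g = (χ : G → ℂ) 1 * Ω := by
      simp only [Ω, omega]
      rw [mul_div_cancel₀ _ (Char.IsIrr.one_ne_zero χ.2)]
      exact Finset.sum_congr rfl fun g _ => mul_comm _ _
    have hone : Phi p M (fun _ _ => 1) (χ : G → ℂ) = (χ : G → ℂ) :=
      funext fun g => Phi_eq_self hM χ g fun _ _ _ => rfl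
    have h2 := sum_Phi_mul_conj hM (fun _ _ => 1) W χ χ
    rw [hone] at h2
    rw [← h1, h2, Finset.sum_sigma']
    set T := (Finset.univ.filter (fun u : G => ∃ k, orderOf u = p ^ k)).sigma fun u => Bk M u
    let φ : G → (_ : G) × (G → ℂ) := fun g => ⟨g * u * g⁻¹, conjF g e⟩
    have hφT : ∀ g, φ g ∈ T := fun g => by
      refine Finset.mem_sigma.2 ⟨Finset.mem_filter.2 ⟨Finset.mem_univ _, ?_⟩,
        conjF_mem_Bk heB g⟩
      obtain ⟨k, hk⟩ := hu
      exact ⟨k, by
        rw [← hk]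
        exact orderOf_injective (MulAut.conj g).toMonoidHom (MulAut.conj g).injective u⟩
    have hfib : ∀ w ∈ Finset.univ.image φ,
        (Finset.univ.filter fun g => φ g = w).card = C := by
      intro w hw
      obtain ⟨g₀, -, rfl⟩ := Finset.mem_image.1 hw
      rw [hC, Nat.card_eq_fintype_card, ← Finset.card_univ]
      refine Finset.card_bij' (fun g hg => ⟨g₀⁻¹ * g, ?_⟩) (fun c _ => g₀ * (c : G))
        (fun _ _ => Finset.mem_univ _) (fun c _ => ?_) (fun g _ => mul_inv_cancel_left g₀ g)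
        (fun c _ => Subtype.ext (inv_mul_cancel_left g₀ (c : G)))
      · have h := congrArg Sigma.fst (Finset.mem_filter.1 hg).2
        have h' : g * u * g⁻¹ = g₀ * u * g₀⁻¹ := h
        refine mem_zpowers_centralizer.2 ?_
        calc u * (g₀⁻¹ * g) = g₀⁻¹ * (g₀ * u * g₀⁻¹) * g := by group
          _ = g₀⁻¹ * g * u := by rw [← h']; group
      · have hc : (c : G) * u * (c : G)⁻¹ = u := by
          rw [← mem_zpowers_centralizer.1 c.2, mul_inv_cancel_right]
        refine Finset.mem_filter.2 ⟨Finset.mem_univ _, Sigma.ext ?_ (heq_of_eq ?_)⟩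
        · show g₀ * (c : G) * u * (g₀ * (c : G))⁻¹ = g₀ * u * g₀⁻¹
          calc g₀ * (c : G) * u * (g₀ * (c : G))⁻¹ = g₀ * ((c : G) * u * (c : G)⁻¹) * g₀⁻¹ := by
                group
            _ = g₀ * u * g₀⁻¹ := by rw [hc]
        · show conjF (g₀ * (c : G)) e = conjF g₀ e
          rw [← conjF_conjF]
          congr 1
          funext z
          have := isInv_Bk heB _ (CG[Subgroup.zpowers u].inv_mem c.2) z
          simpa [conjF] using this
    have hval : ∀ z ∈ T, (1 : ℂ) * conj (W z.1 z.2) * ∑ y ∈ regC p z.1,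
        sect (χ : G → ℂ) z.1 z.2 y * conj (sect (χ : G → ℂ) z.1 z.2 y) =
        if z ∈ Finset.univ.image φ then S else 0 := by
      intro z _
      by_cases hz : z ∈ Finset.univ.image φ
      · obtain ⟨g, -, rfl⟩ := Finset.mem_image.1 hz
        rw [if_pos hz, hW, orbitInd, if_pos ⟨g, rfl, rfl⟩, map_one, one_mul, one_mul, hS]
        exact sectNorm_conjF (Char.isClassFunction_of_isIrr χ.2) u g e
      · rw [if_neg hz, hW, orbitInd, if_neg, map_zero, mul_zero, zero_mul]
        rintro ⟨g, h1, h2⟩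
        exact hz (Finset.mem_image.2 ⟨g, Finset.mem_univ _, Sigma.ext h1.symm (heq_of_eq h2.symm)⟩)
    rw [Finset.sum_congr rfl hval, ← Finset.sum_filter, Finset.sum_const, nsmul_eq_mul]
    congr 1
    rw [eq_div_iff hCne, Finset.filter_mem_eq_inter,
      Finset.inter_eq_right.2 (fun z hz => by
        obtain ⟨g, -, rfl⟩ := Finset.mem_image.1 hz
        exact hφT g), Nat.card_eq_fintype_card, ← Finset.card_univ,
      Finset.card_eq_sum_card_image φ, Finset.sum_congr rfl hfib, Finset.sum_const, smul_eq_mul,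
      Nat.cast_mul]
  -- divisibility
  obtain ⟨hdeg, hv, hb0⟩ := BlockChar.redDeg_mul (B := B) hp hχ
  set ht' := Cfsg.blockHeight p B (χ : G → ℂ)
  set r := BlockChar.redDeg p B χ
  set b' := r / p ^ ht'
  have hbb : p ^ ht' * b' = r := Nat.mul_div_cancel' (hv ▸ Nat.ordProj_dvd _ _)
  set m := Nat.card G / p ^ (Nat.card G).factorization p
  have hsum : Cfsg.blockDefect p B + BlockChar.minVal p B = (Nat.card G).factorization p := by
    have h1 := (BlockChar.minVal_le (p := p) hχ).trans (BlockChar.degree_val_le χ)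
    rw [BlockChar.blockDefect_eq]
    omega
  have hG : (Nat.card G : ℂ) = (p : ℂ) ^ (Nat.card G).factorization p * (m : ℂ) := by
    exact_mod_cast (Nat.ordProj_mul_ordCompl_eq_self (Nat.card G) p).symm
  have hp0 : (p : ℂ) ≠ 0 := Nat.cast_ne_zero.2 hp.ne_zero
  have hmt : (m : ℂ) * t = ((p ^ ht' : ℕ) : ℂ) * ((b' : ℂ) * Ω) := by
    rw [(CharArith.irr_degree_spec χ).1, hdeg, ← hbb, hG, ← hsum] at hinner
    rw [ht]
    push_cast at hinner ⊢
    refine mul_left_cancel₀ (pow_ne_zero (BlockChar.minVal p B) hp0) ?_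
    linear_combination -hinner
  have hco : IsCoprime ((p : ℤ) ^ ht') (m : ℤ) :=
    (Int.isCoprime_iff_gcd_eq_one.2 (by
      rw [Int.gcd_natCast_natCast]; exact Nat.coprime_ordCompl hp Nat.card_pos.ne')).pow_left
  obtain ⟨x, y, hxy⟩ := hco
  have hq : ((p ^ ht' : ℕ) : ℂ) ≠ 0 := Nat.cast_ne_zero.2 (pow_ne_zero _ hp.ne_zero)
  set a := t / ((p ^ ht' : ℕ) : ℂ) with hadef
  have ha : a = (x : ℂ) * t + (y : ℂ) * ((b' : ℂ) * Ω) := by
    have hxy' : (x : ℂ) * ((p ^ ht' : ℕ) : ℂ) + (y : ℂ) * (m : ℂ) = 1 := by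
      push_cast
      exact_mod_cast hxy
    rw [hadef, div_eq_iff hq]
    linear_combination -t * hxy' + (y : ℂ) * hmt
  refine ⟨a, ?_, (mul_div_cancel₀ t hq).symm, fun σ => ?_⟩
  · rw [ha]
    exact ((isIntegral_intCast _).mul htint).add
      ((isIntegral_intCast _).mul ((isIntegral_natCast _).mul hΩ))
  · have hcm : ∀ z, σ (conj (sect (χ : G → ℂ) u e z)) = conj (σ (sect (χ : G → ℂ) u e z)) :=
      fun z => isCM_sect heB χ z σ
    refine ⟨((p ^ Cfsg.blockDefect p B : ℕ) : ℝ) / (C : ℝ) *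
      (∑ z ∈ regC p u, Complex.normSq (σ (sect (χ : G → ℂ) u e z))) / ((p ^ ht' : ℕ) : ℝ), ?_, ?_⟩
    · refine div_pos (mul_pos (div_pos ?_ ?_) ?_) (Nat.cast_pos.2 (pow_pos hp.pos _))
      · exact Nat.cast_pos.2 (pow_pos hp.pos _)
      · exact Nat.cast_pos.2 Nat.card_pos
      · refine lt_of_lt_of_le ?_ (Finset.single_le_sum (fun z _ => Complex.normSq_nonneg _)
          (show (1 : G) ∈ regC p u by simp [regC, hp.ne_one]))
        rw [Complex.normSq_pos, map_ne_zero]
        exact sect_one_ne_zero hM hχ hu hpair hd.ge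
    · rw [hadef, ht, hS, sectNorm, map_div₀, map_mul, map_div₀, map_natCast, map_natCast,
        map_natCast, map_sum, Complex.ofReal_div, Complex.ofReal_mul, Complex.ofReal_div,
        Complex.ofReal_natCast, Complex.ofReal_natCast, Complex.ofReal_natCast, Complex.ofReal_sum]
      congr 2
      exact Finset.sum_congr rfl fun z _ => by rw [map_mul, hcm, Complex.mul_conj]

end Cfsg.Agent.Blocks.Star
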