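import Cfsg.Agent.Blocks.CoveringNormal
import Cfsg.Agent.Blocks.Star.Green
import Cfsg.Agent.BlockThms.OrderP.Residue
import Cfsg.Agent.BrauerPairs.Basic
import Mathlib.GroupTheory.Sylow

/-!
# The group ring over the local ring modulo a power of `p`, and the Brauer map
-/

namespace Cfsg.Agent.Blocks.Star

open Cfsg.Agent Cfsg.Agent.Blocks

universe u

attribute [local instance] Ideal.Quotient.field

variable {G : Type u} [Group G] [Fintype G] {p : ℕ} {M : Ideal Cfsg.AlgInt}

/-! ## Coefficients -/

/-- The element with prescribed coefficients. -/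
noncomputable def ofFun {S : Type*} [Semiring S] (f : G → S) : MonoidAlgebra S G :=
  ∑ g, MonoidAlgebra.single g (f g)

theorem coeff_ofFun {S : Type*} [Semiring S] (f : G → S) (z : G) : (ofFun f).coeff z = f z := by
  classical
  simp [ofFun, Finsupp.single_apply]

theorem coeff_mul' {S : Type*} [Semiring S] (x y : MonoidAlgebra S G) (z : G) :
    (x * y).coeff z = ∑ a, x.coeff a * y.coeff (a⁻¹ * z) := by
  rw [MonoidAlgebra.coeff_mul_apply_left, Finsupp.sum_fintype]
  intro a
  rw [zero_mul]

theorem alg_ext {S : Type*} [Semiring S] {x y : MonoidAlgebra S G}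
    (h : ∀ z, x.coeff z = y.coeff z) : x = y :=
  MonoidAlgebra.ext (Finsupp.ext h)

omit [Fintype G] in
theorem coeff_one {S : Type*} [Semiring S] [DecidableEq G] (z : G) :
    (1 : MonoidAlgebra S G).coeff z = if z = 1 then 1 else 0 := by
  rw [MonoidAlgebra.one_def, MonoidAlgebra.coeff_single, Finsupp.single_apply]
  simp [eq_comm]

/-! ## The coefficient ring -/

/-- The local ring modulo `p ^ (n + 1)`. -/
abbrev RN (hM : Cfsg.IsPModular p M) (n : ℕ) : Type :=
  localRing hM ⧸ Ideal.span {((p : localRing hM)) ^ (n + 1)}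

variable (hM : Cfsg.IsPModular p M) (n : ℕ)

/-- Reduction of a complex number, zero if it is not local. -/
noncomputable def toR (z : ℂ) : RN hM n :=
  haveI := Classical.propDecidable (Cfsg.MemLocalRing M z)
  if h : Cfsg.MemLocalRing M z then Ideal.Quotient.mk _ (⟨z, h⟩ : localRing hM) else 0

theorem toR_of_mem {z : ℂ} (h : Cfsg.MemLocalRing M z) :
    toR hM n z = Ideal.Quotient.mk _ (⟨z, h⟩ : localRing hM) := by
  rw [toR, dif_pos h]

theorem toR_add {x y : ℂ} (hx : Cfsg.MemLocalRing M x) (hy : Cfsg.MemLocalRing M y) :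
    toR hM n (x + y) = toR hM n x + toR hM n y := by
  rw [toR_of_mem hM n hx, toR_of_mem hM n hy, toR_of_mem hM n ((localRing hM).add_mem hx hy),
    ← map_add]
  rfl

theorem toR_sub {x y : ℂ} (hx : Cfsg.MemLocalRing M x) (hy : Cfsg.MemLocalRing M y) :
    toR hM n (x - y) = toR hM n x - toR hM n y := by
  rw [toR_of_mem hM n hx, toR_of_mem hM n hy, toR_of_mem hM n ((localRing hM).sub_mem hx hy),
    ← map_sub]
  rfl

theorem toR_mul {x y : ℂ} (hx : Cfsg.MemLocalRing M x) (hy : Cfsg.MemLocalRing M y) :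
    toR hM n (x * y) = toR hM n x * toR hM n y := by
  rw [toR_of_mem hM n hx, toR_of_mem hM n hy, toR_of_mem hM n ((localRing hM).mul_mem hx hy),
    ← map_mul]
  rfl

theorem toR_zero : toR hM n 0 = 0 := by
  rw [toR_of_mem hM n (localRing hM).zero_mem]
  exact map_zero (Ideal.Quotient.mk _)

theorem toR_one : toR hM n 1 = 1 := by
  rw [toR_of_mem hM n (localRing hM).one_mem]
  exact map_one (Ideal.Quotient.mk _)

theorem toR_natCast (m : ℕ) : toR hM n (m : ℂ) = (m : RN hM n) := by
  rw [toR_of_mem hM n (memLocalRing_natCast hM m)]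
  exact map_natCast (Ideal.Quotient.mk _) m

theorem toR_sum {ι : Type*} (s : Finset ι) {f : ι → ℂ} (h : ∀ i ∈ s, Cfsg.MemLocalRing M (f i)) :
    toR hM n (∑ i ∈ s, f i) = ∑ i ∈ s, toR hM n (f i) := by
  classical
  induction s using Finset.induction_on with
  | empty => simp [toR_zero]
  | insert a s ha ih =>
    rw [Finset.sum_insert ha, Finset.sum_insert ha, toR_add hM n (h a (Finset.mem_insert_self a s))
      ((localRing hM).sum_mem fun i hi => h i (Finset.mem_insert_of_mem hi)),
      ih fun i hi => h i (Finset.mem_insert_of_mem hi)]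

theorem toR_surjective (x : RN hM n) : ∃ z, Cfsg.MemLocalRing M z ∧ toR hM n z = x := by
  obtain ⟨z, rfl⟩ := Ideal.Quotient.mk_surjective x
  exact ⟨(z : ℂ), z.2, toR_of_mem hM n z.2⟩

/-- A chosen preimage. -/
noncomputable def ofR (x : RN hM n) : ℂ := (toR_surjective hM n x).choose

theorem memLocalRing_ofR (x : RN hM n) : Cfsg.MemLocalRing M (ofR hM n x) :=
  (toR_surjective hM n x).choose_spec.1

theorem toR_ofR (x : RN hM n) : toR hM n (ofR hM n x) = x :=
  (toR_surjective hM n x).choose_spec.2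

/-- The residue map. -/
noncomputable def rbar : RN hM n →+* Cfsg.AlgInt ⧸ M :=
  Ideal.Quotient.lift _ (residue hM) fun z hz => by
    have := hM.2.1
    obtain ⟨c, rfl⟩ := Ideal.mem_span_singleton.1 hz
    rw [map_mul, map_pow, map_natCast, ← map_natCast (Ideal.Quotient.mk M),
      Ideal.Quotient.eq_zero_iff_mem.2 ((natCast_mem_iff hM p).2 dvd_rfl),
      zero_pow (Nat.succ_ne_zero n), zero_mul]

theorem rbar_mk (z : localRing hM) : rbar hM n (Ideal.Quotient.mk _ z) = residue hM z :=
  Ideal.Quotient.lift_mk _ _ _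

theorem rbar_toR {z : ℂ} (h : Cfsg.MemLocalRing M z) : rbar hM n (toR hM n z) = resFun hM z := by
  rw [toR_of_mem hM n h, rbar_mk, residue_apply]

theorem rbar_surjective : Function.Surjective (rbar hM n) := by
  intro c
  obtain ⟨a, rfl⟩ := Ideal.Quotient.mk_surjective c
  exact ⟨toR hM n (a : ℂ), by rw [rbar_toR hM n (memLocalRing_coe hM a), resFun_coe]⟩

theorem isNilpotent_of_rbar {x : RN hM n} (h : rbar hM n x = 0) : IsNilpotent x := by
  obtain ⟨z, rfl⟩ := Ideal.Quotient.mk_surjective x
  rw [rbar_mk, residue_eq_zero_iff] at h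
  obtain ⟨m, hm⟩ := exists_pow_eq_mul hM h
  obtain ⟨r, hr, e⟩ := hm m le_rfl
  have e' : z ^ m = (p : localRing hM) * ⟨r, hr⟩ := Subtype.ext (by simpa using e)
  refine ⟨m * (n + 1), ?_⟩
  rw [← map_pow, Ideal.Quotient.eq_zero_iff_mem, pow_mul, e', mul_pow]
  exact Ideal.mul_mem_right _ _ (Ideal.subset_span rfl)

/-- The group ring. -/
abbrev GA (G : Type u) [Group G] (hM : Cfsg.IsPModular p M) (n : ℕ) : Type u :=
  MonoidAlgebra (RN hM n) G

/-- Reduction modulo `M`. -/
noncomputable def red : GA G hM n →+* ModAlg G M := MonoidAlgebra.mapRingHom G (rbar hM n)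

omit [Fintype G] in
theorem coeff_red (x : GA G hM n) (z : G) : (red hM n x).coeff z = rbar hM n (x.coeff z) := by
  simp [red]

/-- The element given by a function with local values. -/
noncomputable def toA (f : G → ℂ) : GA G hM n := ofFun fun g => toR hM n (f g)

theorem coeff_toA (f : G → ℂ) (z : G) : (toA hM n f).coeff z = toR hM n (f z) := coeff_ofFun _ z

theorem red_toA {f : G → ℂ} (hf : ∀ g, Cfsg.MemLocalRing M (f g)) :
    red hM n (toA hM n f) = redFun hM f := by
  refine alg_ext fun z => ?_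
  rw [coeff_red, coeff_toA, coeff_redFun, rbar_toR hM n (hf z)]

theorem toA_conv {f h : G → ℂ} (hf : ∀ g, Cfsg.MemLocalRing M (f g))
    (hh : ∀ g, Cfsg.MemLocalRing M (h g)) :
    toA hM n (conv f h) = toA hM n f * toA hM n h := by
  refine alg_ext fun z => ?_
  rw [coeff_mul', coeff_toA, conv, toR_sum hM n _ fun a _ => (localRing hM).mul_mem (hf a) (hh _)]
  simp only [coeff_toA, toR_mul hM n (hf _) (hh _)]

/-- An element whose reduction vanishes is nilpotent. -/
theorem isNilpotent_of_red {x : GA G hM n} (h : red hM n x = 0) : IsNilpotent x := by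
  classical
  let J : Ideal (RN hM n) := Ideal.span (Set.range fun g => x.coeff g)
  obtain ⟨m, hm⟩ : IsNilpotent J := by
    refine (Ideal.FG.isNilpotent_iff_le_nilradical ⟨Finset.univ.image fun g => x.coeff g, by
      simp [J]⟩).2 (Ideal.span_le.2 ?_)
    rintro _ ⟨g, rfl⟩
    exact isNilpotent_of_rbar hM n (by rw [← coeff_red, h]; simp)
  have key : ∀ t z, (x ^ t).coeff z ∈ J ^ t := by
    intro t
    induction t with
    | zero => intro z; simp
    | succ t ih =>
      intro z
      rw [pow_succ x t, coeff_mul', pow_succ J t]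
      exact Ideal.sum_mem _ fun a _ => Ideal.mul_mem_mul (ih a) (Ideal.subset_span ⟨_, rfl⟩)
  exact ⟨m, alg_ext fun z => by simpa [hm] using key m z⟩

/-- The unit given by a group element. -/
noncomputable def gU : G →* (GA G hM n)ˣ :=
  (Units.map (MonoidAlgebra.of (RN hM n) G)).comp toUnits.toMonoidHom

omit [Fintype G] in
theorem coe_gU (g : G) :
    ((gU hM n g : (GA G hM n)ˣ) : GA G hM n) = MonoidAlgebra.single g 1 := rfl

omit [Fintype G] in
theorem coeff_cj (g : G) (x : GA G hM n) (z : G) :
    (cj (gU hM n g) x).coeff z = x.coeff (g⁻¹ * z * g) := by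
  rw [cj, ← map_inv, coe_gU, coe_gU, MonoidAlgebra.coeff_mul_single_apply,
    MonoidAlgebra.coeff_single_mul_apply, mul_one, one_mul, inv_inv, mul_assoc]

/-- Elements centralizing the group elements of `S`. -/
noncomputable def cen (S : Set G) : Subring (GA G hM n) :=
  Subring.centralizer ((fun g : G => (MonoidAlgebra.single g 1 : GA G hM n)) '' S)

omit [Fintype G] in
theorem mem_cen_iff_cj {S : Set G} {x : GA G hM n} :
    x ∈ cen hM n S ↔ ∀ g ∈ S, cj (gU hM n g) x = x := by
  simp only [cen, Subring.mem_centralizer_iff, Set.forall_mem_image]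
  refine forall₂_congr fun g _ => ?_
  rw [cj, coe_gU]
  constructor
  · intro h
    rw [h, mul_assoc, ← map_inv, coe_gU, MonoidAlgebra.single_mul_single, mul_inv_cancel, mul_one,
      ← MonoidAlgebra.one_def, mul_one]
  · intro h
    conv_rhs => rw [← h]
    rw [mul_assoc, ← map_inv, coe_gU, MonoidAlgebra.single_mul_single, inv_mul_cancel, mul_one,
      ← MonoidAlgebra.one_def, mul_one]

omit [Fintype G] in
theorem mem_cen_iff {S : Set G} {x : GA G hM n} :
    x ∈ cen hM n S ↔ ∀ g ∈ S, ∀ z, x.coeff (g⁻¹ * z * g) = x.coeff z := by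
  rw [mem_cen_iff_cj]
  refine forall₂_congr fun g _ => ⟨fun h z => ?_, fun h => MonoidAlgebra.ext (Finsupp.ext fun z => ?_)⟩
  · conv_rhs => rw [← h]
    rw [coeff_cj]
  · show (cj (gU hM n g) x).coeff z = _
    rw [coeff_cj, h]

theorem toA_mem_cen {S : Set G} {f : G → ℂ} (hf : BrauerPairs.IsInv S f) :
    toA hM n f ∈ cen hM n S := by
  rw [mem_cen_iff]
  intro g hg z
  rw [coeff_toA, coeff_toA]
  congr 1
  conv_rhs => rw [show z = g * (g⁻¹ * z * g) * g⁻¹ by group]
  exact (hf g hg _).symm

theorem isLift_cen [M.IsMaximal] (S : Set G) :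
    IsLift (Cfsg.AlgInt ⧸ M) (red (G := G) hM n) (cen hM n S) where
  nil x hx := isNilpotent_of_red hM n hx
  scal c := by
    obtain ⟨a, rfl⟩ := rbar_surjective hM n c
    refine ⟨MonoidAlgebra.single 1 a, ?_, fun y => ?_, ?_⟩
    · rw [mem_cen_iff]
      intro g _ z
      classical
      have e : g⁻¹ * z * g = 1 ↔ z = 1 := by
        constructor
        · intro h
          have h2 : z = g * (g⁻¹ * z * g) * g⁻¹ := by group
          rw [h2, h]; group
        · rintro rfl; group
      simp only [MonoidAlgebra.coeff_single, Finsupp.single_apply]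
      simp [eq_comm, e]
    · refine alg_ext fun z => ?_
      rw [MonoidAlgebra.coeff_single_mul_apply, MonoidAlgebra.coeff_mul_single_apply]
      simp [mul_comm]
    · refine alg_ext fun z => ?_
      classical
      rw [coeff_red, MonoidAlgebra.coeff_single, Finsupp.single_apply]
      by_cases hz : z = 1
      · subst hz; simp
      · simp [Finsupp.single_apply, Ne.symm hz]

/-! ## Traces -/

/-- The functional given by a function. -/
noncomputable def tau (χ : G → ℂ) : GA G hM n →+ RN hM n where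
  toFun x := ∑ g, x.coeff g * toR hM n (χ g)
  map_zero' := by simp
  map_add' x y := by simp [add_mul, Finset.sum_add_distrib]

theorem tau_apply (χ : G → ℂ) (x : GA G hM n) :
    tau hM n χ x = ∑ g, x.coeff g * toR hM n (χ g) := rfl

theorem tau_comm {χ : G → ℂ} (hχ : Cfsg.IsClassFunction G χ) (x y : GA G hM n) :
    tau hM n χ (x * y) = tau hM n χ (y * x) := by
  have key : ∀ x y : GA G hM n,
      tau hM n χ (x * y) = ∑ a, ∑ b, x.coeff a * y.coeff b * toR hM n (χ (a * b)) := by
    intro x y
    simp only [tau_apply, coeff_mul', Finset.sum_mul]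
    rw [Finset.sum_comm]
    exact Finset.sum_congr rfl fun a _ =>
      Fintype.sum_equiv (Equiv.mulLeft a⁻¹) _ _ fun g => by simp
  rw [key, key, Finset.sum_comm]
  refine Finset.sum_congr rfl fun b _ => Finset.sum_congr rfl fun a _ => ?_
  rw [mul_comm (x.coeff a), show χ (a * b) = χ (b * a) by
    rw [show b * a = a⁻¹ * (a * b) * a⁻¹⁻¹ by group, hχ]]

theorem tau_cj {χ : G → ℂ} (hχ : Cfsg.IsClassFunction G χ) (u : (GA G hM n)ˣ) (x : GA G hM n) :
    tau hM n χ (cj u x) = tau hM n χ x := by
  rw [cj, tau_comm hM n hχ, ← mul_assoc, Units.inv_mul, one_mul]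

theorem tau_single_mul_toA {χ f : G → ℂ} (hf : ∀ g, Cfsg.MemLocalRing M (f g))
    (hχ : ∀ g, Cfsg.MemLocalRing M (χ g)) (a : G) :
    tau hM n χ (MonoidAlgebra.single a 1 * toA hM n f) = toR hM n (∑ g, f g * χ (a * g)) := by
  rw [tau_apply, toR_sum hM n _ fun g _ => (localRing hM).mul_mem (hf g) (hχ _)]
  refine Fintype.sum_equiv (Equiv.mulLeft a⁻¹) _ _ fun g => ?_
  rw [MonoidAlgebra.coeff_single_mul_apply, one_mul, coeff_toA, Equiv.coe_mulLeft,
    toR_mul hM n (hf _) (hχ _), mul_inv_cancel_left]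

/-! ## The Brauer map -/

section Brauer

local notation "kk" => Cfsg.AlgInt ⧸ M

/-- Truncation to the centralizer of `R`. -/
noncomputable def trunB (R : Subgroup G) (b : ModAlg G M) : ModAlg G M :=
  haveI := Classical.decPred (· ∈ Subgroup.centralizer (R : Set G))
  ofFun fun g => if g ∈ Subgroup.centralizer (R : Set G) then b.coeff g else 0

theorem coeff_trunB_of_mem {R : Subgroup G} (b : ModAlg G M) {z : G}
    (hz : z ∈ Subgroup.centralizer (R : Set G)) : (trunB R b).coeff z = b.coeff z := by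
  rw [trunB, coeff_ofFun, if_pos hz]

theorem coeff_trunB_of_notMem {R : Subgroup G} (b : ModAlg G M) {z : G}
    (hz : z ∉ Subgroup.centralizer (R : Set G)) : (trunB R b).coeff z = 0 := by
  rw [trunB, coeff_ofFun, if_neg hz]

theorem trunB_zero (R : Subgroup G) : trunB R (0 : ModAlg G M) = 0 := by
  classical
  refine alg_ext fun z => ?_
  simp [trunB, coeff_ofFun]

theorem trunB_add (R : Subgroup G) (a b : ModAlg G M) :
    trunB R (a + b) = trunB R a + trunB R b := by
  classical
  refine alg_ext fun z => ?_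
  simp only [trunB, MonoidAlgebra.coeff_add, Finsupp.add_apply, coeff_ofFun]
  split_ifs <;> simp

theorem trunB_sub (R : Subgroup G) (a b : ModAlg G M) :
    trunB R (a - b) = trunB R a - trunB R b := by
  classical
  refine alg_ext fun z => ?_
  simp only [trunB, MonoidAlgebra.coeff_sub, Finsupp.sub_apply, coeff_ofFun]
  split_ifs <;> simp

theorem trunB_sum (R : Subgroup G) {ι : Type*} (s : Finset ι) (a : ι → ModAlg G M) :
    trunB R (∑ i ∈ s, a i) = ∑ i ∈ s, trunB R (a i) := by
  classical
  induction s using Finset.induction_on with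
  | empty => simp [trunB_zero]
  | insert i s hi ih => rw [Finset.sum_insert hi, Finset.sum_insert hi, trunB_add, ih]

theorem trunB_one (R : Subgroup G) : trunB R (1 : ModAlg G M) = 1 := by
  classical
  refine alg_ext fun z => ?_
  rw [trunB, coeff_ofFun, coeff_one]
  by_cases hz : z = 1
  · subst hz; rw [if_pos (one_mem _)]
  · simp [hz]

theorem trunB_trunB {Q R : Subgroup G} (hQR : Q ≤ R) (b : ModAlg G M) :
    trunB R (trunB Q b) = trunB R b := by
  refine alg_ext fun z => ?_
  by_cases hz : z ∈ Subgroup.centralizer (R : Set G)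
  · rw [coeff_trunB_of_mem _ hz, coeff_trunB_of_mem _ hz, coeff_trunB_of_mem _
      (Subgroup.centralizer_le (SetLike.coe_subset_coe.2 hQR) hz)]
  · rw [coeff_trunB_of_notMem _ hz, coeff_trunB_of_notMem _ hz]

/-- Invariance of the coefficients. -/
def FixB (S : Set G) (b : ModAlg G M) : Prop := ∀ g ∈ S, ∀ z, b.coeff (g⁻¹ * z * g) = b.coeff z

omit [Fintype G] in
theorem fixB_red {S : Set G} {x : GA G hM n} (hx : x ∈ cen hM n S) : FixB S (red hM n x) := by
  intro g hg z
  rw [coeff_red, coeff_red, (mem_cen_iff hM n).1 hx g hg z]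

/-- In characteristic `p` a sum invariant under a `p`-group is the sum over the fixed points. -/
theorem sum_eq_sum_fixed {K : Type*} [CommRing K] [CharP K p] [Fact p.Prime] {P α : Type*}
    [Group P] [MulAction P α] [Fintype α] (hP : IsPGroup p P) (φ : α → K)
    (hφ : ∀ (g : P) (a : α), φ (g • a) = φ a) [DecidablePred (· ∈ MulAction.fixedPoints P α)] :
    ∑ a, φ a = ∑ a ∈ Finset.univ.filter (· ∈ MulAction.fixedPoints P α), φ a := by
  classical
  rw [← Finset.sum_fiberwise_of_maps_to (g := φ) (t := Finset.univ.image φ)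
      (fun a ha => Finset.mem_image_of_mem φ ha),
    ← Finset.sum_fiberwise_of_maps_to (g := φ) (t := Finset.univ.image φ)
      (fun a _ => Finset.mem_image_of_mem φ (Finset.mem_univ a))]
  refine Finset.sum_congr rfl fun v _ => ?_
  rw [Finset.sum_congr rfl (fun a ha => (Finset.mem_filter.1 ha).2),
    Finset.sum_congr rfl (fun a ha => (Finset.mem_filter.1 ha).2), Finset.sum_const,
    Finset.sum_const, nsmul_eq_mul, nsmul_eq_mul]
  congr 1
  letI : MulAction P {a : α // φ a = v} :=
    { smul := fun g a => ⟨g • a.1, (hφ g a.1).trans a.2⟩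
      one_smul := fun a => Subtype.ext (one_smul P a.1)
      mul_smul := fun g h a => Subtype.ext (mul_smul g h a.1) }
  have h := hP.card_modEq_card_fixedPoints {a : α // φ a = v}
  have e1 : Nat.card {a : α // φ a = v} = (Finset.univ.filter fun a => φ a = v).card := by
    rw [Nat.card_eq_fintype_card, Fintype.card_subtype]
  have e2 : Nat.card (MulAction.fixedPoints P {a : α // φ a = v}) =
      ((Finset.univ.filter (· ∈ MulAction.fixedPoints P α)).filter fun a => φ a = v).card := by
    rw [Finset.filter_filter, ← Fintype.card_subtype, ← Nat.card_eq_fintype_card]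
    exact Nat.card_congr
      { toFun := fun a => ⟨a.1.1, fun g => congrArg Subtype.val (a.2 g), a.1.2⟩
        invFun := fun a => ⟨⟨a.1, a.2.2⟩, fun g => Subtype.ext (a.2.1 g)⟩
        left_inv := fun _ => rfl
        right_inv := fun _ => rfl }
  rw [e1, e2] at h
  exact (CharP.natCast_eq_natCast K p).2 h

variable [Fact p.Prime]

include hM in
/-- The Brauer map is multiplicative on invariant elements. -/
theorem trunB_mul {R : Subgroup G} (hR : IsPGroup p R) {a b : ModAlg G M}
    (ha : FixB (R : Set G) a) (hb : FixB (R : Set G) b) :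
    trunB R (a * b) = trunB R a * trunB R b := by
  classical
  have := charP_residueField hM
  refine alg_ext fun z => ?_
  rw [coeff_mul']
  by_cases hz : z ∈ Subgroup.centralizer (R : Set G)
  · rw [coeff_trunB_of_mem _ hz, coeff_mul']
    letI : MulAction R G := MulAction.compHom G ((MulAut.conj : G →* MulAut G).comp R.subtype)
    have hs : ∀ (u : R) (c : G), u • c = (u : G) * c * (u : G)⁻¹ := fun _ _ => rfl
    have hfix : ∀ c, c ∈ MulAction.fixedPoints R G ↔ c ∈ Subgroup.centralizer (R : Set G) := by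
      intro c
      rw [Subgroup.mem_centralizer_iff]
      exact ⟨fun h u hu => mul_inv_eq_iff_eq_mul.1 (h ⟨u, hu⟩),
        fun h u => by rw [hs, h u.1 u.2, mul_inv_cancel_right]⟩
    rw [sum_eq_sum_fixed (p := p) hR (fun c => a.coeff c * b.coeff (c⁻¹ * z)) fun u c => by
      have hu : (u : G)⁻¹ * z * (u : G) = z := by
        rw [mul_assoc, ← Subgroup.mem_centralizer_iff.1 hz u u.2, inv_mul_cancel_left]
      simp only [hs]
      congr 1
      · have := ha u u.2 ((u : G) * c * (u : G)⁻¹)
        rw [show (u : G)⁻¹ * ((u : G) * c * (u : G)⁻¹) * (u : G) = c by group] at this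
        exact this.symm
      · have := hb u u.2 (((u : G) * c * (u : G)⁻¹)⁻¹ * z)
        rw [← this]
        congr 1
        rw [show (u : G)⁻¹ * (((u : G) * c * (u : G)⁻¹)⁻¹ * z) * (u : G) =
          c⁻¹ * ((u : G)⁻¹ * z * (u : G)) by group, hu]]
    rw [Finset.filter_congr fun c _ => hfix c, Finset.sum_filter]
    refine Finset.sum_congr rfl fun c _ => ?_
    split_ifs with hc
    · rw [coeff_trunB_of_mem _ hc, coeff_trunB_of_mem _ (mul_mem (inv_mem hc) hz)]
    · rw [coeff_trunB_of_notMem _ hc, zero_mul]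
  · rw [coeff_trunB_of_notMem _ hz]
    refine (Finset.sum_eq_zero fun c _ => ?_).symm
    by_cases hc : c ∈ Subgroup.centralizer (R : Set G)
    · rw [coeff_trunB_of_notMem _ (z := c⁻¹ * z) fun h => hz
        (by simpa using mul_mem hc h), mul_zero]
    · rw [coeff_trunB_of_notMem _ hc, zero_mul]

/-- The Brauer map on the group ring. -/
noncomputable def br (R : Subgroup G) (x : GA G hM n) : ModAlg G M := trunB R (red hM n x)

theorem br_mul {R : Subgroup G} (hR : IsPGroup p R) {S : Set G} (hRS : (R : Set G) ⊆ S)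
    {x y : GA G hM n} (hx : x ∈ cen hM n S) (hy : y ∈ cen hM n S) :
    br hM n R (x * y) = br hM n R x * br hM n R y := by
  rw [br, map_mul, trunB_mul hM hR (fun g hg => fixB_red hM n hx g (hRS hg))
    (fun g hg => fixB_red hM n hy g (hRS hg))]
  rfl

omit [Fact p.Prime] in
theorem br_add (R : Subgroup G) (x y : GA G hM n) :
    br hM n R (x + y) = br hM n R x + br hM n R y := by
  rw [br, map_add, trunB_add]; rfl

omit [Fact p.Prime] in
theorem br_sub (R : Subgroup G) (x y : GA G hM n) :
    br hM n R (x - y) = br hM n R x - br hM n R y := by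
  rw [br, map_sub, trunB_sub]; rfl

omit [Fact p.Prime] in
theorem br_zero (R : Subgroup G) : br hM n R (0 : GA G hM n) = 0 := by
  rw [br, map_zero, trunB_zero]

omit [Fact p.Prime] in
theorem br_one (R : Subgroup G) : br hM n R (1 : GA G hM n) = 1 := by
  rw [br, map_one, trunB_one]

omit [Fact p.Prime] in
theorem br_sum (R : Subgroup G) {ι : Type*} (s : Finset ι) (x : ι → GA G hM n) :
    br hM n R (∑ i ∈ s, x i) = ∑ i ∈ s, br hM n R (x i) := by
  rw [br, map_sum, trunB_sum]; rfl

theorem br_isNilpotent {R : Subgroup G} (hR : IsPGroup p R) {S : Set G} (hRS : (R : Set G) ⊆ S)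
    {x : GA G hM n} (hx : x ∈ cen hM n S) (hn : IsNilpotent x) :
    IsNilpotent (br hM n R x) := by
  obtain ⟨m, hm⟩ := hn
  have key : ∀ t : ℕ, br hM n R (x ^ t) = br hM n R x ^ t := by
    intro t
    induction t with
    | zero => rw [pow_zero, pow_zero, br_one]
    | succ t ih =>
      rw [pow_succ x t, pow_succ (br hM n R x) t, br_mul hM n hR hRS ((cen hM n S).pow_mem hx t) hx, ih]
  exact ⟨m, by rw [← key, hm, br_zero]⟩

end Brauer

/-! ## Relative traces -/

section Kernel

variable [Fact p.Prime]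

omit [Fintype G] in
/-- A proper subgroup of a finite `p`-group lies in a normal subgroup of index `p`. -/
theorem exists_index_p [Finite G] {H R : Subgroup G} (hR : IsPGroup p R) (hle : H ≤ R)
    (hne : H ≠ R) :
    ∃ K, H ≤ K ∧ K ≤ R ∧ R ≤ Subgroup.normalizer (K : Set G) ∧ K.relIndex R = p := by
  have hp : p.Prime := Fact.out
  obtain ⟨a, ha⟩ := IsPGroup.iff_card.1 hR
  obtain ⟨b, hb⟩ := IsPGroup.iff_card.1 (hR.to_le hle)
  have hba : b < a := by
    rcases Nat.lt_or_ge b a with h | h
    · exact h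
    refine absurd (Subgroup.eq_of_le_of_card_ge hle ?_) hne
    rw [ha, hb]
    exact Nat.pow_le_pow_right hp.pos h
  obtain ⟨K, hK, hHK⟩ := Sylow.exists_subgroup_card_pow_prime_le (G := R) p (n := b) (m := a - 1)
    (by rw [ha]; exact pow_dvd_pow p (Nat.sub_le a 1)) (H.subgroupOf R)
    (by rw [Nat.card_congr (Subgroup.subgroupOfEquivOfLe hle).toEquiv, hb]) (by omega)
  have hidx : K.index = p := by
    have h := K.card_mul_index
    rw [hK, ha] at h
    have e : p ^ a = p ^ (a - 1) * p := by rw [← pow_succ, Nat.sub_add_cancel (by omega)]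
    rw [e] at h
    exact Nat.eq_of_mul_eq_mul_left (pow_pos hp.pos _) h
  have hn : K.Normal := Subgroup.normal_of_index_eq_minFac_card (by
    rw [hidx, ha, Nat.pow_minFac (by omega), hp.minFac_eq])
  refine ⟨K.map R.subtype, fun h hh => ⟨⟨h, hle hh⟩, hHK (Subgroup.mem_subgroupOf.2 hh), rfl⟩,
    Subgroup.map_subtype_le _, ?_, ?_⟩
  · intro r hr
    refine Subgroup.mem_normalizer_iff.2 fun z => ?_
    constructor
    · rintro ⟨k, hk, rfl⟩
      exact ⟨⟨r, hr⟩ * k * ⟨r, hr⟩⁻¹, hn.conj_mem k hk _, rfl⟩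
    · rintro ⟨k, hk, hkz⟩
      refine ⟨⟨r, hr⟩⁻¹ * k * ⟨r, hr⟩⁻¹⁻¹, hn.conj_mem k hk _, ?_⟩
      simp only [Subgroup.coe_subtype] at hkz ⊢
      push_cast
      rw [hkz]; group
  · rw [Subgroup.relIndex, Subgroup.subgroupOf,
      Subgroup.comap_map_eq_self_of_injective R.subtype_injective, hidx]

end Kernel

end Cfsg.Agent.Blocks.Star
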