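import Cfsg.Agent.Blocks.Star.Section
import Cfsg.Agent.BrauerPairs.Nilpotent

/-!
# Sums over the subsections of a nilpotent block

When all maps of the fusion system are inner the subsections of the block are parametrised by the
classes of the defect group, and a sum over subsections becomes a weighted sum over `P`.
-/

namespace Cfsg.Agent.Blocks.Star

open Cfsg.Agent Cfsg.Agent.Blocks
open scoped ComplexConjugate

universe u

variable {G : Type u} [Group G] [Fintype G] {p : ℕ} {M : Ideal Cfsg.AlgInt}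
  {B : Set (Cfsg.IrrCharacter G)} {P : Subgroup G}
  {e₀ : Set (Cfsg.IrrCharacter (Subgroup.centralizer (P : Set G)))}

local notation "CG[" Q "]" => Subgroup.centralizer ((Q : Subgroup G) : Set G)
local notation "sbc" => Cfsg.subgroupBlockCoeff

omit [Fintype G] in
theorem Below.exists_block {u : G} {e : G → ℂ} (h : Below p M P e₀ u e) :
    ∃ b, Cfsg.SubpairLE p M (Subgroup.zpowers u) b P e₀ ∧ sbc CG[Subgroup.zpowers u] b = e :=
  h

theorem Below.unique (hM : Cfsg.IsPModular p M) (hmax : Cfsg.IsMaximalBrauerPair p M B P e₀)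
    {u : G} {e e' : G → ℂ} (h : Below p M P e₀ u e) (h' : Below p M P e₀ u e') : e = e' := by
  haveI := Fact.mk hM.1
  obtain ⟨b, hb, rfl⟩ := h
  obtain ⟨b', hb', rfl⟩ := h'
  rw [(BrauerPairs.existsUnique_subpairLE hM hmax.1.1
    (BlockChar.le_of_subpairLE hb)).unique hb hb']

/-- The pairs below `(P, e₀)` are permuted by `P`. -/
theorem Below.conj_mem (hM : Cfsg.IsPModular p M) {u q : G} {e : G → ℂ} (hq : q ∈ P)
    (h : Below p M P e₀ u e) : Below p M P e₀ (q * u * q⁻¹) (conjF q e) := by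
  obtain ⟨b, hb, rfl⟩ := h
  have h1 := BrauerPairs.le_conjPair hM (a := ⟨Subgroup.zpowers u, b⟩) (b := ⟨P, e₀⟩) hb q
  rw [BrauerPairs.conjPair_self_of_mem hq] at h1
  exact (below_conj_iff b).2 h1

/-- When every map is inner fused elements of `P` are conjugate in `P`. -/
theorem exists_conj_of_below (hM : Cfsg.IsPModular p M)
    (hmax : Cfsg.IsMaximalBrauerPair p M B P e₀) (hnil : Cfsg.IsNilpotentBlock p M B) {u g : G}
    {e : G → ℂ} (hu : Below p M P e₀ u e) (hgu : Below p M P e₀ (g * u * g⁻¹) (conjF g e)) :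
    ∃ q ∈ P, g * u * g⁻¹ = q * u * q⁻¹ := by
  obtain ⟨F, hF⟩ := BrauerPairs.exists_isBlockFusionSystemOn hM hmax
  obtain ⟨f, hf, rfl⟩ := hu
  have hφ : (MulAut.conj g).toMonoidHom.comp (Subgroup.zpowers u).subtype ∈
      F.Hom (Subgroup.zpowers u) :=
    (hF.2 _ _).2 ⟨BlockChar.le_of_subpairLE hf, g, fun _ => rfl,
      BlockChar.le_of_subpairLE ((below_conj_iff f).1 hgu), f, hf, (below_conj_iff f).1 hgu⟩
  rw [BrauerPairs.hom_eq_inner_of_nilpotent hM hF hnil] at hφ
  obtain ⟨-, q, hq, hqv⟩ := hφ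
  exact ⟨q, hq, hqv ⟨u, Subgroup.mem_zpowers u⟩⟩

/-- Class functions on `P` are stable. -/
theorem isStable_of_nilpotent (hM : Cfsg.IsPModular p M)
    (hmax : Cfsg.IsMaximalBrauerPair p M B P e₀) (hnil : Cfsg.IsNilpotentBlock p M B) {f : G → ℂ}
    (hf : ∀ q ∈ P, ∀ x ∈ P, f (q * x * q⁻¹) = f x) : IsStable p M P e₀ f := by
  intro u g e hu hgu
  obtain ⟨q, hq, hqe⟩ := exists_conj_of_below hM hmax hnil hu hgu
  rw [hqe, hf q hq u hu.mem]

theorem card_zpowers_centralizer_conj (u v : G) :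
    Nat.card CG[Subgroup.zpowers (v * u * v⁻¹)] = Nat.card CG[Subgroup.zpowers u] := by
  refine Nat.card_congr ⟨fun z => ⟨v⁻¹ * z * v, (mem_zpowers_centralizer_conj u v z).1 z.2⟩,
    fun z => ⟨v * z * v⁻¹, (mem_zpowers_centralizer_conj u v _).2 (by
      rw [show v⁻¹ * (v * (z : G) * v⁻¹) * v = z by group]; exact z.2)⟩,
    fun z => Subtype.ext (by group), fun z => Subtype.ext (by group)⟩

/-- The weight of a point of `P` in a sum over subsections. -/
noncomputable def pWeight (P : Subgroup G) (x : G) : ℂ :=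
  (Nat.card (P ⊓ CG[Subgroup.zpowers x] : Subgroup G) : ℂ) /
    (Nat.card CG[Subgroup.zpowers x] : ℂ)

open scoped Classical in
/-- A sum over the subsections of a block whose fusion is controlled by the subgroup `T`. -/
theorem sum_subsections_of_control (hM : Cfsg.IsPModular p M)
    (hmax : Cfsg.IsMaximalBrauerPair p M B P e₀) (T : Subgroup G)
    (hpres : ∀ t ∈ T, ∀ u e, Below p M P e₀ u e → Below p M P e₀ (t * u * t⁻¹) (conjF t e))
    (hctrl : ∀ u g e, Below p M P e₀ u e → Below p M P e₀ (g * u * g⁻¹) (conjF g e) →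
      ∃ t ∈ T, g * u * g⁻¹ = t * u * t⁻¹)
    (ex : P → G → ℂ)
    (hex : ∀ x : P, Below p M P e₀ (x : G) (ex x)) (F : G → (G → ℂ) → ℂ)
    (hconj : ∀ u v e, (∃ k, orderOf u = p ^ k) → e ∈ Bk M u →
      F (v * u * v⁻¹) (conjF v e) = F u e)
    (hsupp : ∀ u, (∃ k, orderOf u = p ^ k) → ∀ e ∈ Bk M u, F u e ≠ 0 →
      ∃ g, Below p M P e₀ (g * u * g⁻¹) (conjF g e)) :
    (Nat.card T : ℂ) * ∑ u ∈ Finset.univ.filter (fun u : G => ∃ k, orderOf u = p ^ k),
        ∑ e ∈ Bk M u, F u e =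
      (Nat.card G : ℂ) * ∑ x : P, pWeight T (x : G) * F (x : G) (ex x) := by
  haveI := Fact.mk hM.1
  have hxp : ∀ x : P, ∃ k, orderOf (x : G) = p ^ k := fun x => by
    obtain ⟨k, hk⟩ := IsPGroup.iff_orderOf.1 hmax.1.1.1 x
    exact ⟨k, by rw [Subgroup.orderOf_coe, hk]⟩
  have hexBk : ∀ x : P, ex x ∈ Bk M (x : G) := fun x => by
    obtain ⟨b, hb, he⟩ := hex x
    exact mem_Bk.2 ⟨b, ((BrauerPairs.isBrauerPairOf_iff_of_subpairLE hM hb B).1 hmax.1).1.2, he⟩
  rw [Finset.sum_sigma']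
  set S := (Finset.univ.filter (fun u : G => ∃ k, orderOf u = p ^ k)).sigma fun u => Bk M u with hS
  let φ : G × P → (_ : G) × (G → ℂ) := fun z =>
    ⟨z.1 * (z.2 : G) * z.1⁻¹, conjF z.1 (ex z.2)⟩
  have hφS : ∀ z ∈ (Finset.univ : Finset (G × P)), φ z ∈ S := by
    intro z _
    refine Finset.mem_sigma.2 ⟨Finset.mem_filter.2 ⟨Finset.mem_univ _, ?_⟩,
      conjF_mem_Bk (hexBk z.2) z.1⟩
    obtain ⟨k, hk⟩ := hxp z.2
    exact ⟨k, by
      rw [← hk]
      exact orderOf_injective (MulAut.conj z.1).toMonoidHom (MulAut.conj z.1).injective (z.2 : G)⟩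
  have hfib : ∀ t ∈ S, (∑ z ∈ Finset.univ.filter (fun z => φ z = t), pWeight T (z.2 : G)) *
      F t.1 t.2 = (Nat.card T : ℂ) * F t.1 t.2 := by
    rintro ⟨u, e⟩ ht
    simp only [hS, Finset.mem_sigma, Finset.mem_filter] at ht
    by_cases h0 : F u e = 0
    · simp only [h0, mul_zero]
    congr 1
    obtain ⟨g₀, hg₀⟩ := hsupp u ht.1.2 e ht.2 h0
    set x₀ : P := ⟨g₀ * u * g₀⁻¹, hg₀.mem⟩ with hx₀
    have hex₀ : ex x₀ = conjF g₀ e := (hex x₀).unique hM hmax hg₀
    set h := g₀⁻¹ with hh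
    have hbel : ∀ q : T, Below p M P e₀ ((q : G) * x₀ * (q : G)⁻¹) (conjF (q : G) (ex x₀)) :=
      fun q => hpres q q.2 _ _ (hex x₀)
    let xq : T → P := fun q => ⟨(q : G) * x₀ * (q : G)⁻¹, (hbel q).mem⟩
    have hmove : ∀ q : T, ex (xq q) = conjF (q : G) (ex x₀) := fun q =>
      (hex (xq q)).unique hM hmax (hbel q)
    have hfix : ∀ c : CG[Subgroup.zpowers (x₀ : G)], conjF (c : G) (ex x₀) = ex x₀ := fun c =>
      funext fun z => by
        have := isInv_Bk (hexBk x₀) _ (CG[Subgroup.zpowers (x₀ : G)].inv_mem c.2) z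
        simpa [conjF] using this
    let Ψ : T × CG[Subgroup.zpowers (x₀ : G)] → G × P := fun qc =>
      (h * (qc.2 : G) * (qc.1 : G)⁻¹, xq qc.1)
    have hΨ : ∀ qc ∈ (Finset.univ : Finset (T × CG[Subgroup.zpowers (x₀ : G)])),
        Ψ qc ∈ Finset.univ.filter (fun z => φ z = ⟨u, e⟩) := by
      rintro ⟨q, c⟩ -
      refine Finset.mem_filter.2 ⟨Finset.mem_univ _, ?_⟩
      have hc : (c : G) * x₀ * (c : G)⁻¹ = x₀ := by
        rw [← mem_zpowers_centralizer.1 c.2, mul_inv_cancel_right]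
      refine Sigma.ext ?_ (heq_of_eq ?_)
      · show h * (c : G) * (q : G)⁻¹ * ((q : G) * x₀ * (q : G)⁻¹) * (h * (c : G) * (q : G)⁻¹)⁻¹ = u
        calc h * (c : G) * (q : G)⁻¹ * ((q : G) * x₀ * (q : G)⁻¹) * (h * (c : G) * (q : G)⁻¹)⁻¹
            = h * ((c : G) * x₀ * (c : G)⁻¹) * h⁻¹ := by group
          _ = u := by rw [hc, hx₀, hh]; group
      · show conjF (h * (c : G) * (q : G)⁻¹) (ex (xq q)) = e
        rw [hmove, conjF_conjF, inv_mul_cancel_right, ← conjF_conjF, hfix, hex₀, conjF_conjF, hh,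
          inv_mul_cancel, conjF_one]
    have hcard : ∀ z ∈ Finset.univ.filter (fun z => φ z = ⟨u, e⟩),
        ((Finset.univ.filter (fun qc => Ψ qc = z)).card : ℂ) *
          (Nat.card CG[Subgroup.zpowers (x₀ : G)] : ℂ)⁻¹ = pWeight T (z.2 : G) := by
      rintro ⟨g, x⟩ hz
      simp only [Finset.mem_filter, Finset.mem_univ, true_and, φ] at hz
      obtain ⟨hz1, hz2⟩ := Sigma.mk.inj_iff.1 hz
      have hz2' := eq_of_heq hz2
      have hk1 : g₀ * g * (x : G) * (g₀ * g)⁻¹ = x₀ := by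
        rw [hx₀]
        show _ = g₀ * u * g₀⁻¹
        rw [← hz1]; group
      have hk2 : Below p M P e₀ (g₀ * g * (x : G) * (g₀ * g)⁻¹) (conjF (g₀ * g) (ex x)) := by
        rw [← conjF_conjF, hz2', hk1]
        exact hg₀
      obtain ⟨q, hq, hqe⟩ := hctrl _ _ _ (hex x) hk2
      have hq1 : (q⁻¹ : G) * x₀ * q = (x : G) := by rw [← hk1, hqe]; group
      have hxx : ∀ a : (T ⊓ CG[Subgroup.zpowers (x : G)] : Subgroup G),
          g₀ * g * ((a : G) * q⁻¹) ∈ CG[Subgroup.zpowers (x₀ : G)] := fun a => by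
        have ha : (a : G) * x * (a : G)⁻¹ = x := by
          rw [← mem_zpowers_centralizer.1 a.2.2, mul_inv_cancel_right]
        refine mem_zpowers_centralizer.2 ?_
        calc (x₀ : G) * (g₀ * g * ((a : G) * q⁻¹))
            = g₀ * g * ((x : G) * ((a : G) * q⁻¹)) := by rw [← hk1]; group
          _ = g₀ * g * (((a : G) * x * (a : G)⁻¹) * ((a : G) * q⁻¹)) := by rw [ha]
          _ = g₀ * g * ((a : G) * q⁻¹) * (q * x * q⁻¹) := by group
          _ = g₀ * g * ((a : G) * q⁻¹) * x₀ := by rw [← hqe, hk1]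
      let E : (T ⊓ CG[Subgroup.zpowers (x : G)] : Subgroup G) →
          T × CG[Subgroup.zpowers (x₀ : G)] := fun a =>
        (⟨(a : G) * q⁻¹, T.mul_mem a.2.1 (T.inv_mem hq)⟩, ⟨g₀ * g * ((a : G) * q⁻¹), hxx a⟩)
      have hEcard : (Finset.univ.filter (fun qc => Ψ qc = (g, x))).card =
          Nat.card (T ⊓ CG[Subgroup.zpowers (x : G)] : Subgroup G) := by
        rw [Nat.card_eq_fintype_card, ← Finset.card_univ]
        symm
        refine Finset.card_bij (fun a _ => E a) (fun a _ => ?_) (fun a _ b _ hab => ?_)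
          fun qc hqc => ?_
        · refine Finset.mem_filter.2 ⟨Finset.mem_univ _, Prod.ext ?_ (Subtype.ext ?_)⟩
          · show h * (g₀ * g * ((a : G) * q⁻¹)) * ((a : G) * q⁻¹)⁻¹ = g
            rw [hh]; group
          · show (a : G) * q⁻¹ * x₀ * ((a : G) * q⁻¹)⁻¹ = x
            calc (a : G) * q⁻¹ * x₀ * ((a : G) * q⁻¹)⁻¹
                = (a : G) * (q⁻¹ * x₀ * q) * (a : G)⁻¹ := by group
              _ = x := by rw [hq1, ← mem_zpowers_centralizer.1 a.2.2, mul_inv_cancel_right]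
        · exact Subtype.ext (mul_right_cancel (congrArg (fun w => (w.1 : G)) hab))
        · obtain ⟨q', c'⟩ := qc
          simp only [Finset.mem_filter, Finset.mem_univ, true_and, Ψ, Prod.mk.injEq] at hqc
          obtain ⟨e1, e2⟩ := hqc
          have e2' : (q' : G) * x₀ * (q' : G)⁻¹ = x := congrArg Subtype.val e2
          have ha : (q' : G) * q ∈ T ⊓ CG[Subgroup.zpowers (x : G)] := by
            refine ⟨T.mul_mem q'.2 hq, mem_zpowers_centralizer.2 ?_⟩
            calc (x : G) * ((q' : G) * q) = (q' : G) * x₀ * (q' : G)⁻¹ * ((q' : G) * q) := by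
                  rw [e2']
              _ = (q' : G) * q * (q⁻¹ * x₀ * q) := by group
              _ = (q' : G) * q * x := by rw [hq1]
          refine ⟨⟨_, ha⟩, Finset.mem_univ _,
            Prod.ext (Subtype.ext (mul_inv_cancel_right _ q)) (Subtype.ext ?_)⟩
          show g₀ * g * ((q' : G) * q * q⁻¹) = (c' : G)
          rw [← e1, hh]; group
      rw [hEcard, pWeight, ← div_eq_mul_inv, ← card_zpowers_centralizer_conj (x : G) (g₀ * g), hk1]
    rw [← Finset.sum_congr rfl hcard]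
    calc _ = ∑ z ∈ Finset.univ.filter (fun z => φ z = ⟨u, e⟩),
          ∑ _qc ∈ Finset.univ.filter (fun qc => Ψ qc = z),
            (Nat.card CG[Subgroup.zpowers (x₀ : G)] : ℂ)⁻¹ := by
          simp only [Finset.sum_const, nsmul_eq_mul]
      _ = ∑ _qc : T × CG[Subgroup.zpowers (x₀ : G)],
            (Nat.card CG[Subgroup.zpowers (x₀ : G)] : ℂ)⁻¹ :=
          Finset.sum_fiberwise_of_maps_to hΨ _
      _ = (Nat.card T : ℂ) := by
          rw [Finset.sum_const, Finset.card_univ, nsmul_eq_mul, Fintype.card_prod,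
            ← Nat.card_eq_fintype_card, ← Nat.card_eq_fintype_card, Nat.cast_mul,
            mul_inv_cancel_right₀ (Nat.cast_ne_zero.2 Nat.card_pos.ne')]
  rw [Finset.mul_sum, ← Finset.sum_congr rfl fun t ht => hfib t ht,
    Finset.sum_congr rfl fun t _ => Finset.sum_mul ..]
  rw [Finset.sum_congr rfl (g := fun t => ∑ z ∈ Finset.univ.filter (fun z => φ z = t),
    pWeight T (z.2 : G) * F (φ z).1 (φ z).2) fun t _ => Finset.sum_congr rfl fun z hz => by
      rw [(Finset.mem_filter.1 hz).2]]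
  rw [Finset.sum_fiberwise_of_maps_to hφS, Fintype.sum_prod_type, Finset.sum_congr rfl
    (g := fun _ : G => ∑ x : P, pWeight T (x : G) * F (x : G) (ex x))
    fun g _ => Finset.sum_congr rfl fun x _ => by
      simp only [φ]
      rw [hconj _ _ _ (hxp x) (hexBk x)],
    Finset.sum_const, Finset.card_univ, nsmul_eq_mul, Nat.card_eq_fintype_card (α := G)]

open scoped Classical in
/-- A sum over the subsections of a nilpotent block. -/
theorem sum_subsections (hM : Cfsg.IsPModular p M) (hmax : Cfsg.IsMaximalBrauerPair p M B P e₀)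
    (hnil : Cfsg.IsNilpotentBlock p M B) (ex : P → G → ℂ)
    (hex : ∀ x : P, Below p M P e₀ (x : G) (ex x)) (F : G → (G → ℂ) → ℂ)
    (hconj : ∀ u v e, (∃ k, orderOf u = p ^ k) → e ∈ Bk M u →
      F (v * u * v⁻¹) (conjF v e) = F u e)
    (hsupp : ∀ u, (∃ k, orderOf u = p ^ k) → ∀ e ∈ Bk M u, F u e ≠ 0 →
      ∃ g, Below p M P e₀ (g * u * g⁻¹) (conjF g e)) :
    (Nat.card P : ℂ) * ∑ u ∈ Finset.univ.filter (fun u : G => ∃ k, orderOf u = p ^ k),
        ∑ e ∈ Bk M u, F u e =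
      (Nat.card G : ℂ) * ∑ x : P, pWeight P (x : G) * F (x : G) (ex x) :=
  sum_subsections_of_control hM hmax P (fun _ ht _ _ h => h.conj_mem hM ht)
    (fun _ _ _ hu hgu => exists_conj_of_below hM hmax hnil hu hgu) ex hex F hconj hsupp

end Cfsg.Agent.Blocks.Star
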