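import Cfsg.Agent.Blocks.Star.Section
import Cfsg.Agent.BlockChar.PPowerIndex
import Cfsg.Agent.Blocks.CoveringNormal
import Cfsg.Agent.BrauerPairs.FirstMain
import Cfsg.Agent.Char.UniqueDivisible
import Cfsg.Agent.Char.Gen
import Mathlib.GroupTheory.FiniteAbelian.Duality
import Mathlib.RingTheory.RootsOfUnity.AlgebraicallyClosed

/-!
# Stable blocks of normal subgroups of `p`-power index, abelian defect

When the covering block has an abelian defect group, twisting by the linear characters of `G ⧸ N`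
acts freely on it; hence restriction to `N` is irreducible.
-/

namespace Cfsg.Agent.Blocks.Star

open Cfsg.Agent Cfsg.Agent.Blocks
open scoped ComplexConjugate

universe u

variable {G : Type u} [Group G] [Fintype G] {p : ℕ} {M : Ideal Cfsg.AlgInt}

local notation "CG[" Q "]" => Subgroup.centralizer ((Q : Subgroup G) : Set G)
local notation "sbc" => Cfsg.subgroupBlockCoeff

/-- A nontrivial twist moves every character of a block with abelian defect group. -/
theorem hom_eq_one_of_twist_fixed (hM : Cfsg.IsPModular p M) {N : Subgroup G} [N.Normal]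
    (hidx : ∃ k : ℕ, N.index = p ^ k) {B : Set (Cfsg.IrrCharacter G)} (hB : Cfsg.IsPBlock M B)
    {P : Subgroup G} (hP : Cfsg.IsDefectGroup p M B P) (hab : ∀ x ∈ P, ∀ y ∈ P, x * y = y * x)
    (htop : N ⊔ P = ⊤) (l : G ⧸ N →* ℂˣ) {χ : Cfsg.IrrCharacter G} (hχ : χ ∈ B)
    (hfix : ∀ g : G, (l (g : G ⧸ N) : ℂ) * (χ : G → ℂ) g = (χ : G → ℂ) g) : l = 1 := by
  classical
  haveI := Fact.mk hM.1
  have hker : ∀ x ∈ P, l (x : G ⧸ N) = 1 := by
    intro x hx
    by_contra hne
    obtain ⟨e₀, hmax⟩ := BrauerPairs.exists_maximal_on hM hB hP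
    obtain ⟨b, hb⟩ :=
      (BrauerPairs.existsUnique_subpairLE hM hmax.1.1 (Subgroup.zpowers_le.2 hx)).exists
    have hpair := (BrauerPairs.isBrauerPairOf_iff_of_subpairLE hM hb B).1 hmax.1
    have hu : ∃ k, orderOf x = p ^ k := by
      obtain ⟨k, hk⟩ := IsPGroup.iff_orderOf.1 hmax.1.1.1 ⟨x, hx⟩
      exact ⟨k, by rw [show x = ((⟨x, hx⟩ : P) : G) from rfl, Subgroup.orderOf_coe, hk]⟩
    letI := Fintype.ofFinite CG[Subgroup.zpowers x]
    refine sect_one_ne_zero hM hχ hu hpair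
      (blockDefect_le_of_central hM hmax hx (fun z hz => hab x hx z hz) hb) ?_
    refine Finset.sum_eq_zero fun g _ => ?_
    by_cases hg : g ∈ CG[Subgroup.zpowers x]
    · rw [BrauerPairs.sbc_of_mem b hg]
      by_cases hgr : p ∣ orderOf g
      · rw [blockCoeff_eq_zero_of_dvd hM hpair.1.2 (by rwa [← Subgroup.orderOf_coe]), zero_mul]
      · have hgN : (g : G ⧸ N) = 1 :=
          (QuotientGroup.eq_one_iff g).2 (BlockThms.mem_of_regular hM.1 hidx hgr)
        have h := hfix (x * g)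
        rw [QuotientGroup.mk_mul, hgN, mul_one] at h
        have h0 : (χ : G → ℂ) (x * g) = 0 := by
          by_contra h0
          exact hne (Units.ext (mul_right_cancel₀ h0 (h.trans (one_mul _).symm)))
        rw [mul_one, h0, mul_zero]
    · rw [BrauerPairs.sbc_of_notMem b hg, zero_mul]
  refine MonoidHom.ext fun q => ?_
  induction q using QuotientGroup.induction_on with
  | H g =>
    have hle : N ⊔ P ≤ (l.comp (QuotientGroup.mk' N)).ker := sup_le
      (fun n hn => by
        rw [MonoidHom.mem_ker, MonoidHom.comp_apply, QuotientGroup.mk'_apply,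
          (QuotientGroup.eq_one_iff n).2 hn, map_one])
      fun x hx => MonoidHom.mem_ker.2 (hker x hx)
    exact MonoidHom.mem_ker.1 (hle (htop ▸ Subgroup.mem_top g))

open scoped Classical in
/-- Blocks with abelian defect group over a stable block of a subgroup of `p`-power index. -/
theorem pPower_index_abelian (hM : Cfsg.IsPModular p M) {N : Subgroup G} [N.Normal] [Fintype N]
    (hidx : ∃ k : ℕ, N.index = p ^ k) {b : Set (Cfsg.IrrCharacter N)} (hb : Cfsg.IsPBlock M b)
    (hst : ∀ g : G, Cfsg.StabilizesBlock N b g) {B : Set (Cfsg.IrrCharacter G)}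
    (hB : Cfsg.IsPBlock M B)
    (hcov : ∃ χ ∈ B, ∃ θ ∈ b, Cfsg.classInner (fun n : N => (χ : G → ℂ) n) (θ : N → ℂ) ≠ 0)
    {P : Subgroup G} (hP : Cfsg.IsDefectGroup p M B P) (hab : ∀ x ∈ P, ∀ y ∈ P, x * y = y * x) :
    N ⊔ P = ⊤ ∧ Cfsg.IsDefectGroup p M b ((P ⊓ N).subgroupOf N) ∧
      (∀ χ ∈ B, ∃ θ ∈ b, ∀ n : N, (χ : G → ℂ) n = (θ : N → ℂ) n) ∧
      (∀ θ ∈ b, Nat.card {χ : Cfsg.IrrCharacter G //
        χ ∈ B ∧ ∀ n : N, (χ : G → ℂ) n = (θ : N → ℂ) n} = N.index) ∧
      Nat.card B = N.index * Nat.card b ∧ Cfsg.blockRank p B = Cfsg.blockRank p b := by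
  haveI := Fact.mk hM.1
  have hinv := BlockChar.mem_conjFun_of_stabilizes hst
  obtain ⟨B₀, -, huniq⟩ := BlockThms.existsUnique_covering hM hidx hb
  obtain ⟨h1, h2, -⟩ := DefectThms.fong hM hb hinv hB hcov
    (fun B'' hB'' hcov'' => by rw [huniq B'' ⟨hB'', hcov''⟩, huniq B ⟨hB, hcov⟩]) hP
  have htop : N ⊔ P = ⊤ := by
    rw [sup_comm, ← Subgroup.index_eq_one]
    obtain ⟨k, hk⟩ := hidx
    obtain ⟨j, -, hj⟩ := (Nat.dvd_prime_pow hM.1).1
      (hk ▸ Subgroup.index_dvd_of_le (le_sup_right : N ≤ P ⊔ N))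
    rcases Nat.eq_zero_or_pos j with h | h
    · rw [hj, h, pow_zero]
    · exact absurd (hj ▸ dvd_pow_self p h.ne') h1
  -- the quotient is commutative
  have hrep : ∀ q : G ⧸ N, ∃ x ∈ P, (x : G ⧸ N) = q := by
    intro q
    induction q using QuotientGroup.induction_on with
    | H g =>
      obtain ⟨n, hn, x, hx, rfl⟩ := Subgroup.mem_sup_of_normal_left.1 (htop ▸ Subgroup.mem_top g)
      exact ⟨x, hx, by rw [QuotientGroup.mk_mul, (QuotientGroup.eq_one_iff n).2 hn, one_mul]⟩
  letI : CommGroup (G ⧸ N) :=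
    { (inferInstance : Group (G ⧸ N)) with
      mul_comm := fun a b => by
        obtain ⟨x, hx, rfl⟩ := hrep a
        obtain ⟨y, hy, rfl⟩ := hrep b
        rw [← QuotientGroup.mk_mul, ← QuotientGroup.mk_mul, hab x hx y hy] }
  haveI : NeZero (Monoid.exponent (G ⧸ N)) := ⟨Monoid.exponent_ne_zero_of_finite⟩
  letI := Fintype.ofFinite (G ⧸ N →* ℂˣ)
  have hlsum : ∀ g : G, ∑ l : G ⧸ N →* ℂˣ, (l (g : G ⧸ N) : ℂ) =
      if g ∈ N then (N.index : ℂ) else 0 := by
    intro g
    split_ifs with hg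
    · rw [(QuotientGroup.eq_one_iff g).2 hg]
      simp only [map_one, Units.val_one, Finset.sum_const, Finset.card_univ, nsmul_eq_mul, mul_one]
      rw [← Nat.card_eq_fintype_card, CommGroup.card_monoidHom_of_hasEnoughRootsOfUnity,
        Subgroup.index_eq_card]
    · obtain ⟨μ, hμ⟩ := CommGroup.exists_apply_ne_one_of_hasEnoughRootsOfUnity (G ⧸ N) ℂ
        (fun h => hg ((QuotientGroup.eq_one_iff g).1 h))
      have h : ∑ l : G ⧸ N →* ℂˣ, (l (g : G ⧸ N) : ℂ) =
          (μ (g : G ⧸ N) : ℂ) * ∑ l : G ⧸ N →* ℂˣ, (l (g : G ⧸ N) : ℂ) := by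
        rw [Finset.mul_sum]
        refine (Fintype.sum_equiv (Equiv.mulLeft μ) _ _ fun l => ?_).symm
        simp
      by_contra h0
      exact hμ (Units.ext (mul_right_cancel₀ h0 (h.symm.trans (one_mul _).symm)))
  have hGN : (Nat.card G : ℂ) = (Nat.card N : ℂ) * (N.index : ℂ) := by
    rw [← Nat.cast_mul, Subgroup.card_mul_index]
  have hres : ∀ χ ∈ B, ∃ θ ∈ b, ∀ n : N, (χ : G → ℂ) n = (θ : N → ℂ) n := by
    intro χ hχ
    have hnorm : Cfsg.classInner (fun n : N => (χ : G → ℂ) n) (fun n : N => (χ : G → ℂ) n) = 1 := by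
      have hG : ∀ l : G ⧸ N →* ℂˣ,
          ∑ g : G, (l (g : G ⧸ N) : ℂ) * (χ : G → ℂ) g * conj ((χ : G → ℂ) g) =
            if l = 1 then (Nat.card G : ℂ) else 0 := by
        intro l
        let χl : Cfsg.IrrCharacter G :=
          ⟨_, Char.isIrr_mul_hom χ.2 (l.comp (QuotientGroup.mk' N))⟩
        have hv : ∀ g, (χl : G → ℂ) g = (l (g : G ⧸ N) : ℂ) * (χ : G → ℂ) g := fun g => by
          simp [χl, mul_comm]
        have h := Char.classInner_irrChar χl χ
        rw [Cfsg.classInner, inv_mul_eq_iff_eq_mul₀ (Nat.cast_ne_zero.2 Nat.card_pos.ne')] at h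
        simp only [hv] at h
        rw [h]
        by_cases hl : l = 1
        · rw [if_pos (Subtype.ext (funext fun g => by rw [hv, hl]; simp)), if_pos hl, mul_one]
        · rw [if_neg fun e => hl (hom_eq_one_of_twist_fixed hM hidx hB hP hab htop l hχ
            fun g => by rw [← hv, e]), if_neg hl, mul_zero]
      have h := Finset.sum_congr rfl fun l (_ : l ∈ (Finset.univ : Finset (G ⧸ N →* ℂˣ))) => hG l
      rw [Finset.sum_comm, Finset.sum_ite_eq' Finset.univ (1 : G ⧸ N →* ℂˣ),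
        if_pos (Finset.mem_univ _)] at h
      simp only [mul_assoc, ← Finset.sum_mul, hlsum, ite_mul, zero_mul] at h
      rw [Finset.sum_ite, Finset.sum_const_zero, add_zero, ← Finset.mul_sum,
        Finset.sum_subtype (p := fun g => g ∈ N) _ (by simp), hGN] at h
      rw [Cfsg.classInner, inv_mul_eq_iff_eq_mul₀ (Nat.cast_ne_zero.2 Nat.card_pos.ne'), mul_one]
      exact mul_left_cancel₀ (Nat.cast_ne_zero.2 Subgroup.index_ne_zero_of_finite :
        (N.index : ℂ) ≠ 0) (h.trans (mul_comm _ _))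
    obtain ⟨d, hd, hd1⟩ := Char.IsIrr.degree χ.2
    have hirr : Cfsg.IsIrrCharacter N (fun n : N => (χ : G → ℂ) n) :=
      (Char.isIrr_iff_norm_one (Char.isCharacter_res N (Char.IsIrr.isCharacter χ.2))).2 hnorm
    refine ⟨⟨_, hirr⟩, constituent_mem hM hb hinv hB hcov hχ ?_, fun n => rfl⟩
    rw [hnorm]
    exact one_ne_zero
  have hfib : ∀ θ ∈ b, Nat.card {χ : Cfsg.IrrCharacter G //
      χ ∈ B ∧ ∀ n : N, (χ : G → ℂ) n = (θ : N → ℂ) n} = N.index := by
    intro θ hθ
    set S := fun χ : Cfsg.IrrCharacter G => χ ∈ B ∧ ∀ n : N, (χ : G → ℂ) n = (θ : N → ℂ) n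
    have hmult : ∀ χ : Cfsg.IrrCharacter G,
        Cfsg.classInner (Cfsg.indFun N (θ : N → ℂ)) (χ : G → ℂ) = if S χ then 1 else 0 := by
      intro χ
      rw [Char.classInner_indFun_left N _ (Char.isClassFunction_of_isIrr χ.2)]
      by_cases hS : S χ
      · rw [if_pos hS, show (fun n : N => (χ : G → ℂ) n) = (θ : N → ℂ) from funext hS.2,
          Char.classInner_irr_self θ.2]
      · rw [if_neg hS]
        by_contra hne
        have hne' : Cfsg.classInner (fun n : N => (χ : G → ℂ) n) (θ : N → ℂ) ≠ 0 := by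
          rwa [← Char.classInner_conj_symm, map_ne_zero]
        have hχB : χ ∈ B := by
          have e1 := huniq _ ⟨isPBlock_blockOf χ, χ, mem_blockOf_self hM χ, θ, hθ, hne'⟩
          rw [huniq B ⟨hB, hcov⟩, ← e1]
          exact mem_blockOf_self hM χ
        obtain ⟨θ', -, hθ'⟩ := hres χ hχB
        have e : θ' = θ := by
          by_contra hee
          refine hne' ?_
          rw [show (fun n : N => (χ : G → ℂ) n) = (θ' : N → ℂ) from funext hθ']
          exact (Char.classInner_irrChar θ' θ).trans (if_neg hee)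
        exact hS ⟨hχB, fun n => by rw [hθ', e]⟩
    have hexp := congrFun (Char.classFun_expansion (Char.isClassFunction_indFun (H := N)
      (θ : N → ℂ))) 1
    rw [Char.indFun_apply_one, Finset.sum_apply] at hexp
    simp only [Pi.smul_apply, smul_eq_mul, hmult, ite_mul, one_mul, zero_mul] at hexp
    rw [Finset.sum_ite, Finset.sum_const_zero, add_zero, Finset.sum_congr rfl
      (g := fun _ => (θ : N → ℂ) 1) (fun χ hχ => ((Finset.mem_filter.1 hχ).2.2 1)),
      Finset.sum_const, nsmul_eq_mul] at hexp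
    rw [Nat.card_eq_fintype_card, Fintype.card_subtype]
    exact_mod_cast (mul_right_cancel₀ (Char.IsIrr.one_ne_zero θ.2) hexp).symm
  refine ⟨htop, h2, hres, hfib, ?_, ?_⟩
  · choose r hrb hr using hres
    let f : B → b := fun χ => ⟨r χ χ.2, hrb χ χ.2⟩
    letI := Fintype.ofFinite b
    rw [← Nat.card_congr (Equiv.sigmaFiberEquiv f), Nat.card_sigma]
    rw [Finset.sum_congr rfl (g := fun _ => N.index) fun θ _ => ?_, Finset.sum_const,
      Finset.card_univ, smul_eq_mul, ← Nat.card_eq_fintype_card, mul_comm]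
    rw [← hfib θ θ.2]
    refine Nat.card_congr ⟨fun χ => ⟨χ.1.1, χ.1.2, fun n => ?_⟩,
      fun χ => ⟨⟨χ.1, χ.2.1⟩, Subtype.ext (Subtype.ext (funext fun n => ?_))⟩,
      fun χ => rfl, fun χ => rfl⟩
    · rw [hr _ χ.1.2 n, show r χ.1.1 χ.1.2 = (θ : Cfsg.IrrCharacter N) from congrArg Subtype.val χ.2]
    · exact ((hr χ.1 χ.2.1 n).symm.trans (χ.2.2 n))
  · let R : (G → ℂ) →ₗ[ℂ] (N → ℂ) := LinearMap.funLeft ℂ ℂ (fun n : N => (n : G))
    have hR : ∀ χ : Cfsg.IrrCharacter G, R (Cfsg.pRegularPart p (χ : G → ℂ)) =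
        Cfsg.pRegularPart p (fun n : N => (χ : G → ℂ) n) := fun χ => funext fun n => by
      show Cfsg.pRegularPart p (χ : G → ℂ) (n : G) = _
      rw [pRegularPart_apply, pRegularPart_apply, Subgroup.orderOf_coe]
    have himg : (R '' ((fun χ : Cfsg.IrrCharacter G => Cfsg.pRegularPart p (χ : G → ℂ)) '' B)) =
        (fun θ : Cfsg.IrrCharacter N => Cfsg.pRegularPart p (θ : N → ℂ)) '' b := by
      ext f
      constructor
      · rintro ⟨_, ⟨χ, hχ, rfl⟩, rfl⟩
        obtain ⟨θ, hθ, he⟩ := hres χ hχ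
        refine ⟨θ, hθ, ?_⟩
        rw [hR, show (fun n : N => (χ : G → ℂ) n) = (θ : N → ℂ) from funext he]
      · rintro ⟨θ, hθ, rfl⟩
        obtain ⟨⟨χ, hχ, he⟩⟩ := (Nat.card_pos_iff.1 (by
          rw [hfib θ hθ]; exact Nat.pos_of_ne_zero Subgroup.index_ne_zero_of_finite)).1
        refine ⟨_, ⟨χ, hχ, rfl⟩, ?_⟩
        rw [hR, show (fun n : N => (χ : G → ℂ) n) = (θ : N → ℂ) from funext he]
    rw [Cfsg.blockRank, Cfsg.blockRank, ← himg, ← Submodule.map_span]
    set V := Submodule.span ℂ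
      ((fun χ : Cfsg.IrrCharacter G => Cfsg.pRegularPart p (χ : G → ℂ)) '' B)
    have hzero : ∀ v ∈ V, ∀ g, g ∉ N → v g = 0 := by
      intro v hv g hg
      induction hv using Submodule.span_induction with
      | mem x hx =>
        obtain ⟨χ, -, rfl⟩ := hx
        show Cfsg.pRegularPart p (χ : G → ℂ) g = 0
        rw [pRegularPart_apply]
        by_cases hr : p ∣ orderOf g
        · simp [hr]
        · exact absurd (BlockThms.mem_of_regular hM.1 hidx hr) hg
      | zero => rfl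
      | add x y _ _ hx hy => rw [Pi.add_apply, hx, hy, add_zero]
      | smul c x _ hx => rw [Pi.smul_apply, hx, smul_zero]
    refine LinearEquiv.finrank_eq (LinearEquiv.ofBijective
      ((R.domRestrict V).codRestrict (V.map R) fun v => Submodule.mem_map_of_mem v.2) ⟨?_, ?_⟩)
    · intro v w h
      have h' := congrArg Subtype.val h
      refine Subtype.ext (funext fun g => ?_)
      by_cases hg : g ∈ N
      · exact congrFun h' ⟨g, hg⟩
      · rw [hzero v v.2 g hg, hzero w w.2 g hg]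
    · rintro ⟨_, v, hv, rfl⟩
      exact ⟨⟨v, hv⟩, rfl⟩

end Cfsg.Agent.Blocks.Star
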