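import Cfsg.Agent.Blocks.Star.RegularLattice
import Cfsg.Agent.Blocks.Star.AbelianRankTwo

/-!
# Major subsections of rank at most two

If the block of a major subsection has `l(b) ≤ 2` then `k(B) ≤ p ^ d`.  In a reduced basis with
Gram matrix `[a, r; r, c]` the forms `x, y, x + y` settle `a ≥ 2`; for `a = 1` the diagonal
contributions split into totally positive algebraic integers.
-/

namespace Cfsg.Agent.Blocks.Star

open Cfsg.Agent Cfsg.Agent.Blocks
open scoped ComplexConjugate Matrix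

universe u

/-- Reduction of a positive definite binary form. -/
theorem exists_reduced_form : ∀ (n : ℕ) (a r c : ℤ), 0 < a → 0 < a * c - r * r →
    (a + c).toNat ≤ n → ∃ s t u v : ℤ, (s * v - t * u) * (s * v - t * u) = 1 ∧
      0 ≤ a * (s * t) + r * (s * v + t * u) + c * (u * v) ∧
      2 * (a * (s * t) + r * (s * v + t * u) + c * (u * v)) ≤
        a * (s * s) + 2 * r * (s * u) + c * (u * u) ∧
      a * (s * s) + 2 * r * (s * u) + c * (u * u) ≤ a * (t * t) + 2 * r * (t * v) + c * (v * v)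
  | 0, a, r, c, ha, hd, hn => by
    have : 0 < c := by nlinarith [mul_self_nonneg r]
    omega
  | n + 1, a, r, c, ha, hd, hn => by
    have hc : 0 < c := by nlinarith [mul_self_nonneg r]
    have trans : ∀ s₀ t₀ u₀ v₀ : ℤ, (s₀ * v₀ - t₀ * u₀) * (s₀ * v₀ - t₀ * u₀) = 1 →
        0 < a * (s₀ * s₀) + 2 * r * (s₀ * u₀) + c * (u₀ * u₀) →
        a * (s₀ * s₀) + 2 * r * (s₀ * u₀) + c * (u₀ * u₀) +
          (a * (t₀ * t₀) + 2 * r * (t₀ * v₀) + c * (v₀ * v₀)) < a + c →
        ∃ s t u v : ℤ, (s * v - t * u) * (s * v - t * u) = 1 ∧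
          0 ≤ a * (s * t) + r * (s * v + t * u) + c * (u * v) ∧
          2 * (a * (s * t) + r * (s * v + t * u) + c * (u * v)) ≤
            a * (s * s) + 2 * r * (s * u) + c * (u * u) ∧
          a * (s * s) + 2 * r * (s * u) + c * (u * u) ≤
            a * (t * t) + 2 * r * (t * v) + c * (v * v) := by
      intro s₀ t₀ u₀ v₀ hdet ha' hlt
      set a' := a * (s₀ * s₀) + 2 * r * (s₀ * u₀) + c * (u₀ * u₀) with ea
      set r' := a * (s₀ * t₀) + r * (s₀ * v₀ + t₀ * u₀) + c * (u₀ * v₀) with er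
      set c' := a * (t₀ * t₀) + 2 * r * (t₀ * v₀) + c * (v₀ * v₀) with ec
      have hd' : a' * c' - r' * r' = a * c - r * r := by
        rw [ea, er, ec]; linear_combination (a * c - r * r) * hdet
      obtain ⟨s, t, u, v, h1, h2, h3, h4⟩ :=
        exists_reduced_form n a' r' c' ha' (hd' ▸ hd) (by omega)
      refine ⟨s₀ * s + t₀ * u, s₀ * t + t₀ * v, u₀ * s + v₀ * u, u₀ * t + v₀ * v, ?_, ?_, ?_, ?_⟩
      · linear_combination ((s₀ * v₀ - t₀ * u₀) * (s₀ * v₀ - t₀ * u₀)) * h1 + hdet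
      · rw [ea, er, ec] at h2; linarith
      · rw [ea, er, ec] at h3; linarith
      · rw [ea, er, ec] at h4; linarith
    rcases lt_or_ge c a with h | h
    · -- exchanging the variables lowers the first coefficient
      by_cases hr : 2 * |r| ≤ c
      · rcases le_total 0 r with h0 | h0
        · rw [abs_of_nonneg h0] at hr
          exact ⟨0, 1, 1, 0, by norm_num, by linarith, by linarith, by linarith⟩
        · rw [abs_of_nonpos h0] at hr
          exact ⟨0, 1, -1, 0, by norm_num, by linarith, by linarith, by linarith⟩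
      · rcases le_total 0 r with h0 | h0
        · rw [abs_of_nonneg h0] at hr
          exact trans 1 0 (-1) 1 (by norm_num) (by nlinarith [mul_self_nonneg (a - r)]) (by linarith)
        · rw [abs_of_nonpos h0] at hr
          exact trans 1 0 1 1 (by norm_num) (by nlinarith [mul_self_nonneg (a + r)]) (by linarith)
    · by_cases hr : 2 * |r| ≤ a
      · rcases le_total 0 r with h0 | h0
        · rw [abs_of_nonneg h0] at hr
          exact ⟨1, 0, 0, 1, by norm_num, by linarith, by linarith, by linarith⟩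
        · rw [abs_of_nonpos h0] at hr
          exact ⟨1, 0, 0, -1, by norm_num, by linarith, by linarith, by linarith⟩
      · rcases le_total 0 r with h0 | h0
        · rw [abs_of_nonneg h0] at hr
          exact trans 1 (-1) 0 1 (by norm_num) (by linarith) (by linarith)
        · rw [abs_of_nonpos h0] at hr
          exact trans 1 1 0 1 (by norm_num) (by linarith) (by linarith)

section change

variable {H : Type u} [Group H] [Fintype H] {p : ℕ} {b : Set (Cfsg.IrrCharacter H)}

/-- Unimodular change of the basis. -/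
theorem IsLattice.change {n : ℕ} {ψ : Fin n → H → ℂ} {A : Cfsg.IrrCharacter H → Fin n → ℤ}
    {N : Matrix (Fin n) (Fin n) ℤ} (hL : IsLattice p b ψ A N)
    (P Q : Matrix (Fin n) (Fin n) ℤ) (hPQ : P * Q = 1) :
    IsLattice p b (fun j c => ∑ i, (P i j : ℂ) * ψ i c) (fun η => Q *ᵥ A η)
      (P.transpose * N * P) := by
  obtain ⟨hA, hli, hreg, hNW⟩ := hL
  have hQP : Q * P = 1 := mul_eq_one_comm.1 hPQ
  have hPA : ∀ (η : Cfsg.IrrCharacter H) i, (A η i : ℂ) = ∑ j, (P i j : ℂ) * ((Q *ᵥ A η) j : ℂ) :=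
    fun η i => by
      have h : (P *ᵥ (Q *ᵥ A η)) i = A η i := by
        rw [Matrix.mulVec_mulVec, hPQ, Matrix.one_mulVec]
      rw [← h]
      simp [Matrix.mulVec, dotProduct]
  refine ⟨fun η hη c hc => ?_, fun a ha => ?_, fun η hη θ hθ => ?_, ?_⟩
  · rw [hA η hη c hc]
    simp only [hPA η, Finset.sum_mul, Finset.mul_sum]
    rw [Finset.sum_comm]
    exact Finset.sum_congr rfl fun j _ => Finset.sum_congr rfl fun i _ => by ring
  · have h := hli (fun i => ∑ j, (P i j : ℂ) * a j) fun c hc => by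
      rw [← ha c hc]
      simp only [Finset.sum_mul, Finset.mul_sum]
      rw [Finset.sum_comm]
      exact Finset.sum_congr rfl fun j _ => Finset.sum_congr rfl fun i _ => by ring
    funext k
    have e : ∑ i, (Q k i : ℂ) * ∑ j, (P i j : ℂ) * a j = a k := by
      simp only [Finset.mul_sum, ← mul_assoc]
      rw [Finset.sum_comm]
      simp only [← Finset.sum_mul]
      rw [Finset.sum_congr rfl (g := fun j => (((Q * P) k j : ℤ) : ℂ) * a j)
        fun j _ => by simp [Matrix.mul_apply], hQP]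
      simp [Matrix.one_apply]
    rw [← e, Pi.zero_apply]
    exact Finset.sum_eq_zero fun i _ => by rw [congrFun h i]; simp
  · have key : ∀ (N : Matrix (Fin n) (Fin n) ℤ) (v w : Fin n → ℤ),
        ∑ i, ∑ j, (v i : ℂ) * (w j : ℂ) * (N i j : ℂ) = ((v ⬝ᵥ (N *ᵥ w) : ℤ) : ℂ) := by
      intro N v w
      simp only [dotProduct, Matrix.mulVec, Finset.mul_sum, Int.cast_sum, Int.cast_mul]
      exact Finset.sum_congr rfl fun i _ => Finset.sum_congr rfl fun j _ => by ring
    have hA' : ∀ η, P *ᵥ (Q *ᵥ A η) = A η := fun η => by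
      rw [Matrix.mulVec_mulVec, hPQ, Matrix.one_mulVec]
    rw [hreg η hη θ hθ, key, key]
    congr 1
    conv_lhs => rw [← hA' η, ← hA' θ]
    rw [← Matrix.mulVec_mulVec, ← Matrix.mulVec_mulVec, Matrix.dotProduct_mulVec _ P.transpose,
      Matrix.vecMul_transpose]
  · have hW : Matrix.of (cartanOf b fun η => Q *ᵥ A η) =
        Q * Matrix.of (cartanOf b A) * Q.transpose := by
      ext i j
      simp only [Matrix.of_apply, Matrix.mul_apply, Matrix.transpose_apply, cartanOf,
        Matrix.mulVec, dotProduct, Finset.sum_mul, Finset.mul_sum]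
      rw [Finset.sum_comm]
      refine Finset.sum_congr rfl fun l _ => ?_
      rw [Finset.sum_comm]
      exact Finset.sum_congr rfl fun k _ => Finset.sum_congr rfl fun η _ => by ring
    rw [hW]
    calc P.transpose * N * P * (Q * Matrix.of (cartanOf b A) * Q.transpose)
        = P.transpose * (N * ((P * Q) * Matrix.of (cartanOf b A))) * Q.transpose := by
          simp only [Matrix.mul_assoc]
      _ = _ := by
          rw [hPQ, Matrix.one_mul, hNW, Matrix.mul_smul, Matrix.mul_one, Matrix.smul_mul,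
            ← Matrix.transpose_mul, hQP, Matrix.transpose_one]

end change

variable {G : Type u} [Group G] [Fintype G] {p : ℕ} {M : Ideal Cfsg.AlgInt}
  {B : Set (Cfsg.IrrCharacter G)} {x : G} {H : Subgroup G} [Fintype H]
  {b : Set (Cfsg.IrrCharacter H)}

open scoped Classical in
/-- A major subsection whose block has rank at most two. -/
theorem card_le_of_major_rank_le_two (hM : Cfsg.IsPModular p M)
    (hH : ∀ a : G, a ∈ H ↔ x * a = a * x) (hx : ∃ k, orderOf x = p ^ k)
    (hind : Cfsg.IsInducedBlock M H b B) (hd : Cfsg.blockDefect p b = Cfsg.blockDefect p B)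
    (hl : Cfsg.blockRank p b ≤ 2) : Nat.card B ≤ p ^ Cfsg.blockDefect p B := by
  classical
  have hp := hM.1
  have hb : Cfsg.IsPBlock M b := hind.1
  obtain ⟨n, hn, ψ, A, N, hL, hsym, hminor⟩ := exists_isLattice hM hb
  rw [← hd]
  set P : ℤ := (p : ℤ) ^ Cfsg.blockDefect p b with hP
  have hPpos : 0 < P := pow_pos (Int.natCast_pos.2 hp.pos) _
  have hn2 : n = 0 ∨ n = 1 ∨ n = 2 := by omega
  rcases hn2 with rfl | rfl | rfl
  · obtain ⟨i, -⟩ := hL.exists_not_dvd hM hb
    exact i.elim0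
  · -- rank one
    obtain ⟨i, j, hij⟩ := hL.exists_not_dvd hM hb
    rw [Fin.fin_one_eq_zero i, Fin.fin_one_eq_zero j] at hij
    have hNW := congrFun (congrFun hL.2.2.2 0) 0
    simp only [Matrix.mul_apply, Fin.sum_univ_one, Matrix.of_apply, Matrix.smul_apply,
      Matrix.one_apply_eq, smul_eq_mul, mul_one] at hNW
    have hW0 : 0 ≤ cartanOf b A 0 0 := Finset.sum_nonneg fun η _ => mul_self_nonneg _
    have hN0 : 0 < N 0 0 := pos_of_mul_pos_left (hNW ▸ hPpos) hW0
    have hN1 : N 0 0 = 1 := by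
      obtain ⟨k, -, hk⟩ := (Nat.dvd_prime_pow hp).1
        (show (N 0 0).natAbs ∣ p ^ Cfsg.blockDefect p b from ⟨(cartanOf b A 0 0).natAbs, by
          rw [← Int.natAbs_mul, hNW, Int.natAbs_pow, Int.natAbs_natCast]⟩)
      rcases Nat.eq_zero_or_pos k with rfl | hk0
      · rw [pow_zero] at hk; omega
      · exact absurd (Int.natCast_dvd.2 (hk ▸ dvd_pow_self p hk0.ne')) hij
    have h := card_mul_le_of_forms hM hH hx hind hd ψ A hL.1 hL.2.1
      (fun (_ : Fin 1) (_ : Fin 1) => (1 : ℤ)) (fun _ => 1) 1 fun v hv => by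
        have hv0 : v 0 ≠ 0 := fun h => hv (funext fun i => by rw [Fin.fin_one_eq_zero i]; exact h)
        simp [hv0]
    simp only [Fin.sum_univ_one, one_mul, Nat.cast_one] at h
    rw [hN1, one_mul] at hNW
    exact_mod_cast h.trans_eq (hNW.trans hP)
  -- rank two
  obtain ⟨W00, W11, hW00, hW11⟩ : ∃ W00 W11, cartanOf b A 0 0 = W00 ∧ cartanOf b A 1 1 = W11 :=
    ⟨_, _, rfl, rfl⟩
  have hWsym : cartanOf b A 1 0 = cartanOf b A 0 1 := Finset.sum_congr rfl fun η _ => mul_comm _ _
  have hNsym : N 1 0 = N 0 1 := congrFun (congrFun hsym 0) 1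
  have e := hL.2.2.2
  have e00 := congrFun (congrFun e 0) 0
  have e01 := congrFun (congrFun e 0) 1
  have e10 := congrFun (congrFun e 1) 0
  have e11 := congrFun (congrFun e 1) 1
  simp only [Matrix.mul_apply, Fin.sum_univ_two, Matrix.of_apply, Matrix.smul_apply,
    Matrix.one_apply_eq, Matrix.one_apply_ne (show (0 : Fin 2) ≠ 1 by decide),
    Matrix.one_apply_ne (show (1 : Fin 2) ≠ 0 by decide), smul_eq_mul, mul_one, mul_zero,
    hWsym, hNsym, hW00, hW11] at e00 e01 e10 e11
  set r₀ := cartanOf b A 0 1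
  have hnn : 0 ≤ W00 ∧ 0 ≤ W11 := ⟨hW00 ▸ Finset.sum_nonneg fun η _ => mul_self_nonneg _,
    hW11 ▸ Finset.sum_nonneg fun η _ => mul_self_nonneg _⟩
  have hcs : r₀ * r₀ ≤ W00 * W11 := by
    have h := Finset.sum_mul_sq_le_sq_mul_sq b.toFinite.toFinset (fun η => A η 0) (fun η => A η 1)
    rw [← hW00, ← hW11]
    simpa only [r₀, cartanOf, ← pow_two] using h
  have hdetW : (N 0 0 * N 1 1 - N 0 1 * N 0 1) * (W00 * W11 - r₀ * r₀) = P * P := by
    linear_combination (N 0 1 * r₀ + N 1 1 * W11) * e00 - (N 0 1 * W00 + N 1 1 * r₀) * e01 +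
      P * e11
  have hWpos : 0 < W00 * W11 - r₀ * r₀ := lt_of_le_of_ne (by linarith) fun h0 => by
    rw [← h0, mul_zero] at hdetW
    exact (mul_pos hPpos hPpos).ne hdetW
  have hNdet : 0 < N 0 0 * N 1 1 - N 0 1 * N 0 1 :=
    pos_of_mul_pos_left (hdetW ▸ mul_pos hPpos hPpos) hWpos.le
  have hN00 : 0 < N 0 0 := by
    have h1 : N 0 0 * (W00 * W11 - r₀ * r₀) = P * W11 := by
      linear_combination W11 * e00 - r₀ * e01
    have h2 : 0 < W11 := lt_of_le_of_ne hnn.2 fun h0 => by
      rw [← h0, mul_zero] at hWpos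
      linarith [mul_self_nonneg r₀]
    exact pos_of_mul_pos_left (h1 ▸ mul_pos hPpos h2) hWpos.le
  obtain ⟨s, t, u, v, hdet, hr0, hra, hac⟩ :=
    exists_reduced_form _ (N 0 0) (N 0 1) (N 1 1) hN00 hNdet le_rfl
  set D := s * v - t * u
  let T : Matrix (Fin 2) (Fin 2) ℤ := !![s, t; u, v]
  let Q : Matrix (Fin 2) (Fin 2) ℤ := !![D * v, -(D * t); -(D * u), D * s]
  have hTQ : T * Q = 1 := by
    ext i j
    fin_cases i <;> fin_cases j <;> simp [T, Q, Matrix.mul_apply, D]
    · linear_combination hdet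
    · ring
    · ring
    · linear_combination hdet
  have hL' := hL.change T Q hTQ
  set N' := T.transpose * N * T
  set A' : Cfsg.IrrCharacter H → Fin 2 → ℤ := fun η => Q *ᵥ A η
  set a := N' 0 0 with ha_def
  set r := N' 0 1 with hr_def
  set c := N' 1 1 with hc_def
  have ea : a = N 0 0 * (s * s) + 2 * N 0 1 * (s * u) + N 1 1 * (u * u) := by
    simp [a, N', T, Matrix.mul_apply, Fin.sum_univ_two, hNsym]; ring
  have er : r = N 0 0 * (s * t) + N 0 1 * (s * v + t * u) + N 1 1 * (u * v) := by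
    simp [r, N', T, Matrix.mul_apply, Fin.sum_univ_two, hNsym]; ring
  have er' : N' 1 0 = r := by
    simp [r, N', T, Matrix.mul_apply, Fin.sum_univ_two, hNsym]; ring
  have ec : c = N 0 0 * (t * t) + 2 * N 0 1 * (t * v) + N 1 1 * (v * v) := by
    simp [c, N', T, Matrix.mul_apply, Fin.sum_univ_two, hNsym]; ring
  rw [← ea, ← er] at hra
  rw [← er] at hr0
  rw [← ea, ← ec] at hac
  have hdet' : a * c - r * r = N 0 0 * N 1 1 - N 0 1 * N 0 1 := by
    rw [ea, er, ec]; linear_combination (N 0 0 * N 1 1 - N 0 1 * N 0 1) * hdet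
  have hpdet : (p : ℤ) ∣ a * c - r * r := hdet'.symm ▸ hNsym ▸ hminor 0 1 0 1
  have hΔ : 0 < a * c - r * r := hdet'.symm ▸ hNdet
  have hWsym' : cartanOf b A' 1 0 = cartanOf b A' 0 1 :=
    Finset.sum_congr rfl fun η _ => mul_comm _ _
  have f := hL'.2.2.2
  have f00 := congrFun (congrFun f 0) 0
  have f01 := congrFun (congrFun f 0) 1
  have f10 := congrFun (congrFun f 1) 0
  have f11 := congrFun (congrFun f 1) 1
  simp only [Matrix.mul_apply, Fin.sum_univ_two, Matrix.of_apply, Matrix.smul_apply,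
    Matrix.one_apply_eq, Matrix.one_apply_ne (show (0 : Fin 2) ≠ 1 by decide),
    Matrix.one_apply_ne (show (1 : Fin 2) ≠ 0 by decide), smul_eq_mul, mul_one, mul_zero,
    hWsym', er', ← ha_def, ← hr_def, ← hc_def] at f00 f01 f10 f11
  set U := cartanOf b A' 0 0 with hU
  set V := cartanOf b A' 0 1 with hV
  set W := cartanOf b A' 1 1 with hW
  have hsum := fun i j => sum_secCoord_mul hM hH hx hind
    (fun j c => ∑ i, (T i j : ℂ) * ψ i c) A' hL'.1 hL'.2.1 i j
  rcases le_or_gt 2 a with ha2 | ha1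
  · -- the forms `x`, `y`, `x + y`
    have h := card_mul_le_of_forms hM hH hx hind hd (fun j c => ∑ i, (T i j : ℂ) * ψ i c) A'
      hL'.1 hL'.2.1 ![![1, 0], ![0, 1], ![1, 1]] (fun _ => 1) 2 fun w hw => by
        rw [Finset.sum_const, smul_eq_mul, mul_one, Finset.card_filter]
        simp only [Fin.sum_univ_three, Fin.sum_univ_two]
        simp
        by_cases h0 : w 0 = 0
        · have h1 : w 1 ≠ 0 := fun h1 => hw (funext fun i => by fin_cases i <;> assumption)
          simp [h0, h1]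
        · by_cases h1 : w 1 = 0
          · simp [h0, h1]
          · simp [h0, h1]
    have hkey : a + c - r ≤ a * c - r * r := by
      have e1 : r * (r - 1) ≤ a * (a - 2) := by
        rcases eq_or_lt_of_le hr0 with h0 | h0
        · rw [← h0, zero_mul]; exact mul_nonneg (by omega) (by omega)
        · exact mul_le_mul (by omega) (by omega) (by omega) (by omega)
      have e2 : 0 ≤ (a - 1) * (c - a) := mul_nonneg (by omega) (by omega)
      linarith
    have h3 : (a * c - r * r) * (U + V + W) = P * (a + c - r) := by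
      linear_combination c * f00 - r * f10 + a * f11 - r * f01 - r * f00 + a * f10
    have h4 : U + V + W ≤ P := by
      refine le_of_mul_le_mul_left ?_ hΔ
      rw [h3, mul_comm (a * c - r * r)]
      exact mul_le_mul_of_nonneg_left hkey hPpos.le
    have h2 : (2 : ℤ) * Nat.card B ≤ 2 * (U + V + W) := by
      refine (le_of_eq_of_le (by push_cast; rfl) h).trans_eq ?_
      simp only [Fin.sum_univ_three, Fin.sum_univ_two, hWsym', ← hU, ← hW, ← hV, Nat.cast_one,
        one_mul, Matrix.cons_val_zero, Matrix.cons_val_one, Matrix.cons_val]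
      ring
    have h5 : (2 : ℤ) * Nat.card B ≤ 2 * P := by linarith
    have h6 : (Nat.card B : ℤ) ≤ ((p ^ Cfsg.blockDefect p b : ℕ) : ℤ) := by
      push_cast; rw [← hP]; omega
    exact_mod_cast h6
  -- the diagonal case
  have ha1' : a = 1 := by
    have : 0 < a := by nlinarith [mul_self_nonneg r]
    omega
  have hr1 : r = 0 := by omega
  simp only [ha1', hr1, one_mul, zero_mul, add_zero, zero_add] at f00 f01 f10 f11
  rw [ha1', hr1] at hpdet
  simp only [one_mul, mul_zero, sub_zero] at hpdet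
  set X : Cfsg.IrrCharacter G → Fin 2 → ℂ := fun χ i => secCoord x b A' χ i
  set S := B.toFinite.toFinset
  have hmemS : ∀ {φ}, φ ∈ S ↔ φ ∈ B := fun {φ} => Set.Finite.mem_toFinset _
  have hcon : ∀ χ φ : Cfsg.IrrCharacter G,
      contrib p x b χ φ = X χ 0 * conj (X φ 0) + (c : ℂ) * (X χ 1 * conj (X φ 1)) := by
    intro χ φ
    rw [contrib, Finset.sum_congr rfl fun η hη => Finset.sum_congr rfl fun θ hθ => by
      rw [hL'.2.2.1 η ((Set.Finite.mem_toFinset _).1 hη) θ ((Set.Finite.mem_toFinset _).1 hθ)]]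
    have e0 : ((N' 0 0 : ℤ) : ℂ) = 1 := by rw [← ha_def, ha1']; simp
    have e1 : ((N' 0 1 : ℤ) : ℂ) = 0 := by rw [← hr_def, hr1]; simp
    have e2 : ((N' 1 0 : ℤ) : ℂ) = 0 := by rw [er', hr1]; simp
    simp only [Fin.sum_univ_two, e0, e1, e2, ← hc_def, mul_one, mul_zero, add_zero, zero_add,
      mul_add, Finset.sum_add_distrib]
    have hmul : ∀ i, X χ i * conj (X φ i) =
        ∑ η ∈ b.toFinite.toFinset, ∑ θ ∈ b.toFinite.toFinset,
          shiftCoef x H χ η * conj (shiftCoef x H φ θ) * ((A' η i : ℂ) * (A' θ i : ℂ)) := by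
      intro i
      simp only [X, secCoord, map_sum, Finset.sum_mul_sum]
      exact Finset.sum_congr rfl fun η _ => Finset.sum_congr rfl fun θ _ => by
        rw [map_mul, map_intCast]; ring
    rw [hmul 0, hmul 1, Finset.mul_sum]
    congr 1
    refine Finset.sum_congr rfl fun η _ => ?_
    rw [Finset.mul_sum]
    exact Finset.sum_congr rfl fun θ _ => by ring
  have hXint : ∀ χ i, IsIntegral ℤ (X χ i) := fun χ i => IsIntegral.sum _ fun η _ => by
    rw [shiftCoef_eq hH]
    exact (((shiftScalar_congr hH hM η hx).1.mul (isIntegral_natCast _))).mul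
      (isIntegral_intCast _)
  have hXconj : ∀ (σ : ℂ →+* ℂ) χ i, σ (conj (X χ i)) = conj (σ (X χ i)) := by
    intro σ χ i
    simp only [X, secCoord, map_sum, shiftCoef_eq hH, map_mul, map_natCast, map_intCast]
    refine Finset.sum_congr rfl fun η _ => ?_
    have h1 := shiftScalar_pow hH η (pow_orderOf_eq_one x)
    have h2 : σ (shiftScalar hH η) ^ orderOf x = 1 := by rw [← map_pow, h1, map_one]
    rw [← Complex.inv_eq_conj (Complex.norm_eq_one_of_pow_eq_one h1 (orderOf_pos x).ne'),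
      map_inv₀, Complex.inv_eq_conj (Complex.norm_eq_one_of_pow_eq_one h2 (orderOf_pos x).ne')]
  have hσ : ∀ (σ : ℂ →+* ℂ) χ i,
      σ (X χ i * conj (X χ i)) = ((Complex.normSq (σ (X χ i)) : ℝ) : ℂ) := fun σ χ i => by
    rw [map_mul, hXconj, Complex.mul_conj]
  have hsq_int : ∀ χ i, IsIntegral ℤ (X χ i * conj (X χ i)) := fun χ i =>
    (hXint χ i).mul ((hXint χ i).map (starRingEnd ℂ).toIntAlgHom)
  have hpair := fun χ (hχ : χ ∈ B) φ (hφ : φ ∈ B) => major_pair hM hx hH hind hd hχ hφ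
  have hU1 : U = P := f00
  have hsum0 : ∑ χ ∈ S, X χ 0 * conj (X χ 0) = (P : ℂ) := by
    rw [show (P : ℂ) = (U : ℂ) by rw [hU1]]; exact hsum 0 0
  have hcard : Fintype.card S = Nat.card B := by
    rw [Fintype.card_coe, Nat.card_coe_set_eq, Set.ncard_eq_toFinset_card _ B.toFinite]
  have hPnat : (P : ℂ) = ((p ^ Cfsg.blockDefect p b : ℕ) : ℂ) := by rw [hP]; push_cast; rfl
  by_cases hy : ∃ χ₀ ∈ B, Cfsg.blockHeight p B (χ₀ : G → ℂ) = 0 ∧ X χ₀ 1 = 0
  · obtain ⟨χ₀, hχ₀, h0, hy0⟩ := hy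
    have hx0 : ∀ χ ∈ B, X χ 0 ≠ 0 := by
      intro χ hχ h
      obtain ⟨α, -, heq, hiff⟩ := hpair χ hχ χ₀ hχ₀
      rw [hcon, h, hy0, zero_mul, map_zero, mul_zero, mul_zero, add_zero, eq_comm, mul_eq_zero]
        at heq
      have hα := heq.resolve_left (Nat.cast_ne_zero.2 (pow_ne_zero _ hp.ne_zero))
      exact hiff.1 (hα ▸ memLocalIdeal_zero hM) h0
    rw [← hcard]
    refine card_le_of_totally_positive (t := fun χ : S => X χ 0 * conj (X χ 0))
      (fun χ => hsq_int _ _) (fun σ χ => ⟨_, Complex.normSq_pos.2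
        (map_ne_zero_iff σ σ.injective |>.2 (hx0 _ (hmemS.1 χ.2))), hσ σ χ 0⟩) ?_
    rw [Finset.sum_coe_sort S fun χ => X χ 0 * conj (X χ 0), hsum0, hPnat]
  push Not at hy
  -- two pieces for each character
  choose α hαint hαeq hαiff using fun χ : S => hpair χ (hmemS.1 χ.2) χ (hmemS.1 χ.2)
  let ht : S → ℕ := fun χ => Cfsg.blockHeight p B ((χ : Cfsg.IrrCharacter G) : G → ℂ)
  let pc : S × Fin 2 → ℂ := fun q =>
    if ht q.1 = 0 then
      (if q.2 = 0 then X q.1 0 * conj (X q.1 0) else (c : ℂ) * (X q.1 1 * conj (X q.1 1)))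
    else (if q.2 = 0 then α q.1 else ((p ^ ht q.1 - 1 : ℕ) : ℂ) * α q.1)
  have hc1 : 0 < c := by omega
  have hpos : ∀ (σ : ℂ →+* ℂ) q, ∃ ρ : ℝ, 0 < ρ ∧ σ (pc q) = (ρ : ℂ) := by
    rintro σ ⟨χ, i⟩
    simp only [pc]
    have hχ := hmemS.1 χ.2
    split_ifs with h0 hi hi
    · refine ⟨_, Complex.normSq_pos.2 (map_ne_zero_iff σ σ.injective |>.2 fun h => ?_), hσ σ χ 0⟩
      have hca := hαeq χ
      rw [hcon, h, zero_mul, zero_add] at hca
      refine (hαiff χ).1 ?_ h0
      rw [show Cfsg.blockHeight p B ((χ : Cfsg.IrrCharacter G) : G → ℂ) = 0 from h0, pow_zero,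
        Nat.cast_one, one_mul] at hca
      rw [← hca]
      exact memLocalIdeal_mul_right hM ((memLocalIdeal_intCast_iff hM c).2 hpdet)
        (memLocalRing_of_isIntegral hM (hsq_int _ _))
    · refine ⟨(c : ℝ) * Complex.normSq (σ (X χ 1)), mul_pos (Int.cast_pos.2 hc1)
        (Complex.normSq_pos.2 (map_ne_zero_iff σ σ.injective |>.2 (hy χ hχ h0))), ?_⟩
      rw [map_mul, map_intCast, hσ]; push_cast; rfl
    all_goals
      have hne : ¬ (X χ 0 = 0 ∧ X χ 1 = 0) := fun h => major_contrib_ne_zero hM hx hH hind hd hχ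
        (by rw [hcon, h.1, h.2]; simp)
      have hval : ((p ^ ht χ : ℕ) : ℂ) * σ (α χ) = ((Complex.normSq (σ (X χ 0)) +
          (c : ℝ) * Complex.normSq (σ (X χ 1)) : ℝ) : ℂ) := by
        rw [← map_natCast σ, ← map_mul, ← hαeq χ, hcon, map_add, map_mul σ ((c : ℂ)), hσ, hσ,
          map_intCast]
        push_cast; rfl
      have hρ : 0 < Complex.normSq (σ (X χ 0)) + (c : ℝ) * Complex.normSq (σ (X χ 1)) := by
        rcases not_and_or.1 hne with h | h
        · exact add_pos_of_pos_of_nonneg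
            (Complex.normSq_pos.2 (map_ne_zero_iff σ σ.injective |>.2 h))
            (mul_nonneg (Int.cast_nonneg hc1.le) (Complex.normSq_nonneg _))
        · exact add_pos_of_nonneg_of_pos (Complex.normSq_nonneg _) (mul_pos (Int.cast_pos.2 hc1)
            (Complex.normSq_pos.2 (map_ne_zero_iff σ σ.injective |>.2 h)))
      have hq : (0 : ℝ) < ((p ^ ht χ : ℕ) : ℝ) := Nat.cast_pos.2 (pow_pos hp.pos _)
      have hσα : σ (α χ) = (((Complex.normSq (σ (X χ 0)) +
          (c : ℝ) * Complex.normSq (σ (X χ 1))) / ((p ^ ht χ : ℕ) : ℝ) : ℝ) : ℂ) := by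
        rw [Complex.ofReal_div, ← hval, Complex.ofReal_natCast,
          mul_div_cancel_left₀ _ (Nat.cast_ne_zero.2 (pow_ne_zero _ hp.ne_zero))]
    · exact ⟨_, div_pos hρ hq, hσα⟩
    · refine ⟨((p ^ ht χ - 1 : ℕ) : ℝ) * _, mul_pos (Nat.cast_pos.2 ?_) (div_pos hρ hq), by
        rw [map_mul, map_natCast, hσα, Complex.ofReal_mul, Complex.ofReal_natCast]⟩
      have := Nat.one_lt_pow h0 hp.one_lt
      omega
  have hint : ∀ q, IsIntegral ℤ (pc q) := by
    intro q
    simp only [pc]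
    split_ifs
    · exact hsq_int _ _
    · exact (isIntegral_intCast _).mul (hsq_int _ _)
    · exact hαint _
    · exact (isIntegral_natCast _).mul (hαint _)
  have hrow : ∀ χ : S, ∑ i, pc (χ, i) = X χ 0 * conj (X χ 0) + (c : ℂ) * (X χ 1 * conj (X χ 1)) := by
    intro χ
    rw [Fin.sum_univ_two]
    simp only [pc]
    by_cases h0 : ht χ = 0
    · simp [h0]
    · simp only [h0, if_false, if_true, if_neg (show (1 : Fin 2) ≠ 0 by decide)]
      rw [← hcon χ χ, hαeq χ, Nat.cast_sub (Nat.one_le_pow _ _ hp.pos), sub_mul, Nat.cast_one,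
        one_mul, add_sub_cancel]
  have hcW : (c : ℂ) * ∑ χ ∈ S, X χ 1 * conj (X χ 1) = (P : ℂ) := by
    rw [hsum 1 1, ← Int.cast_mul]; exact congrArg _ f11
  have h := card_le_of_totally_positive hint hpos (R := 2 * p ^ Cfsg.blockDefect p b) (by
    rw [Fintype.sum_prod_type, Finset.sum_congr rfl fun χ _ => hrow χ, Finset.sum_coe_sort S
      fun χ => X χ 0 * conj (X χ 0) + (c : ℂ) * (X χ 1 * conj (X χ 1)), Finset.sum_add_distrib,
      ← Finset.mul_sum, hsum0, hcW, hPnat]
    push_cast; ring)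
  rw [Fintype.card_prod, hcard, Fintype.card_fin] at h
  omega

end Cfsg.Agent.Blocks.Star
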