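import Cfsg.Agent.Blocks.Star.ModRing
import Mathlib.GroupTheory.OrderOfElement
import Mathlib.GroupTheory.Index
import Mathlib.LinearAlgebra.LinearIndependent.Basic

/-!
# Splitting idempotents with vanishing Brauer image

A primitive idempotent of the fixed ring of a `p`-group `R` and a `p`-regular element `y` whose
Brauer image at `R` vanishes is the sum of `p` conjugate orthogonal idempotents of the fixed ring
of a maximal subgroup; so a largest invariant family of orthogonal idempotents consists of local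
primitive ones.
-/

namespace Cfsg.Agent.Blocks.Star

open Cfsg.Agent Cfsg.Agent.Blocks

universe u

attribute [local instance] Ideal.Quotient.field

variable {G : Type u} [Group G] {p : ℕ} [Fact p.Prime] {M : Ideal Cfsg.AlgInt}

omit [Fact p.Prime] in
theorem commute_of_mem_union {R : Subgroup G} {y r : G} (hy : ∀ r ∈ R, y * r = r * y) (hr : r ∈ R) :
    r * y = y * r := (hy r hr).symm

/-- Coordinates modulo a normal subgroup of index `p`. -/
theorem existsUnique_coset [Finite G] {K R : Subgroup G} (hN : R ≤ Subgroup.normalizer (K : Set G))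
    (hKR : K ≤ R) (hidx : K.relIndex R = p) {r₀ : G} (hr₀ : r₀ ∈ R) (hr₀K : r₀ ∉ K) {r : G}
    (hr : r ∈ R) : ∃! t : ZMod p, (r₀ ^ t.val)⁻¹ * r ∈ K := by
  classical
  have hp : p.Prime := Fact.out
  haveI : (K.subgroupOf R).Normal := Subgroup.normal_subgroupOf_of_le_normalizer hN
  set q : R ⧸ K.subgroupOf R := QuotientGroup.mk ⟨r₀, hr₀⟩
  have hcard : Nat.card (R ⧸ K.subgroupOf R) = p := hidx
  have hq : q ≠ 1 := fun h => hr₀K (by
    rw [QuotientGroup.eq_one_iff, Subgroup.mem_subgroupOf] at h; exact h)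
  have hord : orderOf q = p := by
    haveI := Fact.mk (show (Nat.card (R ⧸ K.subgroupOf R)).Prime from hcard ▸ hp)
    exact orderOf_eq_prime (hcard ▸ pow_card_eq_one') hq
  let f : ZMod p → R ⧸ K.subgroupOf R := fun t => q ^ t.val
  have hf : Function.Bijective f := by
    rw [Nat.bijective_iff_injective_and_card]
    refine ⟨fun s t h => ZMod.val_injective p ?_, by rw [Nat.card_zmod, hcard]⟩
    exact pow_injOn_Iio_orderOf (by rw [hord]; exact s.val_lt) (by rw [hord]; exact t.val_lt) h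
  have key : ∀ t : ZMod p, f t = QuotientGroup.mk ⟨r, hr⟩ ↔ (r₀ ^ t.val)⁻¹ * r ∈ K := by
    intro t
    rw [show f t = QuotientGroup.mk ((⟨r₀, hr₀⟩ : R) ^ t.val) from rfl, QuotientGroup.eq,
      Subgroup.mem_subgroupOf]
    simp
  obtain ⟨t, ht⟩ := hf.2 (QuotientGroup.mk ⟨r, hr⟩)
  exact ⟨t, (key t).1 ht, fun s hs => hf.1 (((key s).2 hs).trans ht.symm)⟩

variable [Fintype G] (hM : Cfsg.IsPModular p M) (n : ℕ)

/-- The fixed ring of a subgroup and an element. -/
noncomputable def CS (R : Subgroup G) (y : G) : Subring (GA G hM n) :=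
  cen hM n ((R : Set G) ∪ {y})

omit [Fact p.Prime] [Fintype G] in
theorem mem_CS {R : Subgroup G} {y : G} {x : GA G hM n} :
    x ∈ CS hM n R y ↔ (∀ r ∈ R, ∀ z, x.coeff (r⁻¹ * z * r) = x.coeff z) ∧
      ∀ z, x.coeff (y⁻¹ * z * y) = x.coeff z := by
  rw [CS, mem_cen_iff]
  simp only [Set.mem_union, SetLike.mem_coe, Set.mem_singleton_iff]
  exact ⟨fun h => ⟨fun r hr => h r (Or.inl hr), h y (Or.inr rfl)⟩,
    fun h g hg => hg.elim (fun hr => h.1 g hr) fun he => he ▸ h.2⟩

omit [Fact p.Prime] [Fintype G] in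
theorem mem_CS_cj {R : Subgroup G} {y : G} {x : GA G hM n} :
    x ∈ CS hM n R y ↔ (∀ r ∈ R, cj (gU hM n r) x = x) ∧ cj (gU hM n y) x = x := by
  rw [CS, mem_cen_iff_cj]
  simp only [Set.mem_union, SetLike.mem_coe, Set.mem_singleton_iff]
  exact ⟨fun h => ⟨fun r hr => h r (Or.inl hr), h y (Or.inr rfl)⟩,
    fun h g hg => hg.elim (fun hr => h.1 g hr) fun he => he ▸ h.2⟩

omit [Fact p.Prime] [Fintype G] in
theorem cj_gU_mul (a b : G) (x : GA G hM n) :
    cj (gU hM n (a * b)) x = cj (gU hM n a) (cj (gU hM n b) x) := by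
  simp [cj, mul_assoc]

omit [Fact p.Prime] [Fintype G] in
theorem cj_mem_cen {y a : G} (hay : a * y = y * a) {x : GA G hM n}
    (hx : x ∈ cen hM n ({y} : Set G)) : cj (gU hM n a) x ∈ cen hM n ({y} : Set G) := by
  rw [mem_cen_iff_cj] at hx ⊢
  intro g hg
  rw [Set.mem_singleton_iff] at hg
  subst hg
  rw [← cj_gU_mul, ← hay, cj_gU_mul, hx g rfl]

omit [Fact p.Prime] [Fintype G] in
theorem cj_single_mul (a : G) (c : RN hM n) (x : GA G hM n) :
    cj (gU hM n a) (MonoidAlgebra.single 1 c * x) =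
      MonoidAlgebra.single 1 c * cj (gU hM n a) x := by
  refine MonoidAlgebra.ext (Finsupp.ext fun z => ?_)
  show (cj (gU hM n a) (MonoidAlgebra.single 1 c * x)).coeff z =
    (MonoidAlgebra.single 1 c * cj (gU hM n a) x).coeff z
  rw [coeff_cj, MonoidAlgebra.coeff_single_mul_apply, MonoidAlgebra.coeff_single_mul_apply,
    coeff_cj]
  simp

/-- A primitive idempotent with vanishing Brauer image splits. -/
theorem exists_orth_family {R : Subgroup G} (hR : IsPGroup p R) {y : G} (hy : ¬ p ∣ orderOf y)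
    (hyR : ∀ r ∈ R, y * r = r * y) {x : GA G hM n} (hx : Prim (CS hM n R y) x)
    (h0 : br hM n R x = 0) :
    ∃ P : Finset (GA G hM n), 2 ≤ P.card ∧
      (∀ q ∈ P, q ∈ cen hM n ({y} : Set G) ∧ IsIdempotentElem q ∧ q ≠ 0) ∧
      (∀ q ∈ P, ∀ q' ∈ P, q ≠ q' → q * q' = 0) ∧ ∑ q ∈ P, q = x ∧
      ∀ r ∈ R, ∀ q ∈ P, cj (gU hM n r) q ∈ P := by
  classical
  haveI := hM.2.1
  haveI := BlockThms.OrderP.isAlgClosed_residue (M := M)
  haveI := charP_residueField hM
  have hp : p.Prime := Fact.out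
  have hlift := isLift_cen (G := G) hM n
  obtain ⟨hxR, hxy⟩ := (mem_CS hM n).1 hx.1
  have hyR' : ∀ r ∈ R, y⁻¹ * r = r * y⁻¹ := fun r hr =>
    ((show Commute y r from hyR r hr).inv_left).eq
  let stab : G → Subgroup G := fun g => R ⊓ Subgroup.centralizer ({g} : Set G)
  let Max : Subgroup G → Prop := fun K =>
    K ≤ R ∧ R ≤ Subgroup.normalizer (K : Set G) ∧ K.relIndex R = p
  let sel : G → Subgroup G := fun g => Classical.epsilon fun K => Max K ∧ stab g ≤ K
  have hsel : ∀ g, g ∉ Subgroup.centralizer (R : Set G) → Max (sel g) ∧ stab g ≤ sel g := by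
    intro g hg
    refine Classical.epsilon_spec (p := fun K => Max K ∧ stab g ≤ K) ?_
    obtain ⟨K, h1, h2, h3, h4⟩ := exists_index_p (p := p) hR (inf_le_left : stab g ≤ R) (fun h => hg
      (Subgroup.mem_centralizer_iff.2 fun r hr => Subgroup.mem_centralizer_singleton_iff.1
        (show r ∈ R ⊓ Subgroup.centralizer ({g} : Set G) by rw [h]; exact hr).2))
    exact ⟨K, ⟨h2, h3, h4⟩, h1⟩
  have hCR : ∀ a, (a ∈ R ∨ a = y) → ∀ g, (a⁻¹ * g * a ∈ Subgroup.centralizer (R : Set G) ↔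
      g ∈ Subgroup.centralizer (R : Set G)) := by
    intro a ha g
    have hn : a ∈ Subgroup.normalizer (R : Set G) := by
      rcases ha with ha | rfl
      · exact Subgroup.le_normalizer ha
      · refine Subgroup.mem_normalizer_iff.2 fun z => ⟨fun hz => ?_, fun hz => ?_⟩
        · rwa [hyR z hz, mul_inv_cancel_right]
        · have e : z = a * z * a⁻¹ := by
            have := hyR _ hz
            rw [inv_mul_cancel_right] at this
            exact (mul_left_cancel this).symm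
          rwa [← e] at hz
    have h := BrauerPairs.mem_centralizer_iff_of_mem_normalizer hn (a⁻¹ * g * a)
    rwa [show a * (a⁻¹ * g * a) * a⁻¹ = g by group] at h
  have hsel_inv : ∀ a, (a ∈ R ∨ a = y) → ∀ g, sel (a⁻¹ * g * a) = sel g := by
    intro a ha g
    refine congrArg Classical.epsilon (funext fun K => propext ?_)
    refine and_congr_right fun hK => ?_
    have hRa : ∀ r ∈ R, a * r * a⁻¹ ∈ R ∧ a⁻¹ * r * a ∈ R ∧ (r ∈ K → a * r * a⁻¹ ∈ K) ∧
        (r ∈ K → a⁻¹ * r * a ∈ K) := by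
      intro r hr
      rcases ha with ha | rfl
      · have hn := Subgroup.mem_normalizer_iff.1 (hK.2.1 ha)
        refine ⟨R.mul_mem (R.mul_mem ha hr) (R.inv_mem ha), R.mul_mem (R.mul_mem (R.inv_mem ha) hr) ha,
          fun h => (hn r).1 h, fun h => (hn _).2 ?_⟩
        rwa [show a * (a⁻¹ * r * a) * a⁻¹ = r by group]
      · have e1 : a * r * a⁻¹ = r := by rw [hyR r hr, mul_inv_cancel_right]
        have e2 : a⁻¹ * r * a = r := by rw [hyR' r hr, inv_mul_cancel_right]
        rw [e1, e2]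
        exact ⟨hr, hr, id, id⟩
    constructor
    · intro h r hr
      obtain ⟨hr1, hr2⟩ := Subgroup.mem_inf.1 hr
      have h2 : a⁻¹ * r * a ∈ stab (a⁻¹ * g * a) := ⟨(hRa r hr1).2.1,
        Subgroup.mem_centralizer_singleton_iff.2 (by
          rw [show a⁻¹ * r * a * (a⁻¹ * g * a) = a⁻¹ * (r * g) * a by group,
            Subgroup.mem_centralizer_singleton_iff.1 hr2]; group)⟩
      have h3 := (hRa _ (hRa r hr1).2.1).2.2.1 (h h2)
      rwa [show a * (a⁻¹ * r * a) * a⁻¹ = r by group] at h3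
    · intro h r hr
      obtain ⟨hr1, hr2⟩ := Subgroup.mem_inf.1 hr
      have h2 : a * r * a⁻¹ ∈ stab g := ⟨(hRa r hr1).1,
        Subgroup.mem_centralizer_singleton_iff.2 (by
          have e := Subgroup.mem_centralizer_singleton_iff.1 hr2
          rw [show a * r * a⁻¹ * g = a * (r * (a⁻¹ * g * a)) * a⁻¹ by group, e]; group)⟩
      have h3 := (hRa _ (hRa r hr1).1).2.2.2 (h h2)
      rwa [show a⁻¹ * (a * r * a⁻¹) * a = r by group] at h3
  let xK : Subgroup G → GA G hM n := fun K => ofFun fun g =>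
    if g ∉ Subgroup.centralizer (R : Set G) ∧ sel g = K then x.coeff g else 0
  let x0 : GA G hM n := ofFun fun g =>
    if g ∈ Subgroup.centralizer (R : Set G) then x.coeff g else 0
  have hsplit : x0 + ∑ K, xK K = x := by
    refine alg_ext fun g => ?_
    simp only [MonoidAlgebra.coeff_add, Finsupp.add_apply, MonoidAlgebra.coeff_sum,
      Finsupp.finsetSum_apply, x0, xK, coeff_ofFun]
    by_cases hg : g ∈ Subgroup.centralizer (R : Set G)
    · simp [hg]
    · simp [hg]
  have hxinv : ∀ a, (a ∈ R ∨ a = y) → ∀ z, x.coeff (a⁻¹ * z * a) = x.coeff z := fun a ha =>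
    ha.elim (fun h => hxR a h) fun h => h ▸ hxy
  have hx0 : x0 ∈ CS hM n R y := by
    rw [mem_CS]
    refine ⟨fun r hr z => ?_, fun z => ?_⟩
    · simp only [x0, coeff_ofFun, hCR r (Or.inl hr), hxinv r (Or.inl hr)]
    · simp only [x0, coeff_ofFun, hCR y (Or.inr rfl), hxinv y (Or.inr rfl)]
  have hxKmem : ∀ K, xK K ∈ CS hM n R y := by
    intro K
    rw [mem_CS]
    refine ⟨fun r hr z => ?_, fun z => ?_⟩
    · simp only [xK, coeff_ofFun, hCR r (Or.inl hr), hxinv r (Or.inl hr), hsel_inv r (Or.inl hr)]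
    · simp only [xK, coeff_ofFun, hCR y (Or.inr rfl), hxinv y (Or.inr rfl), hsel_inv y (Or.inr rfl)]
  have hred0 : red hM n x0 = 0 := by
    refine alg_ext fun g => ?_
    rw [coeff_red]
    simp only [x0, coeff_ofFun]
    split_ifs with hg
    · rw [← coeff_red, ← coeff_trunB_of_mem (red hM n x) hg]
      exact DFunLike.congr_fun (congrArg MonoidAlgebra.coeff h0) g
    · simp
  have hcor : ∀ {a}, a ∈ CS hM n R y → InCorner (CS hM n R y) x x (x * a * x) := fun {a} ha =>
    ⟨Subring.mul_mem _ (Subring.mul_mem _ hx.1 ha) hx.1, by rw [← mul_assoc, ← mul_assoc, hx.2.1.eq],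
      by rw [mul_assoc, hx.2.1.eq]⟩
  obtain ⟨K, hK⟩ : ∃ K, ¬ IsNilpotent (x * xK K * x) := by
    by_contra! hall
    refine hx.ne_nilpotent ?_
    have e : x = x * x0 * x + ∑ K, x * xK K * x := by
      conv_lhs => rw [← hx.2.1.eq, ← hx.2.1.eq]
      rw [← Finset.sum_mul, ← Finset.mul_sum, ← add_mul, ← mul_add, hsplit]
      simp only [hx.2.1.eq]
    rw [e]
    refine hx.add_nilpotent (hlift _) (hcor hx0) (InCorner.sum _ fun K _ => hcor (hxKmem K)) ?_
      (hx.sum_nilpotent (hlift _) _ (fun K _ => hcor (hxKmem K)) fun K _ => hall K)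
    exact isNilpotent_of_red hM n (by rw [map_mul, map_mul, hred0, mul_zero, zero_mul])
  obtain ⟨hKR, hKN, hKi⟩ : Max K := by
    by_contra hne
    refine hK ?_
    have : xK K = 0 := alg_ext fun g => by
      simp only [xK, coeff_ofFun]
      rw [if_neg fun h => hne (by have := (hsel g h.1).1; rwa [h.2] at this)]
      simp
    rw [this, mul_zero, zero_mul]
    exact IsNilpotent.zero
  obtain ⟨r₀, hr₀, hr₀K⟩ : ∃ r₀ ∈ R, r₀ ∉ K := by
    by_contra! h
    rw [Subgroup.relIndex_eq_one.2 h] at hKi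
    exact hp.one_lt.ne hKi
  have hcos := fun {r : G} (hr : r ∈ R) => existsUnique_coset (p := p) hKN hKR hKi hr₀ hr₀K hr
  have hpow : ∀ t : ℕ, r₀ ^ t ∈ R := fun t => R.pow_mem hr₀ t
  have hwrap : ∀ s t : ZMod p, (r₀ ^ (s + t).val)⁻¹ * (r₀ ^ s.val * r₀ ^ t.val) ∈ K := by
    intro s t
    rw [← pow_add, ZMod.val_add]
    conv in r₀ ^ (s.val + t.val) => rw [← Nat.mod_add_div (s.val + t.val) p, pow_add]
    rw [inv_mul_cancel_left, pow_mul]
    refine K.pow_mem ?_ _
    haveI : (K.subgroupOf R).Normal := Subgroup.normal_subgroupOf_of_le_normalizer hKN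
    have := Subgroup.pow_index_mem (K.subgroupOf R) ⟨r₀, hr₀⟩
    rw [show (K.subgroupOf R).index = p from hKi, Subgroup.mem_subgroupOf] at this
    exact this
  let g : ZMod p → (GA G hM n)ˣ := fun t => gU hM n (r₀ ^ t.val)
  have hact : IsAction (CS hM n K y) g := by
    refine ⟨fun t a ha => ?_, fun s t a ha => ?_⟩
    · rw [mem_CS_cj] at ha ⊢
      refine ⟨fun k hk => ?_, ?_⟩
      · rw [← cj_gU_mul, show k * r₀ ^ t.val = r₀ ^ t.val * ((r₀ ^ t.val)⁻¹ * k * r₀ ^ t.val) by group,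
          cj_gU_mul, ha.1]
        refine (Subgroup.mem_normalizer_iff.1 (hKN (hpow t.val)) _).2 ?_
        rwa [show r₀ ^ t.val * ((r₀ ^ t.val)⁻¹ * k * r₀ ^ t.val) * (r₀ ^ t.val)⁻¹ = k by group]
      · rw [← cj_gU_mul, hyR _ (hpow t.val), cj_gU_mul, ha.2]
    · show cj (gU hM n _) a = cj (gU hM n _) (cj (gU hM n _) a)
      rw [← cj_gU_mul, show r₀ ^ s.val * r₀ ^ t.val =
        r₀ ^ (s + t).val * ((r₀ ^ (s + t).val)⁻¹ * (r₀ ^ s.val * r₀ ^ t.val)) by group]
      conv_rhs => rw [cj_gU_mul, ((mem_CS_cj hM n).1 ha).1 _ (hwrap s t)]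
  have hfix : ∀ a, a ∈ CS hM n R y ↔ a ∈ CS hM n K y ∧ ∀ t, cj (g t) a = a := by
    intro a
    rw [mem_CS_cj, mem_CS_cj]
    constructor
    · exact fun h => ⟨⟨fun k hk => h.1 k (hKR hk), h.2⟩, fun t => h.1 _ (hpow t.val)⟩
    · rintro ⟨⟨h1, h2⟩, h3⟩
      refine ⟨fun r hr => ?_, h2⟩
      obtain ⟨t, ht, -⟩ := hcos hr
      rw [show r = r₀ ^ t.val * ((r₀ ^ t.val)⁻¹ * r) by group, cj_gU_mul, h1 _ ht]
      exact h3 t
  -- a preimage of `xK` under the trace
  let rep : G → G := fun h => Classical.epsilon fun z => ∃ r ∈ R, z = r * h * r⁻¹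
  have hrep : ∀ h, ∃ r ∈ R, rep h = r * h * r⁻¹ := fun h =>
    Classical.epsilon_spec (p := fun z => ∃ r ∈ R, z = r * h * r⁻¹) ⟨h, 1, R.one_mem, by group⟩
  have hrep_inv : ∀ r ∈ R, ∀ h, rep (r⁻¹ * h * r) = rep h := by
    intro r hr h
    refine congrArg Classical.epsilon (funext fun z => propext ⟨?_, ?_⟩)
    · rintro ⟨s, hs, rfl⟩; exact ⟨s * r⁻¹, R.mul_mem hs (R.inv_mem hr), by group⟩
    · rintro ⟨s, hs, rfl⟩; exact ⟨s * r, R.mul_mem hs hr, by group⟩
  let a₀ : GA G hM n := ofFun fun h =>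
    if (h ∉ Subgroup.centralizer (R : Set G) ∧ sel h = K) ∧ ∃ k ∈ K, h = k * rep h * k⁻¹
    then x.coeff h else 0
  have htr0 : ∑ t, cj (g t) a₀ = xK K := by
    refine alg_ext fun h => ?_
    simp only [MonoidAlgebra.coeff_sum, Finsupp.finsetSum_apply, g, coeff_cj, a₀, xK, coeff_ofFun,
      hCR _ (Or.inl (hpow _)), hsel_inv _ (Or.inl (hpow _)), hxinv _ (Or.inl (hpow _)),
      hrep_inv _ (hpow _)]
    by_cases hh : h ∉ Subgroup.centralizer (R : Set G) ∧ sel h = K
    swap
    · rw [if_neg hh]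
      exact Finset.sum_eq_zero fun t _ => if_neg fun hc => hh hc.1
    rw [if_pos hh]
    obtain ⟨r, hr, hrh⟩ := hrep h
    obtain ⟨t, ht, htu⟩ := hcos (R.inv_mem hr)
    dsimp only at ht htu
    have hstab : stab h ≤ K := hh.2 ▸ (hsel h hh.1).2
    rw [Finset.sum_eq_single t]
    · rw [if_pos]
      refine ⟨hh, (r₀ ^ t.val)⁻¹ * r⁻¹, ht, ?_⟩
      rw [hrh]; group
    · intro s _ hst
      rw [if_neg]
      rintro ⟨-, k, hk, e⟩
      refine hst (htu s ?_)
      set u := r₀ ^ s.val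
      have hkr : u * k * r ∈ stab h := by
        refine ⟨R.mul_mem (R.mul_mem (hpow _) (hKR hk)) hr,
          Subgroup.mem_centralizer_singleton_iff.2 ?_⟩
        rw [hrh] at e
        have e' : h = u * k * r * h * (u * k * r)⁻¹ :=
          calc h = u * (u⁻¹ * h * u) * u⁻¹ := by group
            _ = u * (k * (r * h * r⁻¹) * k⁻¹) * u⁻¹ := by rw [e]
            _ = _ := by group
        calc u * k * r * h = u * k * r * h * (u * k * r)⁻¹ * (u * k * r) := by group
          _ = h * (u * k * r) := by rw [← e']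
      have hK' : u⁻¹ * (u * k * r) * u ∈ K :=
        (Subgroup.mem_normalizer_iff.1 (hKN (hpow s.val)) _).2 (by
          rw [show u * (u⁻¹ * (u * k * r) * u) * u⁻¹ = u * k * r by group]; exact hstab hkr)
      rw [show u⁻¹ * r⁻¹ = (u⁻¹ * (u * k * r) * u)⁻¹ * k by group]
      exact K.mul_mem (K.inv_mem hK') hk
    · exact fun ht' => absurd (Finset.mem_univ t) ht'
  set m := orderOf y with hm
  have hmu : IsUnit ((m : ℕ) : RN hM n) := by
    rw [← toR_natCast hM n m]
    exact IsUnit.of_mul_eq_one (toR hM n ((m : ℂ)⁻¹)) (by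
      rw [← toR_mul hM n (memLocalRing_natCast hM m) (memLocalRing_natCast_inv hM hy),
        mul_inv_cancel₀ (Nat.cast_ne_zero.2 (orderOf_pos y).ne'), toR_one])
  obtain ⟨im, him⟩ := hmu.exists_left_inv
  let av : GA G hM n → GA G hM n := fun b =>
    MonoidAlgebra.single 1 im * ∑ i ∈ Finset.range m, cj (gU hM n (y ^ i)) b
  have havfix : ∀ b, cj (gU hM n y) b = b → av b = b := by
    intro b hb
    have : ∀ i : ℕ, cj (gU hM n (y ^ i)) b = b := by
      intro i
      induction i with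
      | zero => rw [pow_zero, map_one]; simp [cj]
      | succ i ih => rw [pow_succ y i, cj_gU_mul, hb, ih]
    simp only [av, this, Finset.sum_const, Finset.card_range, nsmul_eq_mul]
    rw [← mul_assoc]
    have e : MonoidAlgebra.single (1 : G) im * ((m : ℕ) : GA G hM n) = 1 := by
      rw [MonoidAlgebra.natCast_def, MonoidAlgebra.single_mul_single, one_mul, him,
        ← MonoidAlgebra.one_def]
    rw [e, one_mul]
  have havy : ∀ b, cj (gU hM n y) (av b) = av b := by
    intro b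
    simp only [av, cj_single_mul, cj_sum, ← cj_gU_mul, ← pow_succ']
    congr 1
    obtain ⟨j, hj⟩ : ∃ j, m = j + 1 := ⟨m - 1, (Nat.sub_add_cancel (orderOf_pos y)).symm⟩
    rw [hj, Finset.sum_range_succ' (fun i => cj (gU hM n (y ^ i)) b), Finset.sum_range_succ, ← hj,
      hm, pow_orderOf_eq_one, pow_zero]
  let a : GA G hM n := x * av a₀ * x
  have havK : av a₀ ∈ CS hM n K y := by
    rw [mem_CS_cj]
    refine ⟨fun k hk => ?_, havy a₀⟩
    have ha₀ : cj (gU hM n k) a₀ = a₀ := alg_ext fun h => by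
      simp only [coeff_cj, a₀, coeff_ofFun, hCR _ (Or.inl (hKR hk)), hsel_inv _ (Or.inl (hKR hk)),
        hxinv _ (Or.inl (hKR hk)), hrep_inv _ (hKR hk)]
      refine if_congr (and_congr_right fun _ => ⟨?_, ?_⟩) rfl rfl
      · rintro ⟨l, hl, e⟩
        refine ⟨k * l, K.mul_mem hk hl, ?_⟩
        rw [show h = k * (k⁻¹ * h * k) * k⁻¹ by group, e]
        rw [show rep (k * (l * rep h * l⁻¹) * k⁻¹) = rep h by
          rw [← e, show k * (k⁻¹ * h * k) * k⁻¹ = h by group]]
        group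
      · rintro ⟨l, hl, e⟩
        refine ⟨k⁻¹ * l, K.mul_mem (K.inv_mem hk) hl, ?_⟩
        conv_lhs => rw [e]
        group
    simp only [av, cj_single_mul, cj_sum, ← cj_gU_mul]
    congr 1
    refine Finset.sum_congr rfl fun i _ => ?_
    rw [((show Commute k y from (hyR k (hKR hk)).symm).pow_right i).eq, cj_gU_mul, ha₀]
  have hxK : x ∈ CS hM n K y := ((hfix x).1 hx.1).1
  have hxfix : ∀ t, cj (g t) x = x := ((hfix x).1 hx.1).2
  have hacor : InCorner (CS hM n K y) x x a := ⟨Subring.mul_mem _ (Subring.mul_mem _ hxK havK) hxK,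
    by simp only [a]; rw [← mul_assoc, ← mul_assoc, hx.2.1.eq],
    by simp only [a]; rw [mul_assoc, hx.2.1.eq]⟩
  have htr : ∑ t, cj (g t) a = x * xK K * x := by
    simp only [a, cj_mul, hxfix, ← Finset.sum_mul, ← Finset.mul_sum]
    congr 2
    have h1 : ∀ t, cj (g t) (av a₀) = av (cj (g t) a₀) := fun t => by
      simp only [g, av, cj_single_mul, cj_sum, ← cj_gU_mul]
      congr 1
      refine Finset.sum_congr rfl fun i _ => ?_
      rw [((show Commute (r₀ ^ t.val) y from (hyR _ (hpow t.val)).symm).pow_right i).eq]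
    have h2 : ∀ f : ZMod p → GA G hM n, ∑ t, av (f t) = av (∑ t, f t) := fun f => by
      simp only [av, cj_sum]
      rw [← Finset.mul_sum, Finset.sum_comm]
    simp only [h1, h2, htr0]
    exact havfix _ ((mem_CS_cj hM n).1 (hxKmem K)).2
  obtain ⟨W, hW, -, hW'⟩ := (hx.unit_or_nilpotent (hlift _) (hcor (hxKmem K))).resolve_left hK
  obtain ⟨w, hw, hwid, hw0, horth, hwsum⟩ := exists_orth_trace (k := Cfsg.AlgInt ⧸ M) (hlift _)
    (hlift _) hact hfix hx
    (((show InCorner (CS hM n K y) x x W from ⟨((hfix W).1 hW.1).1, hW.2⟩)).mul hacor)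
    (by simp only [cj_mul, ((hfix W).1 hW.1).2, ← Finset.mul_sum, htr, hW'])
  have hinj : Function.Injective fun t => cj (g t) w := by
    intro s t h
    by_contra hne
    have h1 := horth s t hne
    dsimp only at h
    rw [← h, (isIdempotentElem_cj hwid).eq] at h1
    exact hw0 (cj_injective (g s) (h1.trans (cj_zero _).symm))
  refine ⟨Finset.univ.image fun t => cj (g t) w, ?_, ?_, ?_, ?_, ?_⟩
  · rw [Finset.card_image_of_injective _ hinj, Finset.card_univ, ZMod.card]
    exact hp.two_le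
  · intro q hq
    obtain ⟨t, -, rfl⟩ := Finset.mem_image.1 hq
    refine ⟨cj_mem_cen hM n (hyR _ (hpow t.val)).symm ?_, isIdempotentElem_cj hwid, fun h =>
      hw0 (cj_injective (g t) (h.trans (cj_zero _).symm))⟩
    rw [mem_cen_iff_cj]
    intro z hz
    rw [Set.mem_singleton_iff] at hz
    subst hz
    exact ((mem_CS_cj hM n).1 hw.1).2
  · intro q hq q' hq' hne
    obtain ⟨s, -, rfl⟩ := Finset.mem_image.1 hq
    obtain ⟨t, -, rfl⟩ := Finset.mem_image.1 hq'
    exact horth s t fun h => hne (h ▸ rfl)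
  · rw [Finset.sum_image fun a _ b _ h => hinj h]
    exact hwsum
  · intro r hr q hq
    obtain ⟨t, -, rfl⟩ := Finset.mem_image.1 hq
    obtain ⟨s, hs, -⟩ := hcos (R.mul_mem hr (hpow t.val))
    refine Finset.mem_image.2 ⟨s, Finset.mem_univ s, ?_⟩
    simp only [g]
    rw [← cj_gU_mul, show r * r₀ ^ t.val = r₀ ^ s.val * ((r₀ ^ s.val)⁻¹ * (r * r₀ ^ t.val)) by group,
      cj_gU_mul hM n (r₀ ^ s.val) _ w, ((mem_CS_cj hM n).1 hw.1).1 _ hs]

/-- Members of a family of orthogonal idempotents have linearly independent reductions. -/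
theorem card_le_finrank (X : Finset (GA G hM n)) (hid : ∀ x ∈ X, IsIdempotentElem x ∧ x ≠ 0)
    (horth : ∀ x ∈ X, ∀ x' ∈ X, x ≠ x' → x * x' = 0) :
    X.card ≤ Module.finrank (Cfsg.AlgInt ⧸ M)
      (haveI := hM.2.1; ModAlg G M) := by
  classical
  haveI := hM.2.1
  have hli : LinearIndependent (Cfsg.AlgInt ⧸ M) (fun x : X => red hM n x.1) := by
    rw [Fintype.linearIndependent_iff]
    intro c hc x
    have h1 := congrArg (red hM n x.1 * ·) hc
    simp only [Finset.mul_sum, mul_smul_comm, mul_zero] at h1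
    rw [Finset.sum_eq_single x] at h1
    · rw [← map_mul, (hid x.1 x.2).1.eq, smul_eq_zero] at h1
      exact h1.resolve_right fun h => (hid x.1 x.2).2
        ((hid x.1 x.2).1.eq_zero_of_isNilpotent (isNilpotent_of_red hM n h))
    · intro b _ hb
      rw [← map_mul, horth x.1 x.2 b.1 b.2 fun h => hb (Subtype.ext h.symm), map_zero, smul_zero]
    · exact fun h => absurd (Finset.mem_univ x) h
  simpa using hli.fintype_card_le_finrank

/-- A `U`-invariant decomposition of `1` into local primitive idempotents. -/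
structure IsPointFamily (U : Subgroup G) (y : G) (X : Finset (GA G hM n)) : Prop where
  mem : ∀ x ∈ X, x ∈ cen hM n ({y} : Set G) ∧ IsIdempotentElem x ∧ x ≠ 0
  orth : ∀ x ∈ X, ∀ x' ∈ X, x ≠ x' → x * x' = 0
  sum : ∑ x ∈ X, x = 1
  stable : ∀ u ∈ U, ∀ x ∈ X, cj (gU hM n u) x ∈ X

/-- The stabilizer of an element in `U`. -/
noncomputable def stabU (U : Subgroup G) (x : GA G hM n) : Subgroup G where
  carrier := {u | u ∈ U ∧ cj (gU hM n u) x = x}
  one_mem' := ⟨U.one_mem, by simp [cj]⟩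
  mul_mem' := fun {a b} ha hb => ⟨U.mul_mem ha.1 hb.1, by rw [cj_gU_mul, hb.2, ha.2]⟩
  inv_mem' := fun {a} ha => ⟨U.inv_mem ha.1, by
    conv_lhs => rw [← ha.2]
    rw [← cj_gU_mul, inv_mul_cancel]
    simp [cj]⟩

/-- A point family refining a given one, with all members primitive and local. -/
theorem exists_points_of {U : Subgroup G} (hU : IsPGroup p U) {y : G} (hy : ¬ p ∣ orderOf y)
    (hyU : ∀ u ∈ U, y * u = u * y) {X₀ : Finset (GA G hM n)}
    (hX₀ : IsPointFamily hM n U y X₀) :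
    ∃ X, IsPointFamily hM n U y X ∧ (∀ x ∈ X, ∃ z ∈ X₀, x * z = x ∧ z * x = x) ∧ ∀ x ∈ X,
      Prim (CS hM n (stabU hM n U x) y) x ∧ br hM n (stabU hM n U x) x ≠ 0 := by
  classical
  haveI := hM.2.1
  have hstep : ∀ X, IsPointFamily hM n U y X → ∀ x ∈ X, ∀ P : Finset (GA G hM n), 2 ≤ P.card →
      (∀ q ∈ P, q ∈ cen hM n ({y} : Set G) ∧ IsIdempotentElem q ∧ q ≠ 0) →
      (∀ q ∈ P, ∀ q' ∈ P, q ≠ q' → q * q' = 0) → ∑ q ∈ P, q = x →
      (∀ r ∈ stabU hM n U x, ∀ q ∈ P, cj (gU hM n r) q ∈ P) →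
      ∃ X', IsPointFamily hM n U y X' ∧ X.card < X'.card ∧
        ∀ q ∈ X', ∃ z ∈ X, q * z = q ∧ z * q = q := by
    intro X hX x hx P hP2 hP hPorth hPsum hPstab
    set O := (Finset.univ.filter (· ∈ U)).image fun u => cj (gU hM n u) x with hO
    have hOX : O ⊆ X := fun z hz => by
      obtain ⟨u, hu, rfl⟩ := Finset.mem_image.1 hz
      exact hX.stable u (Finset.mem_filter.1 hu).2 x hx
    have hmemO : ∀ u ∈ U, cj (gU hM n u) x ∈ O := fun u hu =>
      Finset.mem_image.2 ⟨u, Finset.mem_filter.2 ⟨Finset.mem_univ u, hu⟩, rfl⟩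
    let tz : GA G hM n → G := fun z => Classical.epsilon fun u => u ∈ U ∧ cj (gU hM n u) x = z
    let Pz : GA G hM n → Finset (GA G hM n) := fun z =>
      if z ∈ O then P.image (cj (gU hM n (tz z))) else {z}
    have htz : ∀ z ∈ O, tz z ∈ U ∧ cj (gU hM n (tz z)) x = z := fun z hz => by
      obtain ⟨u, hu, rfl⟩ := Finset.mem_image.1 hz
      exact Classical.epsilon_spec (p := fun v => v ∈ U ∧ cj (gU hM n v) x = cj (gU hM n u) x)
        ⟨u, (Finset.mem_filter.1 hu).2, rfl⟩
    have hPzO : ∀ u ∈ U, ∀ q ∈ P, cj (gU hM n u) q ∈ Pz (cj (gU hM n u) x) := by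
      intro u hu q hq
      simp only [Pz, if_pos (hmemO u hu)]
      obtain ⟨h1, h2⟩ := htz _ (hmemO u hu)
      set v := tz (cj (gU hM n u) x)
      refine Finset.mem_image.2 ⟨cj (gU hM n (v⁻¹ * u)) q,
        hPstab _ ⟨U.mul_mem (U.inv_mem h1) hu, ?_⟩ q hq, ?_⟩
      · rw [cj_gU_mul, ← h2, ← cj_gU_mul, inv_mul_cancel]; simp [cj]
      · rw [← cj_gU_mul, mul_inv_cancel_left]
    have hPz : ∀ z ∈ X, (∀ q ∈ Pz z, q ∈ cen hM n ({y} : Set G) ∧ IsIdempotentElem q ∧ q ≠ 0) ∧
        (∀ q ∈ Pz z, ∀ q' ∈ Pz z, q ≠ q' → q * q' = 0) ∧ ∑ q ∈ Pz z, q = z := by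
      intro z hz
      by_cases hzO : z ∈ O
      · obtain ⟨h1, h2⟩ := htz z hzO
        simp only [Pz, if_pos hzO]
        refine ⟨fun q hq => ?_, fun q hq q' hq' hne => ?_, ?_⟩
        · obtain ⟨q, hq', rfl⟩ := Finset.mem_image.1 hq
          exact ⟨cj_mem_cen hM n (hyU _ h1).symm (hP q hq').1, isIdempotentElem_cj (hP q hq').2.1,
            fun h => (hP q hq').2.2 (cj_injective _ (h.trans (cj_zero _).symm))⟩
        · obtain ⟨a, ha, rfl⟩ := Finset.mem_image.1 hq
          obtain ⟨b, hb, rfl⟩ := Finset.mem_image.1 hq'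
          rw [← cj_mul, hPorth a ha b hb (fun h => hne (h ▸ rfl)), cj_zero]
        · rw [Finset.sum_image fun a _ b _ h => cj_injective _ h, ← cj_sum, hPsum, h2]
      · simp only [Pz, if_neg hzO, Finset.mem_singleton, Finset.sum_singleton, and_true]
        exact ⟨fun q hq => hq ▸ hX.mem z hz, fun q hq q' hq' hne => absurd (hq.trans hq'.symm) hne⟩
    have hle : ∀ z ∈ X, ∀ q ∈ Pz z, q * z = q ∧ z * q = q := by
      intro z hz q hq
      obtain ⟨h1, h2, h3⟩ := hPz z hz
      constructor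
      · conv_lhs => arg 2; rw [← h3]
        rw [Finset.mul_sum, Finset.sum_eq_single q (fun b hb hne => h2 q hq b hb (Ne.symm hne))
          (fun h => absurd hq h), (h1 q hq).2.1.eq]
      · conv_lhs => arg 1; rw [← h3]
        rw [Finset.sum_mul, Finset.sum_eq_single q (fun b hb hne => h2 b hb q hq hne)
          (fun h => absurd hq h), (h1 q hq).2.1.eq]
    have hzero : ∀ z ∈ X, ∀ z' ∈ X, z ≠ z' → ∀ q ∈ Pz z, ∀ q' ∈ Pz z', q * q' = 0 := by
      intro z hz z' hz' hne q hq q' hq'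
      rw [← (hle z hz q hq).1, ← (hle z' hz' q' hq').2, mul_assoc, ← mul_assoc z,
        hX.orth z hz z' hz' hne, zero_mul, mul_zero]
    have hdisj : (X : Set (GA G hM n)).PairwiseDisjoint Pz := by
      intro z hz z' hz' hne
      refine Finset.disjoint_left.2 fun q hq hq' => ((hPz z hz).1 q hq).2.2 ?_
      have := hzero z hz z' hz' hne q hq q hq'
      rwa [((hPz z hz).1 q hq).2.1.eq] at this
    refine ⟨X.biUnion Pz, ⟨fun q hq => ?_, fun q hq q' hq' hne => ?_, ?_, fun u hu q hq => ?_⟩, ?_,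
      fun q hq => ?_⟩
    · obtain ⟨z, hz, hq⟩ := Finset.mem_biUnion.1 hq
      exact (hPz z hz).1 q hq
    · obtain ⟨z, hz, hq⟩ := Finset.mem_biUnion.1 hq
      obtain ⟨z', hz', hq'⟩ := Finset.mem_biUnion.1 hq'
      by_cases h : z = z'
      · subst h; exact (hPz z hz).2.1 q hq q' hq' hne
      · exact hzero z hz z' hz' h q hq q' hq'
    · rw [Finset.sum_biUnion hdisj, Finset.sum_congr rfl fun z hz => (hPz z hz).2.2, hX.sum]
    · obtain ⟨z, hz, hq⟩ := Finset.mem_biUnion.1 hq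
      refine Finset.mem_biUnion.2 ⟨cj (gU hM n u) z, hX.stable u hu z hz, ?_⟩
      by_cases hzO : z ∈ O
      · obtain ⟨h1, h2⟩ := htz z hzO
        simp only [Pz, if_pos hzO] at hq
        obtain ⟨q₀, hq₀, rfl⟩ := Finset.mem_image.1 hq
        have := hPzO _ (U.mul_mem hu h1) q₀ hq₀
        rw [cj_gU_mul hM n u (tz z) x, h2, cj_gU_mul hM n u (tz z) q₀] at this
        exact this
      · have hzO' : cj (gU hM n u) z ∉ O := by
          intro h
          obtain ⟨v, hv, hvz⟩ := Finset.mem_image.1 h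
          refine hzO (Finset.mem_image.2 ⟨u⁻¹ * v, Finset.mem_filter.2 ⟨Finset.mem_univ _,
            U.mul_mem (U.inv_mem hu) (Finset.mem_filter.1 hv).2⟩, ?_⟩)
          rw [cj_gU_mul, hvz, ← cj_gU_mul, inv_mul_cancel]; simp [cj]
        simp only [Pz, if_neg hzO, Finset.mem_singleton] at hq
        simp only [Pz, if_neg hzO', Finset.mem_singleton, hq]
    · rw [Finset.card_biUnion hdisj, Finset.card_eq_sum_ones]
      have hxO : x ∈ O := by simpa [cj] using hmemO 1 U.one_mem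
      refine Finset.sum_lt_sum (fun z hz => ?_) ⟨x, hx, ?_⟩
      · exact Finset.one_le_card.2 (Finset.nonempty_of_sum_ne_zero
          ((hPz z hz).2.2.trans_ne (hX.mem z hz).2.2))
      · simp only [Pz, if_pos hxO]
        rw [Finset.card_image_of_injective _ (cj_injective _)]
        exact hP2
    · obtain ⟨z, hz, hq⟩ := Finset.mem_biUnion.1 hq
      exact ⟨z, hz, hle z hz q hq⟩
  have hgrow : ∀ X, IsPointFamily hM n U y X → ∀ x ∈ X,
      ¬ (Prim (CS hM n (stabU hM n U x) y) x ∧ br hM n (stabU hM n U x) x ≠ 0) →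
      ∃ X', IsPointFamily hM n U y X' ∧ X.card < X'.card ∧
        ∀ q ∈ X', ∃ z ∈ X, q * z = q ∧ z * q = q := by
    intro X hX x hx hbad
    by_cases hprim : Prim (CS hM n (stabU hM n U x) y) x
    · obtain ⟨P, h1, h2, h3, h4, h5⟩ := exists_orth_family hM n
        (R := stabU hM n U x) (hU.to_le fun u hu => hu.1) hy (fun r hr => hyU r hr.1) hprim
        (by by_contra h; exact hbad ⟨hprim, h⟩)
      exact hstep X hX x hx P h1 h2 h3 h4 h5
    · have hxC : x ∈ CS hM n (stabU hM n U x) y := (mem_CS_cj hM n).2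
        ⟨fun r hr => hr.2, (mem_cen_iff_cj hM n).1 (hX.mem x hx).1 y rfl⟩
      simp only [Prim, hxC, (hX.mem x hx).2.1, (hX.mem x hx).2.2, ne_eq, not_false_iff, true_and,
        not_forall, not_or] at hprim
      obtain ⟨e, he, hid, he0, hex⟩ := hprim
      have hf0 : x - e ≠ 0 := sub_ne_zero.2 (Ne.symm hex)
      have hfid : IsIdempotentElem (x - e) := by
        show (x - e) * (x - e) = x - e
        rw [mul_sub, sub_mul, sub_mul, (hX.mem x hx).2.1.eq, he.2.1, he.2.2, hid.eq]; abel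
      have hef : e * (x - e) = 0 := by rw [mul_sub, he.2.2, hid.eq, sub_self]
      have hfe : (x - e) * e = 0 := by rw [sub_mul, he.2.1, hid.eq, sub_self]
      have hne : e ≠ x - e := fun h => he0 (by rw [← h] at hef; rwa [hid.eq] at hef)
      have hcy : ∀ z ∈ CS hM n (stabU hM n U x) y, z ∈ cen hM n ({y} : Set G) := fun z hz =>
        (mem_cen_iff_cj hM n).2 fun g hg => by
          rw [Set.mem_singleton_iff] at hg; subst hg; exact ((mem_CS_cj hM n).1 hz).2
      have hfC := Subring.sub_mem _ hxC he.1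
      refine hstep X hX x hx {e, x - e} (by rw [Finset.card_pair hne]) ?_ ?_ ?_ ?_
      · intro q hq
        simp only [Finset.mem_insert, Finset.mem_singleton] at hq
        rcases hq with rfl | rfl
        exacts [⟨hcy _ he.1, hid, he0⟩, ⟨hcy _ hfC, hfid, hf0⟩]
      · intro q hq q' hq' hne'
        simp only [Finset.mem_insert, Finset.mem_singleton] at hq hq'
        rcases hq with rfl | rfl <;> rcases hq' with rfl | rfl
        exacts [absurd rfl hne', hef, hfe, absurd rfl hne']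
      · rw [Finset.sum_pair hne, add_sub_cancel]
      · intro r hr q hq
        simp only [Finset.mem_insert, Finset.mem_singleton] at hq ⊢
        rcases hq with rfl | rfl
        exacts [Or.inl (((mem_CS_cj hM n).1 he.1).1 r hr),
          Or.inr (((mem_CS_cj hM n).1 hfC).1 r hr)]
  suffices H : ∀ d X, IsPointFamily hM n U y X →
      (∀ x ∈ X, ∃ z ∈ X₀, x * z = x ∧ z * x = x) →
      Module.finrank (Cfsg.AlgInt ⧸ M) (ModAlg G M) ≤ X.card + d →
      ∃ X, IsPointFamily hM n U y X ∧ (∀ x ∈ X, ∃ z ∈ X₀, x * z = x ∧ z * x = x) ∧ ∀ x ∈ X,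
        Prim (CS hM n (stabU hM n U x) y) x ∧ br hM n (stabU hM n U x) x ≠ 0 by
    exact H _ X₀ hX₀ (fun x hx => ⟨x, hx, (hX₀.mem x hx).2.1.eq, (hX₀.mem x hx).2.1.eq⟩)
      (Nat.le_add_left _ _)
  have htrans : ∀ {X X' : Finset (GA G hM n)}, (∀ x ∈ X, ∃ z ∈ X₀, x * z = x ∧ z * x = x) →
      (∀ q ∈ X', ∃ z ∈ X, q * z = q ∧ z * q = q) →
      ∀ q ∈ X', ∃ z ∈ X₀, q * z = q ∧ z * q = q := by
    intro X X' h h' q hq
    obtain ⟨x, hx, e1, e2⟩ := h' q hq
    obtain ⟨z, hz, e3, e4⟩ := h x hx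
    exact ⟨z, hz, by rw [← e1, mul_assoc, e3], by rw [← e2, ← mul_assoc, e4]⟩
  intro d
  induction d with
  | zero =>
    intro X hX hle hd
    refine ⟨X, hX, hle, fun x hx => ?_⟩
    by_contra hbad
    obtain ⟨X', hX', hlt, -⟩ := hgrow X hX x hx hbad
    exact absurd (card_le_finrank hM n X' (fun x hx => ⟨(hX'.mem x hx).2.1, (hX'.mem x hx).2.2⟩)
      hX'.orth) (by omega)
  | succ d ih =>
    intro X hX hle hd
    by_cases hgood : ∀ x ∈ X, Prim (CS hM n (stabU hM n U x) y) x ∧ br hM n (stabU hM n U x) x ≠ 0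
    · exact ⟨X, hX, hle, hgood⟩
    obtain ⟨x, hx, hbad⟩ := not_forall₂.1 hgood
    obtain ⟨X', hX', hlt, hsub⟩ := hgrow X hX x hx hbad
    exact ih X' hX' (htrans hle hsub) (by omega)

/-- A point family all of whose members are primitive and local. -/
theorem exists_points {U : Subgroup G} (hU : IsPGroup p U) {y : G} (hy : ¬ p ∣ orderOf y)
    (hyU : ∀ u ∈ U, y * u = u * y) :
    ∃ X, IsPointFamily hM n U y X ∧ ∀ x ∈ X,
      Prim (CS hM n (stabU hM n U x) y) x ∧ br hM n (stabU hM n U x) x ≠ 0 := by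
  have := hM.2.1
  have h0 : IsPointFamily hM n U y {1} := by
    have h1 : (1 : GA G hM n) ≠ 0 := fun h => by
      have h2 := congrArg (red hM n) h
      rw [map_one, map_zero] at h2
      exact one_ne_zero h2
    refine ⟨fun x hx => ?_, fun x hx x' hx' hne => ?_, by simp, fun u _ x hx => ?_⟩
    · rw [Finset.mem_singleton] at hx; subst hx; exact ⟨Subring.one_mem _, IsIdempotentElem.one, h1⟩
    · simp only [Finset.mem_singleton] at hx hx'; exact absurd (hx.trans hx'.symm) hne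
    · simp only [Finset.mem_singleton] at hx ⊢; subst hx; simp [cj]
  obtain ⟨X, hX, -, h⟩ := exists_points_of hM n hU hy hyU h0
  exact ⟨X, hX, h⟩

end Cfsg.Agent.Blocks.Star
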