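import Cfsg.Agent.Blocks.Star.MajorLattice
import Cfsg.Agent.BlockChar.Contribution
import Mathlib.LinearAlgebra.FreeModule.PID
import Mathlib.LinearAlgebra.Matrix.Adjugate

/-!
# An integral basis of the regular parts of a block

The regular parts of the characters of a block span a lattice of rank `l(b)`; in a basis its
scaled Gram matrix `N` is integral, inverse to the Cartan matrix up to `p ^ d`, nonzero modulo `p`
and of rank one modulo `p`.
-/

namespace Cfsg.Agent.Blocks.Star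

open Cfsg.Agent Cfsg.Agent.Blocks
open scoped ComplexConjugate Matrix

universe u

variable {H : Type u} [Group H] [Fintype H] {p : ℕ} {M : Ideal Cfsg.AlgInt}
  {b : Set (Cfsg.IrrCharacter H)}

/-- Coordinates `A` in a basis `ψ` of the regular parts, with scaled Gram matrix `N`. -/
def IsLattice (p : ℕ) (b : Set (Cfsg.IrrCharacter H)) {n : ℕ} (ψ : Fin n → H → ℂ)
    (A : Cfsg.IrrCharacter H → Fin n → ℤ) (N : Matrix (Fin n) (Fin n) ℤ) : Prop :=
  (∀ η ∈ b, ∀ c : H, ¬ p ∣ orderOf c → (η : H → ℂ) c = ∑ i, (A η i : ℂ) * ψ i c) ∧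
  (∀ a : Fin n → ℂ, (∀ c : H, ¬ p ∣ orderOf c → ∑ i, a i * ψ i c = 0) → a = 0) ∧
  (∀ η ∈ b, ∀ θ ∈ b,
    BlockChar.regM p b η θ = ∑ i, ∑ j, (A η i : ℂ) * (A θ j : ℂ) * (N i j : ℂ)) ∧
  N * Matrix.of (cartanOf b A) = (p : ℤ) ^ Cfsg.blockDefect p b • (1 : Matrix (Fin n) (Fin n) ℤ)

open scoped Classical in
/-- Every block has such a basis, with as many members as its rank. -/
theorem exists_isLattice (hM : Cfsg.IsPModular p M) (hb : Cfsg.IsPBlock M b) :
    ∃ n, n = Cfsg.blockRank p b ∧ ∃ ψ A, ∃ N : Matrix (Fin n) (Fin n) ℤ,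
      IsLattice p b ψ A N ∧ N.transpose = N ∧
      ∀ i j k l, (p : ℤ) ∣ N i k * N j l - N i l * N j k := by
  classical
  have hp := hM.1
  let V : Submodule ℤ (H → ℂ) :=
    Submodule.span ℤ (Set.range fun η : b => Cfsg.pRegularPart p ((η : Cfsg.IrrCharacter H) : H → ℂ))
  have : Module.Finite ℤ V := Module.Finite.span_of_finite ℤ (Set.finite_range _)
  have : Module.Free ℤ V := Module.free_of_finite_type_torsion_free'
  let bV := Module.finBasis ℤ V
  set n := Module.finrank ℤ V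
  let ψ : Fin n → H → ℂ := fun i => (bV i : H → ℂ)
  let mem : ∀ η : b, Cfsg.pRegularPart p ((η : Cfsg.IrrCharacter H) : H → ℂ) ∈ V := fun η =>
    Submodule.subset_span ⟨η, rfl⟩
  let A : Cfsg.IrrCharacter H → Fin n → ℤ := fun η i =>
    if h : η ∈ b then bV.repr ⟨_, mem ⟨η, h⟩⟩ i else 0
  set S := b.toFinite.toFinset
  have hmemS : ∀ {η}, η ∈ S ↔ η ∈ b := fun {η} => Set.Finite.mem_toFinset _
  -- coordinates
  have hfull : ∀ η ∈ b, Cfsg.pRegularPart p (η : H → ℂ) = ∑ i, (A η i : ℂ) • ψ i := by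
    intro η hη
    have h := congrArg Subtype.val (bV.sum_repr ⟨_, mem ⟨η, hη⟩⟩)
    rw [AddSubmonoidClass.coe_finsetSum] at h
    refine h.symm.trans (Finset.sum_congr rfl fun i _ => ?_)
    funext c
    simp [A, ψ, hη, zsmul_eq_mul]
  have hA : ∀ η ∈ b, ∀ c : H, ¬ p ∣ orderOf c → (η : H → ℂ) c = ∑ i, (A η i : ℂ) * ψ i c := by
    intro η hη c hc
    have h := congrFun (hfull η hη) c
    rw [pRegularPart_apply, if_neg hc, Finset.sum_apply] at h
    simpa using h
  -- the members of the basis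
  have hgen : ∀ i, ∃ a : Cfsg.IrrCharacter H → ℤ, ∀ c,
      ψ i c = ∑ η ∈ S, (a η : ℂ) * Cfsg.pRegularPart p (η : H → ℂ) c := by
    intro i
    obtain ⟨a, ha⟩ := (Submodule.mem_span_range_iff_exists_fun ℤ).1 (bV i).2
    refine ⟨fun η => if h : η ∈ b then a ⟨η, h⟩ else 0, fun c => ?_⟩
    show (bV i : H → ℂ) c = _
    rw [← ha, Finset.sum_apply, Finset.sum_subtype S (fun η => hmemS)]
    refine Finset.sum_congr rfl fun η _ => ?_
    simp [zsmul_eq_mul]
  choose a ha using hgen
  have hareg : ∀ i c, ¬ p ∣ orderOf c → ψ i c = ∑ η ∈ S, (a i η : ℂ) * (η : H → ℂ) c :=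
    fun i c hc => by simp [ha, pRegularPart_apply, hc]
  have hsing : ∀ i c, p ∣ orderOf c → ψ i c = 0 := fun i c hc => by
    simp [ha, pRegularPart_apply, hc]
  -- the integral Gram matrix
  let P : ℂ := ((p ^ Cfsg.blockDefect p b : ℕ) : ℂ)
  let Γ : Fin n → Fin n → ℂ := fun i j => P / (Nat.card H : ℂ) *
    BlockChar.regSum p (fun c : H => ψ i c * conj (ψ j c))
  have hΓreg : ∀ i j, Γ i j = ∑ η ∈ S, ∑ θ ∈ S, (a i η : ℂ) * (a j θ : ℂ) *
      BlockChar.regM p b η θ := by
    intro i j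
    simp only [Γ, BlockChar.regM, BlockChar.regSum_eq_filter, Finset.mul_sum]
    rw [Finset.sum_congr rfl (g := fun c => ∑ η ∈ S, ∑ θ ∈ S, (a i η : ℂ) * (a j θ : ℂ) *
      (P / (Nat.card H : ℂ) * ((η : H → ℂ) c * conj ((θ : H → ℂ) c)))) fun c hc => by
      rw [hareg i c (Finset.mem_filter.1 hc).2, hareg j c (Finset.mem_filter.1 hc).2, map_sum,
        Finset.sum_mul_sum, Finset.mul_sum]
      refine Finset.sum_congr rfl fun η _ => ?_
      rw [Finset.mul_sum]
      refine Finset.sum_congr rfl fun θ _ => ?_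
      rw [map_mul, map_intCast]
      ring, Finset.sum_comm]
    exact Finset.sum_congr rfl fun η _ => Finset.sum_comm
  have hR : ∀ η θ : Cfsg.IrrCharacter H, ∃ k : ℤ, η ∈ b → BlockChar.regM p b η θ = (k : ℂ) :=
    fun η θ => by
      by_cases h : η ∈ b
      · obtain ⟨k, hk⟩ := BlockChar.exists_int_regM hM h θ
        exact ⟨k, fun _ => hk⟩
      · exact ⟨0, fun h' => absurd h' h⟩
  choose R hR using hR
  let N : Matrix (Fin n) (Fin n) ℤ := Matrix.of fun i j =>
    ∑ η ∈ S, ∑ θ ∈ S, a i η * a j θ * R η θ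
  have hN : ∀ i j, (N i j : ℂ) = Γ i j := by
    intro i j
    rw [hΓreg, show N i j = ∑ η ∈ S, ∑ θ ∈ S, a i η * a j θ * R η θ from rfl]
    push_cast
    exact Finset.sum_congr rfl fun η hη => Finset.sum_congr rfl fun θ _ => by
      rw [hR η θ (hmemS.1 hη)]
  -- independence
  have hzero : ∀ v : Fin n → ℂ, (∀ c : H, ¬ p ∣ orderOf c → ∑ i, v i * ψ i c = 0) →
      ∀ j, ∑ i, v i * (N i j : ℂ) = 0 := by
    intro v hv j
    simp only [hN, Γ, BlockChar.regSum_eq_filter, Finset.mul_sum]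
    rw [Finset.sum_comm]
    refine Finset.sum_eq_zero fun c hc => ?_
    rw [Finset.sum_congr rfl (g := fun i => P / (Nat.card H : ℂ) * conj (ψ j c) * (v i * ψ i c))
      fun i _ => by ring, ← Finset.mul_sum, hv c (Finset.mem_filter.1 hc).2, mul_zero]
  have hli : ∀ v : Fin n → ℂ, (∀ c : H, ¬ p ∣ orderOf c → ∑ i, v i * ψ i c = 0) → v = 0 := by
    intro v hv
    by_contra hne
    have hdet : (N.map (Int.castRingHom ℂ)).det = 0 :=
      Matrix.exists_vecMul_eq_zero_iff.1 ⟨v, hne, funext fun j => hzero v hv j⟩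
    rw [← RingHom.mapMatrix_apply, ← RingHom.map_det] at hdet
    obtain ⟨w, hw, hwN⟩ := Matrix.exists_vecMul_eq_zero_iff.2 (Int.cast_eq_zero.1 hdet)
    -- the combination has norm zero
    have h0 : ∑ i, ∑ j, (w i : ℂ) * (w j : ℂ) * Γ i j = 0 := by
      rw [Finset.sum_comm]
      refine Finset.sum_eq_zero fun j _ => ?_
      have h : ∑ i, (w i : ℂ) * (N i j : ℂ) = 0 := by
        exact_mod_cast congrFun hwN j
      simp only [← hN]
      rw [Finset.sum_congr rfl (g := fun i => (w j : ℂ) * ((w i : ℂ) * (N i j : ℂ)))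
        fun i _ => by ring, ← Finset.mul_sum, h, mul_zero]
    let F : H → ℂ := fun c => ∑ i, (w i : ℂ) * ψ i c
    have h1 : P / (Nat.card H : ℂ) *
        ∑ c ∈ Finset.univ.filter (fun c : H => Cfsg.IsPRegular p c),
          ((Complex.normSq (F c) : ℝ) : ℂ) = 0 := by
      have hF : ∀ c, ((Complex.normSq (F c) : ℝ) : ℂ) =
          ∑ i, ∑ j, (w i : ℂ) * (w j : ℂ) * (ψ i c * conj (ψ j c)) := fun c => by
        rw [← Complex.mul_conj, map_sum, Finset.sum_mul_sum]
        exact Finset.sum_congr rfl fun i _ => Finset.sum_congr rfl fun j _ => by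
          rw [map_mul, map_intCast]; ring
      rw [← h0, Finset.mul_sum, Finset.sum_congr rfl fun c _ => by rw [hF c, Finset.mul_sum]]
      simp only [Γ, BlockChar.regSum_eq_filter, Finset.mul_sum]
      rw [Finset.sum_comm]
      refine Finset.sum_congr rfl fun i _ => ?_
      rw [Finset.sum_comm]
      exact Finset.sum_congr rfl fun j _ => Finset.sum_congr rfl fun c _ => by ring
    rw [mul_eq_zero, div_eq_zero_iff] at h1
    have h2 := h1.resolve_left fun h => h.elim
      (Nat.cast_ne_zero.2 (pow_ne_zero _ hp.ne_zero)) (Nat.cast_ne_zero.2 Nat.card_pos.ne')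
    rw [← Complex.ofReal_sum, Complex.ofReal_eq_zero,
      Finset.sum_eq_zero_iff_of_nonneg fun c _ => Complex.normSq_nonneg _] at h2
    have hF : ∑ i, w i • bV i = 0 := by
      apply Subtype.ext
      funext c
      rw [AddSubmonoidClass.coe_finsetSum, Finset.sum_apply]
      have : F c = 0 := by
        by_cases hc : p ∣ orderOf c
        · exact Finset.sum_eq_zero fun i _ => by rw [hsing i c hc, mul_zero]
        · exact Complex.normSq_eq_zero.1 (h2 c (Finset.mem_filter.2 ⟨Finset.mem_univ _, hc⟩))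
      simpa [F, ψ, zsmul_eq_mul] using this
    exact hw (funext fun i => Fintype.linearIndependent_iff.1 bV.linearIndependent w hF i)
  -- the rank
  have hn : n = Cfsg.blockRank p b := by
    have hLI : LinearIndependent ℂ ψ := by
      rw [Fintype.linearIndependent_iff]
      intro g hg i
      refine congrFun (hli g fun c _ => ?_) i
      simpa using congrFun hg c
    have hspan : Submodule.span ℂ (Set.range ψ) = Submodule.span ℂ
        ((fun η : Cfsg.IrrCharacter H => Cfsg.pRegularPart p (η : H → ℂ)) '' b) := by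
      refine le_antisymm (Submodule.span_le.2 ?_) (Submodule.span_le.2 ?_)
      · rintro _ ⟨i, rfl⟩
        rw [show ψ i = ∑ η ∈ S, (a i η : ℂ) • Cfsg.pRegularPart p (η : H → ℂ) by
          funext c; rw [Finset.sum_apply, ha]; rfl]
        exact Submodule.sum_mem _ fun η hη =>
          Submodule.smul_mem _ _ (Submodule.subset_span ⟨η, hmemS.1 hη, rfl⟩)
      · rintro _ ⟨η, hη, rfl⟩
        show Cfsg.pRegularPart p (η : H → ℂ) ∈ _
        rw [hfull η hη]
        exact Submodule.sum_mem _ fun i _ =>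
          Submodule.smul_mem _ _ (Submodule.subset_span ⟨i, rfl⟩)
    rw [Cfsg.blockRank, ← hspan, finrank_span_eq_card hLI, Fintype.card_fin]
  -- the entries of `regM`
  have hreg : ∀ η ∈ b, ∀ θ ∈ b,
      BlockChar.regM p b η θ = ∑ i, ∑ j, (A η i : ℂ) * (A θ j : ℂ) * (N i j : ℂ) := by
    intro η hη θ hθ
    simp only [hN, Γ, BlockChar.regM, BlockChar.regSum_eq_filter, Finset.mul_sum]
    rw [Finset.sum_congr rfl (g := fun c : H => ∑ i, ∑ j, (A η i : ℂ) * (A θ j : ℂ) *
      (P / (Nat.card H : ℂ) * (ψ i c * conj (ψ j c)))) fun c hc => by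
      rw [hA η hη c (Finset.mem_filter.1 hc).2, hA θ hθ c (Finset.mem_filter.1 hc).2, map_sum,
        Finset.sum_mul_sum, Finset.mul_sum]
      refine Finset.sum_congr rfl fun i _ => ?_
      rw [Finset.mul_sum]
      refine Finset.sum_congr rfl fun j _ => ?_
      rw [map_mul, map_intCast]
      ring, Finset.sum_comm]
    exact Finset.sum_congr rfl fun i _ => Finset.sum_comm
  have hNW : N * Matrix.of (cartanOf b A) =
      (p : ℤ) ^ Cfsg.blockDefect p b • (1 : Matrix (Fin n) (Fin n) ℤ) := by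
    have h := gram_mul_cartan hM hb ψ A hA hli
      (fun i => ⟨fun η => (a i η : ℂ), fun c hc => hareg i c hc⟩)
    ext i j
    apply Int.cast_injective (α := ℂ)
    have h' := congrFun (congrFun h i) j
    rw [Matrix.mul_apply] at h'
    simp only [Matrix.of_apply] at h'
    rw [Matrix.mul_apply, Matrix.smul_apply, smul_eq_mul, Int.cast_mul, Int.cast_sum]
    simp only [Int.cast_mul, hN, Matrix.of_apply, Γ]
    rw [Finset.sum_congr rfl (g := fun l => P * ((Nat.card H : ℂ)⁻¹ *
      BlockChar.regSum p (fun c : H => ψ i c * conj (ψ l c)) * (cartanOf b A l j : ℂ)))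
      fun l _ => by ring, ← Finset.mul_sum, h']
    simp [P, Matrix.one_apply]
  refine ⟨n, hn, ψ, A, N, ⟨hA, hli, hreg, hNW⟩, ?_, ?_⟩
  · ext i j
    rw [Matrix.transpose_apply]
    simp only [N, Matrix.of_apply]
    rw [Finset.sum_comm]
    refine Finset.sum_congr rfl fun η hη => Finset.sum_congr rfl fun θ hθ => ?_
    have hc : R θ η = R η θ := Int.cast_injective (α := ℂ) (by
      rw [← hR θ η (hmemS.1 hθ), ← hR η θ (hmemS.1 hη), BlockChar.regM_comm hM η θ])
    rw [hc]; ring
  · intro i j k l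
    obtain ⟨φ₀, hφ₀, h₀⟩ := BlockThms.exists_height_zero hM hb
    obtain ⟨-, hv, hpos⟩ := BlockChar.redDeg_mul (B := b) hp hφ₀
    have hK : ¬ Cfsg.MemLocalIdeal M ((BlockChar.redDeg p b φ₀ : ℂ) *
        ((Nat.card H / p ^ (Nat.card H).factorization p : ℕ) : ℂ)) := by
      rw [← Nat.cast_mul, memLocalIdeal_natCast_iff hM, hp.dvd_mul, not_or]
      refine ⟨fun h => ?_, Nat.not_dvd_ordCompl hp Nat.card_pos.ne'⟩
      have := hp.factorization_pos_of_dvd hpos.ne' h
      omega
    set K : ℂ := (BlockChar.redDeg p b φ₀ : ℂ) *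
      ((Nat.card H / p ^ (Nat.card H).factorization p : ℕ) : ℂ)
    set Ω := omega (φ₀ : H → ℂ) (BlockChar.regConj p (φ₀ : H → ℂ))
    have hKr : Cfsg.MemLocalRing M K :=
      (localRing hM).mul_mem (memLocalRing_natCast hM _) (memLocalRing_natCast hM _)
    have hminor : ∀ η ∈ b, ∀ η' ∈ b, ∀ θ ∈ b, ∀ θ' ∈ b,
        (p : ℤ) ∣ R η θ * R η' θ' - R η θ' * R η' θ := by
      intro η hη η' hη' θ hθ θ' hθ'
      have hcong : ∀ φ ∈ b, ∀ φ' ∈ b, Cfsg.MemLocalIdeal M (K * (R φ φ' : ℂ) -
          (BlockChar.redDeg p b φ : ℂ) * (BlockChar.redDeg p b φ' : ℂ) * Ω) := by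
        intro φ hφ φ' hφ'
        rw [← hR φ φ' hφ]
        exact BlockChar.regM_congr_redDeg hM hb hφ₀ hφ hφ'
      have hrr : ∀ φ φ', Cfsg.MemLocalRing M
          ((BlockChar.redDeg p b φ : ℂ) * (BlockChar.redDeg p b φ' : ℂ) * Ω) := fun φ φ' =>
        (localRing hM).mul_mem
          ((localRing hM).mul_mem (memLocalRing_natCast hM _) (memLocalRing_natCast hM _))
          (memLocalRing_of_isIntegral hM (BlockChar.isIntegral_omega_regConj φ₀ φ₀))
      have hKR : ∀ φ φ', Cfsg.MemLocalRing M (K * (R φ φ' : ℂ)) := fun φ φ' =>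
        (localRing hM).mul_mem hKr (memLocalRing_of_isIntegral hM (isIntegral_intCast _))
      have h : Cfsg.MemLocalIdeal M ((K * K) *
          ((R η θ * R η' θ' - R η θ' * R η' θ : ℤ) : ℂ)) := by
        convert memLocalIdeal_sub hM
          (memLocalIdeal_add hM (memLocalIdeal_mul_left hM (hKR η θ) (hcong η' hη' θ' hθ'))
            (memLocalIdeal_mul_right hM (hcong η hη θ hθ) (hrr η' θ')))
          (memLocalIdeal_add hM (memLocalIdeal_mul_left hM (hKR η θ') (hcong η' hη' θ hθ))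
            (memLocalIdeal_mul_right hM (hcong η hη θ' hθ') (hrr η' θ))) using 1
        push_cast
        ring
      refine (memLocalIdeal_intCast_iff hM _).1
        ((memLocalIdeal_of_mul hM ((localRing hM).mul_mem hKr hKr)
          (memLocalRing_of_isIntegral hM (isIntegral_intCast _)) h).resolve_left fun h' => ?_)
      exact ((memLocalIdeal_of_mul hM hKr hKr h').elim hK hK)
    have : N i k * N j l - N i l * N j k = ∑ η ∈ S, ∑ θ ∈ S, ∑ η' ∈ S, ∑ θ' ∈ S,
        a i η * a k θ * a j η' * a l θ' * (R η θ * R η' θ' - R η θ' * R η' θ) := by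
      have hprod : ∀ i k j l, N i k * N j l = ∑ η ∈ S, ∑ θ ∈ S, ∑ η' ∈ S, ∑ θ' ∈ S,
          a i η * a k θ * a j η' * a l θ' * (R η θ * R η' θ') := by
        intro i k j l
        show (∑ η ∈ S, ∑ θ ∈ S, a i η * a k θ * R η θ) *
          (∑ η ∈ S, ∑ θ ∈ S, a j η * a l θ * R η θ) = _
        rw [Finset.sum_mul]
        refine Finset.sum_congr rfl fun η _ => ?_
        rw [Finset.sum_mul]
        refine Finset.sum_congr rfl fun θ _ => ?_
        rw [Finset.mul_sum]
        refine Finset.sum_congr rfl fun η' _ => ?_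
        rw [Finset.mul_sum]
        exact Finset.sum_congr rfl fun θ' _ => by ring
      rw [hprod, hprod]
      simp only [mul_sub, Finset.sum_sub_distrib]
      congr 1
      refine Finset.sum_congr rfl fun η _ => ?_
      rw [Finset.sum_congr rfl fun θ _ => Finset.sum_comm, Finset.sum_comm,
        Finset.sum_congr rfl fun θ _ => Finset.sum_comm]
      exact Finset.sum_congr rfl fun θ _ => Finset.sum_congr rfl fun η' _ =>
        Finset.sum_congr rfl fun θ' _ => by ring
    rw [this]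
    exact Finset.dvd_sum fun η hη => Finset.dvd_sum fun θ hθ => Finset.dvd_sum fun η' hη' =>
      Finset.dvd_sum fun θ' hθ' => dvd_mul_of_dvd_right
        (hminor η (hmemS.1 hη) η' (hmemS.1 hη') θ (hmemS.1 hθ) θ' (hmemS.1 hθ')) _

/-- Some entry of the Gram matrix is prime to `p`. -/
theorem IsLattice.exists_not_dvd {n : ℕ} {ψ : Fin n → H → ℂ}
    {A : Cfsg.IrrCharacter H → Fin n → ℤ} {N : Matrix (Fin n) (Fin n) ℤ}
    (hL : IsLattice p b ψ A N) (hM : Cfsg.IsPModular p M) (hb : Cfsg.IsPBlock M b) :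
    ∃ i j, ¬ (p : ℤ) ∣ N i j := by
  by_contra hno
  push Not at hno
  obtain ⟨φ, hφ, h0⟩ := BlockThms.exists_height_zero hM hb
  obtain ⟨θ, hθ, hnot⟩ := BlockChar.exists_unit_entry hM hb hφ h0
  refine hnot ?_
  rw [hL.2.2.1 φ hφ θ hθ, show ∑ i, ∑ j, (A φ i : ℂ) * (A θ j : ℂ) * (N i j : ℂ) =
    ((∑ i, ∑ j, A φ i * A θ j * N i j : ℤ) : ℂ) by push_cast; rfl,
    memLocalIdeal_intCast_iff hM]
  exact Finset.dvd_sum fun i _ => Finset.dvd_sum fun j _ => dvd_mul_of_dvd_right (hno i j) _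

end Cfsg.Agent.Blocks.Star
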