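import Cfsg.Agent.Blocks.Star.Compat
import Cfsg.Agent.Blocks.Star.Local
import Cfsg.Agent.Blocks.Star.Trace
import Cfsg.Agent.Blocks.PPart
import Cfsg.Agent.Char.Gen

/-!
# Weights on subsections and the local congruence

A weight assigns a number to every subsection; it is compatible when below every Brauer pair
`(R, f)` it is given by a generalized character of `R`.  For such a weight the twisted class
function has inner products with linear characters of elementary groups that are local at `M`.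
-/

namespace Cfsg.Agent.Blocks.Star

open Cfsg.Agent Cfsg.Agent.Blocks

universe u

attribute [local instance] Ideal.Quotient.field

variable {G : Type u} [Group G] [Fintype G] {p : ℕ} {M : Ideal Cfsg.AlgInt}

local notation "CG[" Q "]" => Subgroup.centralizer ((Q : Subgroup G) : Set G)
local notation "sbc" => Cfsg.subgroupBlockCoeff

/-! ## The block idempotents of the centralizer of an element, as functions -/

open scoped Classical in
/-- The coefficient functions of the blocks of the centralizer of `u`. -/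
noncomputable def Bk (M : Ideal Cfsg.AlgInt) (u : G) : Finset (G → ℂ) :=
  (Set.toFinite {b : Set (Cfsg.IrrCharacter CG[Subgroup.zpowers u]) |
    Cfsg.IsPBlock M b}).toFinset.image (sbc CG[Subgroup.zpowers u])

/-- Conjugate of a function. -/
def conjF (v : G) (e : G → ℂ) : G → ℂ := fun g => e (v⁻¹ * g * v)

omit [Fintype G] in
theorem mem_zpowers_centralizer {u z : G} :
    z ∈ CG[Subgroup.zpowers u] ↔ u * z = z * u := by
  rw [Subgroup.mem_centralizer_iff]
  exact ⟨fun h => h u (Subgroup.mem_zpowers u), fun h a ⟨i, hi⟩ =>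
    hi ▸ ((show Commute u z from h).zpow_left i).eq⟩

omit [Fintype G] in
theorem mem_zpowers_centralizer_conj (u v z : G) :
    z ∈ CG[Subgroup.zpowers (v * u * v⁻¹)] ↔ v⁻¹ * z * v ∈ CG[Subgroup.zpowers u] := by
  rw [mem_zpowers_centralizer, mem_zpowers_centralizer]
  constructor
  · intro h
    calc u * (v⁻¹ * z * v) = v⁻¹ * (v * u * v⁻¹ * z) * v := by group
      _ = v⁻¹ * z * v * u := by rw [h]; group
  · intro h
    calc v * u * v⁻¹ * z = v * (u * (v⁻¹ * z * v)) * v⁻¹ := by group
      _ = z * (v * u * v⁻¹) := by rw [h]; group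

theorem mem_Bk {u : G} {e : G → ℂ} :
    e ∈ Bk M u ↔ ∃ b, Cfsg.IsPBlock M b ∧ sbc CG[Subgroup.zpowers u] b = e := by
  classical
  simp [Bk]

theorem sbc_mem_Bk {u : G} {b : Set (Cfsg.IrrCharacter CG[Subgroup.zpowers u])}
    (hb : Cfsg.IsPBlock M b) : sbc CG[Subgroup.zpowers u] b ∈ Bk M u :=
  mem_Bk.2 ⟨b, hb, rfl⟩

theorem conjF_mem_Bk {u : G} {e : G → ℂ} (he : e ∈ Bk M u) (v : G) :
    conjF v e ∈ Bk M (v * u * v⁻¹) := by
  obtain ⟨b, hb, rfl⟩ := mem_Bk.1 he
  have h : ∀ y, y ∈ CG[Subgroup.zpowers u] ↔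
      v * y * v⁻¹ ∈ CG[Subgroup.zpowers (v * u * v⁻¹)] := fun y => by
    rw [mem_zpowers_centralizer_conj, show v⁻¹ * (v * y * v⁻¹) * v = y by group]
  exact mem_Bk.2 ⟨_, BrauerPairs.isPBlock_mapBlock _ hb,
    funext fun g => BrauerPairs.sbc_mapBlock _ _ v h b g⟩

omit [Fintype G] in
theorem conjF_conjF (v w : G) (e : G → ℂ) : conjF v (conjF w e) = conjF (v * w) e :=
  funext fun g => congrArg e (by group)

omit [Fintype G] in
theorem conjF_one (e : G → ℂ) : conjF 1 e = e := funext fun g => congrArg e (by group)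

theorem sum_Bk (hM : Cfsg.IsPModular p M) (u : G) : ∑ e ∈ Bk M u, e = delta G := by
  classical
  letI := Fintype.ofFinite (BrauerPairs.PBlock M CG[Subgroup.zpowers u])
  rw [← BrauerPairs.sum_sbc (H := CG[Subgroup.zpowers u]) hM]
  refine (Finset.sum_bij (fun b _ => sbc _ b.1) (fun b _ => sbc_mem_Bk b.2)
    (fun a _ b _ h => Subtype.ext (BrauerPairs.sbc_injective h)) (fun e he => ?_)
    fun b _ => rfl).symm
  obtain ⟨b, hb, rfl⟩ := mem_Bk.1 he
  exact ⟨⟨b, hb⟩, Finset.mem_univ _, rfl⟩

theorem conv_Bk (hM : Cfsg.IsPModular p M) {u : G} {e e' : G → ℂ} (he : e ∈ Bk M u)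
    (he' : e' ∈ Bk M u) : conv e e' = if e = e' then e else 0 := by
  classical
  obtain ⟨b, hb, rfl⟩ := mem_Bk.1 he
  obtain ⟨b', hb', rfl⟩ := mem_Bk.1 he'
  by_cases h : b = b'
  · subst h
    rw [if_pos rfl, BrauerPairs.conv_sbc_self]
  · rw [if_neg fun e => h (BrauerPairs.sbc_injective e), BrauerPairs.conv_sbc_disjoint]
    rw [Set.disjoint_left]
    exact fun χ hχ hχ' => h (BrauerPairs.eq_of_mem hM hb hb' hχ hχ')

theorem memLocalRing_Bk (hM : Cfsg.IsPModular p M) {u : G} {e : G → ℂ} (he : e ∈ Bk M u)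
    (g : G) : Cfsg.MemLocalRing M (e g) := by
  obtain ⟨b, hb, rfl⟩ := mem_Bk.1 he
  exact BrauerPairs.memLocalRing_sbc hM hb g

theorem isInv_Bk {u : G} {e : G → ℂ} (he : e ∈ Bk M u) :
    BrauerPairs.IsInv (CG[Subgroup.zpowers u] : Set G) e := by
  obtain ⟨b, -, rfl⟩ := mem_Bk.1 he
  exact BrauerPairs.isInv_sbc b

theorem apply_Bk_of_notMem {u z : G} {e : G → ℂ} (he : e ∈ Bk M u)
    (hz : z ∉ CG[Subgroup.zpowers u]) : e z = 0 := by
  obtain ⟨b, -, rfl⟩ := mem_Bk.1 he
  exact BrauerPairs.sbc_of_notMem b hz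

/-- The block part of `χ` on the section of `u`. -/
noncomputable def sect (χ : G → ℂ) (u : G) (e : G → ℂ) (y : G) : ℂ :=
  ∑ g, e g * χ (u * y * g)

theorem sect_conjF {χ : G → ℂ} (hχ : Cfsg.IsClassFunction G χ) (u y v : G) (e : G → ℂ) :
    sect χ (v * u * v⁻¹) (conjF v e) (v * y * v⁻¹) = sect χ u e y := by
  unfold sect conjF
  refine Fintype.sum_equiv (MulAut.conj v⁻¹).toEquiv _ _ fun g => ?_
  simp only [MulEquiv.toEquiv_eq_coe, EquivLike.coe_coe, MulAut.conj_apply, inv_inv]
  congr 1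
  rw [show v * u * v⁻¹ * (v * y * v⁻¹) * g = v * (u * y * (v⁻¹ * g * v)) * v⁻¹ by group, hχ]

/-- The class function twisted by a weight. -/
noncomputable def Phi (p : ℕ) (M : Ideal Cfsg.AlgInt) (W : G → (G → ℂ) → ℂ) (χ : G → ℂ) (x : G) :
    ℂ :=
  ∑ e ∈ Bk M (pPartOf p x), W (pPartOf p x) e * sect χ (pPartOf p x) e (pPrimePartOf p x)

/-- A weight compatible with the inclusion of Brauer pairs. -/
structure IsWeight (p : ℕ) (M : Ideal Cfsg.AlgInt) (W : G → (G → ℂ) → ℂ) : Prop where
  conj : ∀ (u v : G) (e : G → ℂ), W (v * u * v⁻¹) (conjF v e) = W u e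
  compat : ∀ R : Subgroup G, IsPGroup p R → ∀ f : Set (Cfsg.IrrCharacter CG[R]),
    Cfsg.IsPBlock M f → ∃ η : R → ℂ, Cfsg.IsGeneralizedCharacter R η ∧
      ∀ (u : R) (b : Set (Cfsg.IrrCharacter CG[Subgroup.zpowers (u : G)])),
        Cfsg.SubpairLE p M (Subgroup.zpowers (u : G)) b R f →
          W (u : G) (sbc CG[Subgroup.zpowers (u : G)] b) = η u

omit [Fintype G] in
theorem isIntegral_gen {K : Type u} [Group K] [Finite K] {η : K → ℂ}
    (hη : Cfsg.IsGeneralizedCharacter K η) (k : K) : IsIntegral ℤ (η k) := by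
  obtain ⟨a, b, ha, hb, rfl⟩ := hη
  exact (Char.IsChar.isIntegral ha k).sub (Char.IsChar.isIntegral hb k)

theorem IsWeight.isIntegral {W : G → (G → ℂ) → ℂ} (hW : IsWeight p M W) {u : G}
    (hu : IsPGroup p (Subgroup.zpowers u)) {e : G → ℂ} (he : e ∈ Bk M u) :
    IsIntegral ℤ (W u e) := by
  obtain ⟨b, hb, rfl⟩ := mem_Bk.1 he
  obtain ⟨η, hη, h⟩ := hW.compat _ hu b hb
  rw [h ⟨u, Subgroup.mem_zpowers u⟩ b Relation.ReflTransGen.refl]
  exact isIntegral_gen hη _

theorem isPGroup_zpowers_pPartOf (hp : p.Prime) (x : G) :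
    IsPGroup p (Subgroup.zpowers (pPartOf p x)) := by
  obtain ⟨k, hk⟩ := orderOf_pPartOf hp x
  exact IsPGroup.of_card (n := k) (by rw [Nat.card_zpowers, hk])

theorem isClassFunction_Phi {W : G → (G → ℂ) → ℂ} (hW : IsWeight p M W) {χ : G → ℂ}
    (hχ : Cfsg.IsClassFunction G χ) : Cfsg.IsClassFunction G (Phi p M W χ) := by
  intro g v
  have h1 : orderOf (v * g * v⁻¹) = orderOf g :=
    orderOf_injective (MulAut.conj v).toMonoidHom (MulAut.conj v).injective g
  have h2 : pPrimePartOf p (v * g * v⁻¹) = v * pPrimePartOf p g * v⁻¹ := by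
    rw [pPrimePartOf, pPrimePartOf, h1, conj_pow]
  rw [Phi, Phi, pPartOf_conj, h2]
  set u := pPartOf p g
  refine Finset.sum_bij (fun e _ => conjF v⁻¹ e) (fun e he => ?_) (fun a _ b _ h => ?_)
    (fun e he => ?_) fun e _ => ?_
  · have := conjF_mem_Bk he v⁻¹
    rwa [show v⁻¹ * (v * u * v⁻¹) * v⁻¹⁻¹ = u by group] at this
  · simpa [conjF_conjF, conjF_one] using congrArg (conjF v) h
  · exact ⟨conjF v e, conjF_mem_Bk he v, by simp [conjF_conjF, conjF_one]⟩
  · conv_lhs => rw [show e = conjF v (conjF v⁻¹ e) by simp [conjF_conjF, conjF_one]]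
    rw [hW.conj, sect_conjF hχ]

/-! ## The congruence -/

variable [Fact p.Prime] (hM : Cfsg.IsPModular p M) (n : ℕ)

/-- Conjugation in the reduced group algebra. -/
noncomputable def cjB (v : G) (b : ModAlg G M) : ModAlg G M :=
  ofFun fun z => b.coeff (v⁻¹ * z * v)

omit [Fact p.Prime] in
theorem coeff_cjB (v : G) (b : ModAlg G M) (z : G) :
    (cjB v b).coeff z = b.coeff (v⁻¹ * z * v) := coeff_ofFun _ z

omit [Fact p.Prime] in
theorem cjB_mul (v : G) (a b : ModAlg G M) : cjB v (a * b) = cjB v a * cjB v b := by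
  refine alg_ext fun z => ?_
  rw [coeff_cjB, coeff_mul', coeff_mul']
  refine Fintype.sum_equiv (MulAut.conj v).toEquiv _ _ fun a' => ?_
  simp only [MulEquiv.toEquiv_eq_coe, EquivLike.coe_coe, MulAut.conj_apply, coeff_cjB]
  congr 2 <;> group

omit [Fact p.Prime] in
theorem cjB_redFun (v : G) (e : G → ℂ) : cjB v (redFun hM e) = redFun hM (conjF v e) := by
  refine alg_ext fun z => ?_
  rw [coeff_cjB, coeff_redFun, coeff_redFun]
  rfl

omit [Fact p.Prime] in
theorem cjB_br (u v : G) (x : GA G hM n) :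
    cjB v (br hM n (Subgroup.zpowers u) x) =
      br hM n (Subgroup.zpowers (v * u * v⁻¹)) (cj (gU hM n v) x) := by
  refine alg_ext fun z => ?_
  rw [coeff_cjB, br, br]
  have h := mem_zpowers_centralizer_conj u v z
  by_cases hz : z ∈ CG[Subgroup.zpowers (v * u * v⁻¹)]
  · rw [coeff_trunB_of_mem _ hz, coeff_trunB_of_mem _ (h.1 hz), coeff_red, coeff_red, coeff_cj]
  · rw [coeff_trunB_of_notMem _ hz, coeff_trunB_of_notMem _ (mt h.2 hz)]

/-- The block of a point at `u`. -/
noncomputable def blkAt (u : G) (x : GA G hM n) : G → ℂ :=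
  Classical.epsilon fun e => e ∈ Bk M u ∧
    br hM n (Subgroup.zpowers u) x * redFun hM e = br hM n (Subgroup.zpowers u) x

omit [Fact p.Prime] in
theorem blkAt_eq {u : G} {x : GA G hM n} (h0 : br hM n (Subgroup.zpowers u) x ≠ 0) {e : G → ℂ}
    (he : e ∈ Bk M u)
    (h : br hM n (Subgroup.zpowers u) x * redFun hM e = br hM n (Subgroup.zpowers u) x) :
    blkAt hM n u x = e := by
  obtain ⟨h1, h2⟩ := Classical.epsilon_spec (p := fun e => e ∈ Bk M u ∧
    br hM n (Subgroup.zpowers u) x * redFun hM e = br hM n (Subgroup.zpowers u) x) ⟨e, he, h⟩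
  change blkAt hM n u x ∈ Bk M u at h1
  by_contra hne
  refine h0 ?_
  change br hM n (Subgroup.zpowers u) x * redFun hM (blkAt hM n u x) = _ at h2
  conv_lhs => rw [← h, ← h2]
  rw [mul_assoc, redFun_mul hM (memLocalRing_Bk hM h1) (memLocalRing_Bk hM he), conv_Bk hM h1 he,
    if_neg hne]
  have : redFun hM (0 : G → ℂ) = (0 : ModAlg G M) := alg_ext fun z => by
    rw [coeff_redFun]
    exact (residue hM).map_zero.trans (by simp)
  rw [this, mul_zero]

include hM in
/-- The local congruence, for a weight. -/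
theorem memLocalRing_sum_Phi {W : G → (G → ℂ) → ℂ} (hW : IsWeight p M W) {χ : G → ℂ}
    (hχ : Cfsg.IsCharacter G χ) {U : Subgroup G} [Fintype U] (hU : IsPGroup p U) {y : G}
    (hy : ¬ p ∣ orderOf y) (hyU : ∀ u ∈ U, y * u = u * y) {ζ : G → ℂ}
    (hζ : Cfsg.IsGeneralizedCharacter U (fun u : U => ζ u)) :
    Cfsg.MemLocalRing M ((Nat.card U : ℂ)⁻¹ * ∑ u : U, ζ u * Phi p M W χ ((u : G) * y)) := by
  classical
  haveI := hM.2.1
  have hp : p.Prime := Fact.out
  have hχc := Char.isClassFunction_of_isCharacter hχ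
  have hχR : ∀ g, Cfsg.MemLocalRing M (χ g) := fun g =>
    memLocalRing_of_isIntegral hM (Char.IsChar.isIntegral hχ g)
  obtain ⟨k, hk⟩ := IsPGroup.iff_card.1 hU
  obtain ⟨X, hX, hgood⟩ := exists_points hM k hU hy hyU
  have hζc : ∀ u v : U, ζ ((v : G) * u * (v : G)⁻¹) = ζ u := fun u v => by
    obtain ⟨a, b, ha, hb, e⟩ := hζ
    have h1 := congrFun e (v * u * v⁻¹)
    have h2 := congrFun e u
    rw [Pi.sub_apply, Char.isClassFunction_of_isCharacter ha,
      Char.isClassFunction_of_isCharacter hb, ← Pi.sub_apply, ← h2] at h1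
    simpa using h1
  have hzp : ∀ u ∈ U, IsPGroup p (Subgroup.zpowers u) := fun u hu =>
    hU.to_le (Subgroup.zpowers_le.2 hu)
  have hζR : ∀ u ∈ U, Cfsg.MemLocalRing M (ζ u) := fun u hu =>
    memLocalRing_of_isIntegral hM (isIntegral_gen hζ ⟨u, hu⟩)
  have hWR : ∀ u ∈ U, ∀ e ∈ Bk M u, Cfsg.MemLocalRing M (W u e) := fun u hu e he =>
    memLocalRing_of_isIntegral hM (hW.isIntegral (hzp u hu) he)
  have hsectR : ∀ u e, e ∈ Bk M u → ∀ z, Cfsg.MemLocalRing M (sect χ u e z) := fun u e he z =>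
    (localRing hM).sum_mem fun g _ => (localRing hM).mul_mem (memLocalRing_Bk hM he g) (hχR _)
  have hPhi : ∀ u ∈ U, Phi p M W χ (u * y) = ∑ e ∈ Bk M u, W u e * sect χ u e y := by
    intro u hu
    obtain ⟨a, ha⟩ := IsPGroup.iff_card.1 (hzp u hu)
    rw [Nat.card_zpowers] at ha
    obtain ⟨e1, e2⟩ := parts_mul hp (show Commute u y from (hyU u hu).symm) ⟨a, ha⟩ hy
    rw [Phi, e1, e2]
  have hPhiR : ∀ u ∈ U, Cfsg.MemLocalRing M (Phi p M W χ (u * y)) := fun u hu => by
    rw [hPhi u hu]
    exact (localRing hM).sum_mem fun e he =>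
      (localRing hM).mul_mem (hWR u hu e he) (hsectR u e he y)
  set T := fun u : G => (MonoidAlgebra.single (u * y) 1 : GA G hM k)
  set Fx := fun (x : GA G hM k) (u : U) =>
    toR hM k (ζ (u : G)) * toR hM k (W (u : G) (blkAt hM k u x)) * tau hM k χ (T u * x) with hFx
  set fixd := fun (x : GA G hM k) (u : U) => cj (gU hM k (u : G)) x = x
  have hxCS : ∀ x ∈ X, ∀ u ∈ U, cj (gU hM k u) x = x → x ∈ CS hM k (Subgroup.zpowers u) y := by
    intro x hx u hu hfix
    refine (mem_CS_cj hM k).2 ⟨fun v hv => ?_, (mem_cen_iff_cj hM k).1 (hX.mem x hx).1 y rfl⟩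
    exact (show v ∈ stabU hM k U x from Subgroup.zpowers_le.2 (show u ∈ stabU hM k U x from
      ⟨hu, hfix⟩) hv).2
  -- the block of a point below a pair
  have hblk : ∀ x ∈ X, ∃ η : stabU hM k U x → ℂ, Cfsg.IsGeneralizedCharacter _ η ∧
      ∀ u : stabU hM k U x, br hM k (Subgroup.zpowers (u : G)) x ≠ 0 ∧
        blkAt hM k (u : G) x ∈ Bk M (u : G) ∧
        br hM k (Subgroup.zpowers (u : G)) x * redFun hM (blkAt hM k (u : G) x) =
          br hM k (Subgroup.zpowers (u : G)) x ∧
        W (u : G) (blkAt hM k (u : G) x) = η u := by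
    intro x hx
    obtain ⟨hprim, hbr⟩ := hgood x hx
    set R := stabU hM k U x
    have hR : IsPGroup p R := hU.to_le fun u hu => hu.1
    obtain ⟨f, hf, hcomp⟩ := exists_block_compat hM k hR (fun r hr => hyU r hr.1) hprim hbr
    obtain ⟨η, hη, hWη⟩ := hW.compat R hR f hf
    refine ⟨η, hη, fun u => ?_⟩
    have hle : Subgroup.zpowers (u : G) ≤ R := Subgroup.zpowers_le.2 u.2
    have h0 : br hM k (Subgroup.zpowers (u : G)) x ≠ 0 := fun h => hbr (by
      rw [br, ← trunB_trunB hle, ← br, h, trunB_zero])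
    obtain ⟨b, hb, -⟩ := BrauerPairs.existsUnique_subpairLE hM ⟨hR, hf⟩ hle
    have hbB := (BrauerPairs.isBrauerPair_of_subpairLE ⟨hR, hf⟩ hb).2
    have h1 := hcomp _ hle b hb
    have he := blkAt_eq hM k h0 (sbc_mem_Bk hbB) h1
    exact ⟨h0, he ▸ sbc_mem_Bk hbB, he.symm ▸ h1, he.symm ▸ hWη u b hb⟩
  -- the value at one element
  have hstep1 : ∀ u : U, toR hM k (ζ (u : G) * Phi p M W χ ((u : G) * y)) =
      ∑ x ∈ X.filter (fun x => fixd x u), Fx x u := by
    rintro ⟨u, hu⟩
    set Q := Subgroup.zpowers u with hQ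
    have hQU : Q ≤ U := Subgroup.zpowers_le.2 hu
    have hfilter : X.filter (fun x => ∀ v ∈ Q, cj (gU hM k v) x = x) =
        X.filter (fun x => fixd x ⟨u, hu⟩) :=
      Finset.filter_congr fun x hx => ⟨fun h => h u (Subgroup.mem_zpowers u),
        fun h v hv => ((mem_CS_cj hM k).1 (hxCS x hx u hu h)).1 v hv⟩
    set Xu := X.filter (fun x => fixd x ⟨u, hu⟩) with hXu
    have hsum1 : ∑ x ∈ Xu, br hM k Q x = 1 := by
      have h := br_sum_eq_fixed hM k (hzp u hu) X fun v hv => hX.stable v (hQU hv)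
      rw [hX.sum, br_one, hfilter] at h
      exact h.symm
    have hmem : ∀ x ∈ Xu, blkAt hM k u x ∈ Bk M u ∧ br hM k Q x ≠ 0 ∧
        br hM k Q x * redFun hM (blkAt hM k u x) = br hM k Q x := by
      intro x hx
      obtain ⟨hx, hfix⟩ := Finset.mem_filter.1 hx
      obtain ⟨η, -, h⟩ := hblk x hx
      obtain ⟨h0, h1, h2, -⟩ := h ⟨u, hu, hfix⟩
      exact ⟨h1, h0, h2⟩
    set S := fun e => ∑ x ∈ Xu.filter (fun x => blkAt hM k u x = e), x with hS
    have hSC : ∀ e, S e ∈ CS hM k Q y := fun e => Subring.sum_mem _ fun x hx => by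
      obtain ⟨hx1, hx2⟩ := Finset.mem_filter.1 (Finset.mem_filter.1 hx).1
      exact hxCS x hx1 u hu hx2
    have hSid : ∀ e, IsIdempotentElem (S e) := by
      intro e
      show S e * S e = S e
      simp only [hS, Finset.sum_mul_sum]
      refine Finset.sum_congr rfl fun x hx => ?_
      have hxX := (Finset.mem_filter.1 (Finset.mem_filter.1 hx).1).1
      rw [Finset.sum_eq_single_of_mem x hx fun z hz hne =>
        hX.orth x hxX z (Finset.mem_filter.1 (Finset.mem_filter.1 hz).1).1 (Ne.symm hne),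
        (hX.mem x hxX).2.1.eq]
    have hEC : ∀ e ∈ Bk M u, toA hM k e ∈ CS hM k Q y := fun e he => toA_mem_cen hM k fun g hg => by
      refine isInv_Bk he g ?_
      rcases hg with hg | hg
      · obtain ⟨i, rfl⟩ := hg
        exact mem_zpowers_centralizer.2 ((Commute.refl u).zpow_right i).eq
      · rw [Set.mem_singleton_iff] at hg
        subst hg
        exact mem_zpowers_centralizer.2 (hyU u hu).symm
    have hEid : ∀ e ∈ Bk M u, IsIdempotentElem (toA hM k e) := fun e he => by
      show _ * _ = _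
      rw [← toA_conv hM k (memLocalRing_Bk hM he) (memLocalRing_Bk hM he), conv_Bk hM he he,
        if_pos rfl]
    have hbrE : ∀ e ∈ Bk M u, br hM k Q (toA hM k e) = redFun hM e := fun e he => by
      obtain ⟨b, hb, rfl⟩ := mem_Bk.1 he
      rw [br, red_toA hM k (BrauerPairs.memLocalRing_sbc hM hb)]
      exact trunB_bl_self hM Q b
    have hbrS : ∀ e ∈ Bk M u, br hM k Q (toA hM k e) = br hM k Q (S e) := by
      intro e he
      rw [hbrE e he, hS, br_sum]
      calc redFun hM e = (∑ x ∈ Xu, br hM k Q x) * redFun hM e := by rw [hsum1, one_mul]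
        _ = ∑ x ∈ Xu, if blkAt hM k u x = e then br hM k Q x else 0 := by
            rw [Finset.sum_mul]
            refine Finset.sum_congr rfl fun x hx => ?_
            obtain ⟨h1, h0, h2⟩ := hmem x hx
            split_ifs with h
            · rw [← h, h2]
            · conv_lhs => rw [← h2, mul_assoc, redFun_mul hM (memLocalRing_Bk hM h1)
                (memLocalRing_Bk hM he), conv_Bk hM h1 he, if_neg h]
              have : redFun hM (0 : G → ℂ) = (0 : ModAlg G M) := alg_ext fun z => by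
                rw [coeff_redFun]
                exact (residue hM).map_zero.trans (by simp)
              rw [this, mul_zero]
        _ = _ := (Finset.sum_filter _ _).symm
    have htau : ∀ e ∈ Bk M u, toR hM k (sect χ u e y) = tau hM k χ (T u * S e) := fun e he => by
      rw [← tau_eq_of_br hM k hχc (hzp u hu) hy (hyU u hu) (hEC e he) (hEid e he) (hSC e) (hSid e)
        (hbrS e he), tau_single_mul_toA hM k (memLocalRing_Bk hM he) hχR]
      rfl
    show toR hM k (ζ u * Phi p M W χ (u * y)) = _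
    rw [toR_mul hM k (hζR u hu) (hPhiR u hu), hPhi u hu, toR_sum hM k _ fun e he =>
      (localRing hM).mul_mem (hWR u hu e he) (hsectR u e he y), Finset.mul_sum,
      ← Finset.sum_fiberwise_of_maps_to (g := blkAt hM k u) (t := Bk M u)
        fun x hx => (hmem x hx).1]
    refine Finset.sum_congr rfl fun e he => ?_
    rw [toR_mul hM k (hWR u hu e he) (hsectR u e he y), htau e he, hS, Finset.mul_sum, map_sum,
      Finset.mul_sum, Finset.mul_sum]
    refine Finset.sum_congr rfl fun x hx => ?_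
    simp only [hFx]
    rw [(Finset.mem_filter.1 hx).2, mul_assoc]
  -- the sum belonging to one point
  set Tx := fun x : GA G hM k => ∑ u ∈ Finset.univ.filter (fixd x), Fx x u with hTx
  have hdiv : ∀ x ∈ X, ∃ c : RN hM k, Tx x = (Nat.card (stabU hM k U x) : RN hM k) * c := by
    intro x hx
    have hx' := hblk x hx
    set R := stabU hM k U x with hR
    obtain ⟨η, hη, h⟩ := hx'
    letI := Fintype.ofFinite R
    have hRU : R ≤ U := fun u hu => hu.1
    have hζη : Cfsg.IsGeneralizedCharacter R (fun r : R => ζ r * η r) := by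
      refine Char.isGeneralized_mul ?_ hη
      obtain ⟨a, b, ha, hb, e⟩ := hζ
      exact ⟨fun r => a ⟨r, hRU r.2⟩, fun r => b ⟨r, hRU r.2⟩,
        Char.isCharacter_comp (Subgroup.inclusion hRU) ha,
        Char.isCharacter_comp (Subgroup.inclusion hRU) hb,
        funext fun r => congrFun e ⟨r, hRU r.2⟩⟩
    set xh : G → ℂ := fun g => ofR hM k (x.coeff g) with hxh
    have hxR : ∀ g, Cfsg.MemLocalRing M (xh g) := fun g => memLocalRing_ofR hM k _
    have hxA : x = toA hM k xh := alg_ext fun g => by rw [coeff_toA, hxh, toR_ofR]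
    have hxinv : ∀ r ∈ R, ∀ g, xh (r * g * r⁻¹) = xh g := fun r hr g => by
      have h2 := congrArg (fun z : GA G hM k => z.coeff (r * g * r⁻¹)) hr.2
      simp only [coeff_cj] at h2
      rw [show r⁻¹ * (r * g * r⁻¹) * r = g by group] at h2
      simp only [hxh, h2]
    have hloc := memLocalRing_twisted_sum_gen hM hχ R (hU.to_le hRU) hζη
      (h := fun g => xh (y⁻¹ * g)) (fun g => hxR _) fun r hr g => by
        have e : y⁻¹ * (r * g * r⁻¹) = r * (y⁻¹ * g) * r⁻¹ := by
          have h1 : y⁻¹ * r = r * y⁻¹ := ((show Commute y r from hyU r (hRU hr)).inv_left).eq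
          rw [← mul_assoc, ← mul_assoc, h1]; group
        show xh _ = xh _
        rw [e, hxinv r hr]
    refine ⟨toR hM k ((Nat.card R : ℂ)⁻¹ * ∑ r : R, ζ r * η r *
      ∑ g, xh (y⁻¹ * g) * χ ((r : G) * g)), ?_⟩
    rw [← toR_natCast hM k, ← toR_mul hM k (memLocalRing_natCast hM _) hloc,
      mul_inv_cancel_left₀ (Nat.cast_ne_zero.2 Nat.card_pos.ne'),
      toR_sum hM k _ fun r _ => (localRing hM).mul_mem
        (memLocalRing_of_isIntegral hM (isIntegral_gen hζη r))
        ((localRing hM).sum_mem fun g _ => (localRing hM).mul_mem (hxR _) (hχR _))]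
    simp only [hTx]
    refine Finset.sum_bij' (fun u hu => (⟨(u : G), u.2, (Finset.mem_filter.1 hu).2⟩ : R))
      (fun r _ => (⟨(r : G), hRU r.2⟩ : U)) (fun u _ => Finset.mem_univ _)
      (fun r _ => Finset.mem_filter.2 ⟨Finset.mem_univ _, r.2.2⟩) (fun u _ => rfl) (fun r _ => rfl)
      fun u hu => ?_
    set r : R := ⟨(u : G), u.2, (Finset.mem_filter.1 hu).2⟩
    obtain ⟨-, -, -, hWη⟩ := h r
    change W (u : G) (blkAt hM k (u : G) x) = η r at hWη
    have hηR : Cfsg.MemLocalRing M (η r) := memLocalRing_of_isIntegral hM (isIntegral_gen hη r)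
    have hζu := hζR u u.2
    rw [toR_mul hM k (x := ζ (u : G) * η r) ((localRing hM).mul_mem hζu hηR)
        ((localRing hM).sum_mem fun g _ => (localRing hM).mul_mem (hxR _) (hχR _)),
      toR_mul hM k hζu hηR, hFx]
    simp only [hWη]
    conv_lhs => rw [hxA]
    rw [tau_single_mul_toA hM k hxR hχR]
    congr 2
    refine Fintype.sum_equiv (Equiv.mulLeft y) _ _ fun g => ?_
    simp [mul_assoc, r]
  -- equivariance
  have hinvT : ∀ x ∈ X, ∀ v : U, Tx (cj (gU hM k (v : G)) x) = Tx x := by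
    intro x hx v
    obtain ⟨η, -, h⟩ := hblk x hx
    symm
    have hconj : ∀ u : U, fixd x u ↔ fixd (cj (gU hM k (v : G)) x) (v * u * v⁻¹) := by
      intro u
      have e : cj (gU hM k ((v * u * v⁻¹ : U) : G)) (cj (gU hM k (v : G)) x) =
          cj (gU hM k (v : G)) (cj (gU hM k (u : G)) x) := by
        rw [← cj_gU_mul, ← cj_gU_mul]
        congr 2
        simp
      simp only [fixd, e]
      exact (cj_injective _).eq_iff.symm
    refine Finset.sum_equiv (MulAut.conj v).toEquiv (fun u => ?_) fun u hu => ?_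
    · simp only [Finset.mem_filter, Finset.mem_univ, true_and]
      exact hconj u
    · have hfix : fixd x u := (Finset.mem_filter.1 hu).2
      obtain ⟨h0, he, hmul, -⟩ := h ⟨u, u.2, hfix⟩
      show Fx x u = Fx (cj (gU hM k (v : G)) x) (v * u * v⁻¹)
      simp only [hFx, Subgroup.coe_mul, Subgroup.coe_inv]
      have hbe : br hM k (Subgroup.zpowers ((v : G) * u * (v : G)⁻¹)) (cj (gU hM k (v : G)) x) *
          redFun hM (conjF (v : G) (blkAt hM k (u : G) x)) =
          br hM k (Subgroup.zpowers ((v : G) * u * (v : G)⁻¹)) (cj (gU hM k (v : G)) x) := by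
        rw [← cjB_br, ← cjB_redFun, ← cjB_mul]
        exact congrArg _ hmul
      have h0' : br hM k (Subgroup.zpowers ((v : G) * u * (v : G)⁻¹))
          (cj (gU hM k (v : G)) x) ≠ 0 := by
        rw [← cjB_br]
        intro h1
        refine h0 (alg_ext fun z => ?_)
        have := congrArg (fun b : ModAlg G M => b.coeff ((v : G) * z * (v : G)⁻¹)) h1
        simp only [coeff_cjB] at this
        rw [show (v : G)⁻¹ * ((v : G) * z * (v : G)⁻¹) * v = z by group] at this
        rw [this]
        simp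
      rw [blkAt_eq hM k h0' (conjF_mem_Bk he _) hbe, hW.conj, hζc]
      congr 1
      rw [← tau_cj hM k hχc (gU hM k (v : G)), cj_mul]
      congr 2
      simp only [T, cj, ← map_inv, coe_gU, MonoidAlgebra.single_mul_single, mul_one, one_mul]
      congr 1
      rw [mul_assoc (v : G), mul_assoc (u : G) y, hyU _ (U.inv_mem v.2)]
      group
  -- collecting orbits
  set orb := fun x : GA G hM k => Finset.univ.image fun v : U => cj (gU hM k (v : G)) x
  have hS : ∃ c : RN hM k, ∑ x ∈ X, Tx x = (Nat.card U : RN hM k) * c := by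
    have hdvd : (Nat.card U : RN hM k) ∣ ∑ x ∈ X, Tx x := by
      rw [← Finset.sum_fiberwise_of_maps_to (g := orb) (t := X.image orb)
        fun x hx => Finset.mem_image_of_mem _ hx]
      refine Finset.dvd_sum fun O hO => ?_
      obtain ⟨x, hx, rfl⟩ := Finset.mem_image.1 hO
      have hfib : X.filter (fun z => orb z = orb x) = orb x := by
        ext z
        simp only [Finset.mem_filter, orb, Finset.mem_image, Finset.mem_univ, true_and]
        constructor
        · rintro ⟨-, e⟩
          have : z ∈ Finset.univ.image (fun v : U => cj (gU hM k (v : G)) x) :=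
            e ▸ Finset.mem_image.2 ⟨1, Finset.mem_univ _, by simp [cj]⟩
          simpa using this
        · rintro ⟨v, rfl⟩
          refine ⟨hX.stable _ v.2 x hx, ?_⟩
          ext w
          simp only [Finset.mem_image, Finset.mem_univ, true_and]
          constructor
          · rintro ⟨a, rfl⟩
            exact ⟨a * v, by rw [Subgroup.coe_mul, cj_gU_mul]⟩
          · rintro ⟨a, rfl⟩
            exact ⟨a * v⁻¹, by rw [← cj_gU_mul]; congr 2; simp⟩
      rw [hfib, Finset.sum_congr rfl (g := fun _ => Tx x) fun z hz => ?_]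
      · obtain ⟨c, hc⟩ := hdiv x hx
        rw [Finset.sum_const, hc, nsmul_eq_mul, ← mul_assoc, ← Nat.cast_mul]
        have hcard : (orb x).card * Nat.card (stabU hM k U x) = Nat.card U := by
          rw [Nat.card_eq_fintype_card (α := U), ← Finset.card_univ,
            Finset.card_eq_sum_card_image (fun v : U => cj (gU hM k (v : G)) x) Finset.univ]
          refine (Finset.sum_const_nat fun z hz => ?_).symm
          obtain ⟨a, -, rfl⟩ := Finset.mem_image.1 hz
          rw [← Nat.card_eq_finsetCard]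
          refine Nat.card_congr
            { toFun := fun b => ⟨((a⁻¹ * b.1 : U) : G), (a⁻¹ * b.1).2, ?_⟩
              invFun := fun r => ⟨a * ⟨(r : G), r.2.1⟩, ?_⟩
              left_inv := fun b => Subtype.ext (Subtype.ext (by simp))
              right_inv := fun r => Subtype.ext (by simp) }
          · have hb := (Finset.mem_filter.1 b.2).2
            rw [Subgroup.coe_mul, cj_gU_mul, hb, ← cj_gU_mul]
            simp [cj]
          · refine Finset.mem_filter.2 ⟨Finset.mem_univ _, ?_⟩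
            rw [Subgroup.coe_mul, cj_gU_mul]
            exact congrArg _ r.2.2
        rw [hcard]
        exact dvd_mul_right _ _
      · obtain ⟨v, -, rfl⟩ := Finset.mem_image.1 hz
        exact hinvT x hx v
    exact hdvd
  obtain ⟨c, hc⟩ := hS
  obtain ⟨cc, hccR, rfl⟩ := toR_surjective hM k c
  have htot : toR hM k (∑ u : U, ζ u * Phi p M W χ ((u : G) * y)) =
      toR hM k ((Nat.card U : ℂ) * cc) := by
    rw [toR_sum hM k _ fun (u : U) _ => (localRing hM).mul_mem (hζR u u.2) (hPhiR u u.2),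
      Finset.sum_congr rfl fun u _ => hstep1 u, toR_mul hM k (memLocalRing_natCast hM _) hccR,
      toR_natCast, ← hc, hTx]
    simp only [Finset.sum_filter]
    exact Finset.sum_comm
  have hsumR : Cfsg.MemLocalRing M (∑ u : U, ζ u * Phi p M W χ ((u : G) * y)) :=
    (localRing hM).sum_mem fun u _ => (localRing hM).mul_mem (hζR u u.2) (hPhiR u u.2)
  rw [toR_of_mem hM k hsumR,
    toR_of_mem hM k ((localRing hM).mul_mem (memLocalRing_natCast hM _) hccR), Ideal.Quotient.eq,
    Ideal.mem_span_singleton] at htot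
  obtain ⟨d, hd⟩ := htot
  have hd' := congrArg Subtype.val hd
  simp only [AddSubgroupClass.coe_sub, Subring.coe_mul, SubmonoidClass.coe_pow,
    Subring.coe_natCast] at hd'
  have hUne : (Nat.card U : ℂ) ≠ 0 := Nat.cast_ne_zero.2 Nat.card_pos.ne'
  have : (Nat.card U : ℂ)⁻¹ * ∑ u : U, ζ u * Phi p M W χ ((u : G) * y) =
      cc + (p : ℂ) * (d : ℂ) := by
    rw [inv_mul_eq_iff_eq_mul₀ hUne, sub_eq_iff_eq_add.1 hd', hk, Nat.cast_pow, pow_succ]
    ring
  rw [this]
  exact (localRing hM).add_mem hccR ((localRing hM).mul_mem (memLocalRing_natCast hM _) d.2)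

end Cfsg.Agent.Blocks.Star
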